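/-
Vector stabilisers in soluble linear groups, 1: bounds on derived lengths.
-/
import Mathlib.GroupTheory.Solvable
import Mathlib.GroupTheory.PGroup
import Mathlib.GroupTheory.SpecificGroups.Cyclic

set_option autoImplicit false
set_option linter.style.haveILetI false
set_option linter.deprecated false

namespace Cfsg.Agent.StabDL

universe u v w

/-- The derived length is at most `n`. -/
def DL (G : Type*) [Group G] (n : ℕ) : Prop := derivedSeries G n = ⊥

variable {G : Type u} [Group G] {H : Type v} [Group H] {a b n m : ℕ}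

theorem DL.mono (h : DL G n) (hnm : n ≤ m) : DL G m :=
  eq_bot_mono (derivedSeries_antitone G hnm) h

theorem DL.of_injective (f : G →* H) (hf : Function.Injective f) (h : DL H n) : DL G n :=
  (Subgroup.map_eq_bot_iff_of_injective _ hf).1 (eq_bot_mono (map_derivedSeries_le_derivedSeries f n) h)

theorem DL.of_surjective (f : G →* H) (hf : Function.Surjective f) (h : DL G n) : DL H n := by
  rw [DL, ← map_derivedSeries_eq hf n, h, Subgroup.map_bot]

theorem DL.range (f : G →* H) (h : DL G n) : DL f.range n :=
  h.of_surjective f.rangeRestrict f.rangeRestrict_surjective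

theorem DL.subgroup (K : Subgroup G) (h : DL G n) : DL K n := h.of_injective K.subtype K.subtype_injective

theorem DL.of_le {K L : Subgroup G} (hKL : K ≤ L) (h : DL L n) : DL K n :=
  h.of_injective (Subgroup.inclusion hKL) (Subgroup.inclusion_injective hKL)

theorem DL.congr (e : G ≃* H) (h : DL G n) : DL H n := h.of_surjective e.toMonoidHom e.surjective

theorem dl_zero [Subsingleton G] : DL G n := Subsingleton.elim _ _

theorem dl_one (h : ∀ x y : G, x * y = y * x) : DL G 1 := by
  rw [DL, derivedSeries_one, commutator_def, Subgroup.commutator_eq_bot_iff_le_centralizer]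
  exact fun x _ y _ => h y x

/-- An extension. -/
theorem DL.ext_le (N : Subgroup G) (hN : derivedSeries G a ≤ N) (h : DL N b) : DL G (a + b) := by
  have key : ∀ j, derivedSeries G (a + j) ≤ (derivedSeries N j).map N.subtype := by
    intro j
    induction j with
    | zero =>
      intro x hx
      exact ⟨⟨x, hN hx⟩, Subgroup.mem_top _, rfl⟩
    | succ j ih =>
      rw [← Nat.add_assoc, derivedSeries_succ, derivedSeries_succ, Subgroup.map_commutator]
      exact Subgroup.commutator_mono ih ih
  exact eq_bot_mono (key b) (by rw [h, Subgroup.map_bot])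

theorem DL.ext (f : G →* H) (hH : DL H a) (hK : DL f.ker b) : DL G (a + b) :=
  hK.ext_le f.ker fun x hx => MonoidHom.mem_ker.2 (by
    have h : f x ∈ derivedSeries H a := map_derivedSeries_le_derivedSeries f a ⟨x, hx, rfl⟩
    rwa [hH, Subgroup.mem_bot] at h)

/-- A joint embedding. -/
theorem DL.pi {ι : Type*} {K : ι → Type w} [∀ i, Group (K i)] (f : ∀ i, G →* K i)
    (hinj : ∀ x, (∀ i, f i x = 1) → x = 1) (h : ∀ i, DL (K i) n) : DL G n := by
  refine (Subgroup.eq_bot_iff_forall _).2 fun x hx => hinj x fun i => ?_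
  have h' : f i x ∈ derivedSeries (K i) n := map_derivedSeries_le_derivedSeries (f i) n ⟨x, hx, rfl⟩
  rwa [h i, Subgroup.mem_bot] at h'

/-- The subgroup generated by the derived subgroup is abelian-quotient. -/
theorem commutator_le_of_comm (N : Subgroup G) [N.Normal] (h : ∀ x y : G ⧸ N, x * y = y * x) :
    derivedSeries G 1 ≤ N := fun x hx => (QuotientGroup.eq_one_iff x).1 (by
  have h' : (QuotientGroup.mk' N x) ∈ derivedSeries (G ⧸ N) 1 :=
    map_derivedSeries_le_derivedSeries (QuotientGroup.mk' N) 1 ⟨x, hx, rfl⟩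
  rw [dl_one h, Subgroup.mem_bot] at h'
  exact h')

section Small

variable [Finite G]

theorem comm_of_card_lt_six (h : Nat.card G < 6) : ∀ x y : G, x * y = y * x := by
  have hpos := Nat.card_pos (α := G)
  have hcyc : ∀ p : ℕ, p.Prime → Nat.card G = p → ∀ x y : G, x * y = y * x := fun p hp hc x y => by
    haveI := Fact.mk hp
    haveI := isCyclic_of_prime_card hc
    obtain ⟨g, hg⟩ := IsCyclic.exists_generator (α := G)
    obtain ⟨i, rfl⟩ := hg x
    obtain ⟨j, rfl⟩ := hg y
    exact (Commute.zpow_zpow_self g i j).eq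
  rcases (show Nat.card G = 1 ∨ Nat.card G = 2 ∨ Nat.card G = 3 ∨ Nat.card G = 4 ∨ Nat.card G = 5 by omega) with
    h | h | h | h | h
  · haveI := (Nat.card_eq_one_iff_unique.1 h).1
    exact fun x y => Subsingleton.elim _ _
  · exact hcyc 2 Nat.prime_two h
  · exact hcyc 3 Nat.prime_three h
  · haveI : Fact (Nat.Prime 2) := ⟨Nat.prime_two⟩
    exact IsPGroup.commutative_of_card_eq_prime_sq (p := 2) (by rw [h]; norm_num)
  · exact hcyc 5 Nat.prime_five h

theorem two_mul_card_le [Group.IsSolvable G] {i : ℕ} (h : derivedSeries G i ≠ ⊥) :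
    2 * Nat.card (derivedSeries G (i + 1)) ≤ Nat.card (derivedSeries G i) := by
  have hlt : derivedSeries G (i + 1) < derivedSeries G i := Group.IsSolvable.commutator_lt_of_ne_bot h
  obtain ⟨k, hk⟩ := Subgroup.card_dvd_of_le hlt.le
  rcases (show k = 0 ∨ k = 1 ∨ 2 ≤ k by omega) with rfl | rfl | hk2
  · rw [mul_zero] at hk
    exact absurd hk Nat.card_pos.ne'
  · exact absurd (Subgroup.eq_of_le_of_card_ge hlt.le (by rw [hk, mul_one])) hlt.ne
  · rw [hk, mul_comm]
    exact Nat.mul_le_mul_left _ hk2

theorem six_le_of_ne {i : ℕ} (h : derivedSeries G (i + 1) ≠ ⊥) : 6 ≤ Nat.card (derivedSeries G i) := by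
  by_contra hlt
  refine h ?_
  rw [derivedSeries_succ, Subgroup.commutator_eq_bot_iff_le_centralizer]
  intro x hx y hy
  exact congrArg Subtype.val (comm_of_card_lt_six (not_le.1 hlt) ⟨y, hy⟩ ⟨x, hx⟩)

theorem dl_two_of_card [Group.IsSolvable G] (h : Nat.card G < 12) : DL G 2 := by
  by_contra hne
  have h1 : derivedSeries G 1 ≠ ⊥ := fun e => hne (DL.mono e one_le_two)
  have h6 := six_le_of_ne (i := 1) hne
  have h0 : derivedSeries G 0 ≠ ⊥ := fun e => h1 (DL.mono e zero_le_one)
  have h2 := two_mul_card_le h0
  rw [zero_add, derivedSeries_zero, Subgroup.card_top] at h2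
  omega

theorem dl_three_of_card [Group.IsSolvable G] (h : Nat.card G ≤ 24) : DL G 3 := by
  by_contra hne
  have h2 : derivedSeries G 2 ≠ ⊥ := fun e => hne (DL.mono e (by norm_num))
  have h0 : derivedSeries G 0 ≠ ⊥ := fun e => h2 (DL.mono e (by norm_num))
  have h1 : derivedSeries G 1 ≠ ⊥ := fun e => h2 (DL.mono e (by norm_num))
  have h6 := six_le_of_ne (i := 2) hne
  have e1 := two_mul_card_le h1
  have e0 := two_mul_card_le h0
  simp only [zero_add, derivedSeries_zero, Subgroup.card_top, Nat.reduceAdd] at e0 e1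
  have hc2 : Nat.card (derivedSeries G 2) = 6 := by omega
  have hG : Nat.card G = 24 := by omega
  set D := derivedSeries G 3 with hD
  haveI : D.Normal := derivedSeries_normal G 3
  have hDle : D ≤ derivedSeries G 2 := derivedSeries_antitone G (by norm_num)
  have hD2 : ∀ x ∈ derivedSeries G 2, ∀ y ∈ derivedSeries G 2, (QuotientGroup.mk x : G ⧸ D) * QuotientGroup.mk y =
      QuotientGroup.mk y * QuotientGroup.mk x := fun x hx y hy => by
    rw [← QuotientGroup.mk'_apply, ← QuotientGroup.mk'_apply, ← commutatorElement_eq_one_iff_mul_comm,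
      ← map_commutatorElement, QuotientGroup.mk'_apply, QuotientGroup.eq_one_iff]
    exact Subgroup.commutator_mem_commutator hx hy
  -- the third term has order three
  have hDdvd : Nat.card D ∣ 6 := hc2 ▸ Subgroup.card_dvd_of_le hDle
  have hD1 : Nat.card D ≠ 1 := fun e => hne (Subgroup.card_eq_one.1 e)
  have hD6 : Nat.card D ≠ 6 := fun e => by
    have := two_mul_card_le h2
    rw [show derivedSeries G (2 + 1) = D from rfl, hc2, e] at this
    omega
  have hDn2 : Nat.card D ≠ 2 := fun e => by
    haveI hn : (D.subgroupOf (derivedSeries G 2)).Normal := inferInstance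
    have hc : Nat.card ↥(D.subgroupOf (derivedSeries G 2)) = 2 := by
      rw [Nat.card_congr (Subgroup.subgroupOfEquivOfLe hDle).toEquiv, e]
    have hcen : D.subgroupOf (derivedSeries G 2) ≤ Subgroup.center _ := fun z hz =>
      Subgroup.mem_center_iff.2 fun g => by
        have hzc := hn.conj_mem z hz g
        by_cases hz1 : z = 1
        · rw [hz1, mul_one, one_mul]
        by_contra hne'
        have hcj : g * z * g⁻¹ ≠ z := fun e => hne' (mul_inv_eq_iff_eq_mul.1 e)
        have hcj1 : g * z * g⁻¹ ≠ 1 := fun e => hz1 (conj_eq_one_iff.1 e)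
        obtain ⟨a, b, hab, hun⟩ := Nat.card_eq_two_iff.1 hc
        have mem : ∀ w, ∀ hw : w ∈ D.subgroupOf (derivedSeries G 2),
            (⟨w, hw⟩ : ↥(D.subgroupOf (derivedSeries G 2))) = a ∨ (⟨w, hw⟩ : ↥(D.subgroupOf (derivedSeries G 2))) = b :=
          fun w hw => (hun.ge (Set.mem_univ _) : _)
        rcases mem _ hzc with e1 | e1 <;> rcases mem _ hz with e2 | e2 <;> rcases mem 1 (one_mem _) with e3 | e3 <;>
          first
            | exact hcj (congrArg Subtype.val (e1.trans e2.symm))
            | exact hcj1 (congrArg Subtype.val (e1.trans e3.symm))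
            | exact hz1 (congrArg Subtype.val (e2.trans e3.symm))
    haveI : IsCyclic (↥(derivedSeries G 2) ⧸ D.subgroupOf (derivedSeries G 2)) := by
      haveI : Fact (Nat.Prime 3) := ⟨Nat.prime_three⟩
      refine isCyclic_of_prime_card (p := 3) ?_
      have := Subgroup.card_eq_card_quotient_mul_card_subgroup (D.subgroupOf (derivedSeries G 2))
      rw [hc2, hc] at this
      omega
    refine hne ?_
    rw [DL, derivedSeries_succ, Subgroup.commutator_eq_bot_iff_le_centralizer]
    intro x hx y hy
    exact congrArg Subtype.val (commutative_of_cyclic_center_quotient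
      (QuotientGroup.mk' (D.subgroupOf (derivedSeries G 2))) (by rwa [QuotientGroup.ker_mk']) ⟨y, hy⟩ ⟨x, hx⟩)
  have hD3 : Nat.card D = 3 := by
    have := Nat.le_of_dvd (by norm_num) hDdvd
    interval_cases hk : Nat.card D <;> omega
  have hQ : Nat.card (G ⧸ D) < 12 := by
    have := Subgroup.card_eq_card_quotient_mul_card_subgroup D
    rw [hG, hD3] at this
    omega
  have hmap : (derivedSeries G 2).map (QuotientGroup.mk' D) = ⊥ := by
    rw [map_derivedSeries_eq (QuotientGroup.mk'_surjective D)]
    exact dl_two_of_card hQ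
  rw [Subgroup.map_eq_bot_iff, QuotientGroup.ker_mk'] at hmap
  have := Subgroup.card_le_of_le hmap
  omega

end Small

end Cfsg.Agent.StabDL
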