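/-
Vector stabilisers in soluble linear groups, 2: the points of a primitive soluble permutation group as a module.
-/
import Cfsg.Agent.Lib.StabDL.Basic
import Cfsg.Agent.Lib.Solvable.Primitive
import Cfsg.Agent.Lib.SolClasses.Orders

set_option autoImplicit false
set_option linter.style.haveILetI false

namespace Cfsg.Agent.StabDL

open Cfsg.Agent.PrimSol Cfsg.Agent.SolClasses

universe u

/-- The cosets of `U` are the points of an irreducible module of `U`, the group acting by affine maps. -/
structure Aff {G : Type u} [Group G] (U : Subgroup G) (p : ℕ) [Fact p.Prime] where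
  W : Type u
  [acg : AddCommGroup W]
  [mod : Module (ZMod p) W]
  [fin : Finite W]
  [nt : Nontrivial W]
  τ : U →* Module.End (ZMod p) W
  e : W ≃ G ⧸ U
  inj : Function.Injective τ
  irr : Irred τ
  aff : ∀ g : G, ∃ (u : U) (w : W), ∀ x, g • e x = e (w + τ u x)
  dl : ∀ b, DL U b → DL G (b + 1)

attribute [instance] Aff.acg Aff.mod Aff.fin Aff.nt

variable {G : Type u} [Group G] [Finite G]

theorem Aff.card {U : Subgroup G} {p : ℕ} [Fact p.Prime] (D : Aff U p) :
    U.index = p ^ Module.finrank (ZMod p) D.W := by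
  rw [Subgroup.index, ← Nat.card_congr D.e, Module.natCard_eq_pow_finrank (K := ZMod p), Nat.card_zmod]

theorem exists_aff (hsol : Group.IsSolvable G) {U : Subgroup G} (hU : IsCoatom U) (hcore : U.normalCore = ⊥) :
    ∃ (p : ℕ) (_ : Fact p.Prime), Nonempty (Aff U p) := by
  classical
  haveI := hsol
  haveI : Nontrivial G := by
    by_contra h
    rw [not_nontrivial_iff_subsingleton] at h
    exact hU.1 (Subsingleton.elim _ _)
  obtain ⟨N, p, hp, hNn, hN, -, hNc, hexp, -, hmin⟩ := SolvBasic.exists_minimal_normal_abelian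
    (N := (⊤ : Subgroup G)) inferInstance (by exact top_ne_bot)
  haveI := hNn
  haveI := hNc
  haveI := Fact.mk hp
  refine ⟨p, Fact.mk hp, ?_⟩
  have hcompl := SolvPrim.complement_of_abelian hU hcore hN
  letI : CommGroup N :=
    { (inferInstance : Group N) with mul_comm := fun a b => hNc.is_comm.comm a b }
  haveI : Module (ZMod p) (Additive N) := AddCommGroup.zmodModule fun x =>
    show (Additive.toMul x) ^ p = 1 from Subtype.ext (by
      rw [SubgroupClass.coe_pow]; exact hexp _ (Additive.toMul x).2)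
  haveI : Nontrivial N := N.nontrivial_iff_ne_bot.2 hN
  let c : U →* MulAut N := (MulAut.conjNormal (H := N)).comp U.subtype
  have hc : ∀ (u : U) (n : N), ((c u n : N) : G) = u * n * (u : G)⁻¹ := fun u n => MulAut.conjNormal_apply _ _
  have hcinj : Function.Injective c := by
    rw [injective_iff_map_eq_one]
    intro u hu
    have h1 : (u : G) ∈ Subgroup.centralizer (N : Set G) ⊓ U := by
      refine ⟨Subgroup.mem_centralizer_iff.2 fun n hn => ?_, u.2⟩
      have h := congrArg Subtype.val (MulEquiv.congr_fun hu ⟨n, hn⟩)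
      rw [hc, MulAut.one_apply] at h
      exact (mul_inv_eq_iff_eq_mul.1 h).symm
    rw [SolvPrim.centralizer_inf_eq_bot hU hcore hN, Subgroup.mem_bot] at h1
    exact Subtype.ext h1
  let ψ : Additive N → G ⧸ U := fun x => ((Additive.toMul x : N) : G)
  have hψ : Function.Bijective ψ := by
    refine ⟨fun x y h => ?_, fun q => ?_⟩
    · have h1 : ((Additive.toMul x : N) : G)⁻¹ * (Additive.toMul y : N) ∈ (N ⊓ U : Subgroup G) :=
        ⟨N.mul_mem (N.inv_mem (Additive.toMul x).2) (Additive.toMul y).2, QuotientGroup.eq.1 h⟩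
      rw [SolvPrim.inf_eq_bot_of_abelian hU hcore hN, Subgroup.mem_bot, inv_mul_eq_one] at h1
      exact Additive.toMul.injective (Subtype.ext h1)
    · obtain ⟨g, rfl⟩ := QuotientGroup.mk_surjective q
      obtain ⟨n, hn, u, hu, rfl⟩ := SolvPrim.exists_mul hU hcore hNn hN g
      exact ⟨Additive.ofMul ⟨n, hn⟩, QuotientGroup.eq.2 (by simpa [ψ] using hu)⟩
  refine ⟨{ W := Additive N, τ := (linHom p).comp c, e := Equiv.ofBijective ψ hψ
            inj := (linHom_injective p).comp hcinj, irr := ?_, aff := fun g => ?_, dl := fun b hb => ?_ }⟩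
  · have h := linHom_irred p c.range fun B hB => by
      have hBn : (B.map N.subtype).Normal := ⟨fun x hx g => by
        obtain ⟨n, hn, u, hu, rfl⟩ := SolvPrim.exists_mul hU hcore hNn hN g
        obtain ⟨y, hy, rfl⟩ := hx
        have h1 := hB (c ⟨u, hu⟩) ⟨_, rfl⟩ y hy
        refine ⟨c ⟨u, hu⟩ y, h1, ?_⟩
        rw [Subgroup.coe_subtype, hc]
        have h2 : ((c ⟨u, hu⟩ y : N) : G) * n = n * (c ⟨u, hu⟩ y : N) :=
          congrArg Subtype.val (hNc.is_comm.comm (c ⟨u, hu⟩ y) ⟨n, hn⟩)
        rw [hc] at h2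
        calc u * (y : G) * u⁻¹ = u * y * u⁻¹ * n * n⁻¹ := by group
          _ = n * (u * y * u⁻¹) * n⁻¹ := by rw [h2]
          _ = _ := by simp [mul_assoc]⟩
      refine (hmin _ hBn (Subgroup.map_subtype_le B)).imp
        (fun h => (Subgroup.map_eq_bot_iff_of_injective _ N.subtype_injective).1 h) fun h => ?_
      refine Subgroup.map_injective N.subtype_injective ?_
      rw [h, ← MonoidHom.range_eq_map, Subgroup.range_subtype]
    exact fun W hW => h W fun f w hw => by
      obtain ⟨u, hu⟩ := f.2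
      have := hW u w hw
      show (linHom p) (f : MulAut N) w ∈ W
      rwa [← hu]
  · obtain ⟨n, hn, u, hu, rfl⟩ := SolvPrim.exists_mul hU hcore hNn hN g
    refine ⟨⟨u, hu⟩, Additive.ofMul ⟨n, hn⟩, fun x => ?_⟩
    show (n * u) • ((((Additive.toMul x : N) : G) : G ⧸ U)) = ((n * (c ⟨u, hu⟩ (Additive.toMul x) : N) : G) : G ⧸ U)
    rw [MulAction.Quotient.smul_mk, smul_eq_mul, QuotientGroup.eq, hc]
    have e : (n * u * ((Additive.toMul x : N) : G))⁻¹ * (n * (u * ((Additive.toMul x : N) : G) * u⁻¹)) = u⁻¹ := by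
      group
    rw [e]
    exact U.inv_mem hu
  · refine DL.ext_le N (a := b) ?_ (dl_one fun x y => mul_comm x y)
    have hs : Function.Surjective ((QuotientGroup.mk' N).comp U.subtype) := by
      intro q
      obtain ⟨g, rfl⟩ := QuotientGroup.mk_surjective q
      obtain ⟨n, hn, u, hu, rfl⟩ := SolvPrim.exists_mul hU hcore hNn hN g
      refine ⟨⟨u, hu⟩, QuotientGroup.eq.2 ?_⟩
      have h1 := hNn.conj_mem n hn u⁻¹
      simpa [mul_assoc] using h1
    have hq : DL (G ⧸ N) b := hb.of_surjective _ hs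
    intro x hx
    refine (QuotientGroup.eq_one_iff x).1 ?_
    have h' : (QuotientGroup.mk' N x) ∈ derivedSeries (G ⧸ N) b :=
      map_derivedSeries_le_derivedSeries (QuotientGroup.mk' N) b ⟨x, hx, rfl⟩
    rwa [hq, Subgroup.mem_bot] at h'

end Cfsg.Agent.StabDL
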