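/-
Vector stabilisers in soluble linear groups, 3: derived lengths of soluble groups in small dimensions.
-/
import Cfsg.Agent.Lib.StabDL.Affine
import Cfsg.Agent.Lib.SolClasses.Blocks
import Cfsg.Agent.Lib.SolKBound.ImgOrder

set_option autoImplicit false
set_option linter.style.haveILetI false
set_option linter.unusedSectionVars false

namespace Cfsg.Agent.StabDL

open Cfsg.Agent.PrimSol Cfsg.Agent.SolClasses Cfsg.Agent.SolBase

universe u

/-- Irreducible soluble linear groups in dimension `n` over `q` elements have derived length at most `b`. -/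
def LinDL (q n b : ℕ) : Prop :=
  ∀ (_ : Fact q.Prime) (W : Type u) [AddCommGroup W] [Module (ZMod q) W] [Finite W] [Nontrivial W]
    (H : Type u) [Group H] [Finite H] (τ : H →* Module.End (ZMod q) W),
    Module.finrank (ZMod q) W = n → Function.Injective τ → Irred τ → Group.IsSolvable H → DL H b

/-- Irreducible soluble linear groups in dimension `n` over `q` elements have derived length at most `b` or order at
most `c`. -/
def LinOr (q n b c : ℕ) : Prop :=
  ∀ (_ : Fact q.Prime) (W : Type u) [AddCommGroup W] [Module (ZMod q) W] [Finite W] [Nontrivial W]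
    (H : Type u) [Group H] [Finite H] (τ : H →* Module.End (ZMod q) W),
    Module.finrank (ZMod q) W = n → Function.Injective τ → Irred τ → Group.IsSolvable H → DL H b ∨ Nat.card H ≤ c

theorem LinDL.mono {q n b b' : ℕ} (h : LinDL.{u} q n b) (hb : b ≤ b') : LinDL.{u} q n b' := by
  intro hq W _ _ _ _ H _ _ τ hn hτ hirr hs
  exact (h hq W H τ hn hτ hirr hs).mono hb

theorem LinDL.linOr {q n b c : ℕ} (h : LinDL.{u} q n b) : LinOr.{u} q n b c := by
  intro hq W _ _ _ _ H _ _ τ hn hτ hirr hs
  exact Or.inl (h hq W H τ hn hτ hirr hs)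

/-- Soluble transitive groups of degree `t` have derived length at most `b`. -/
def PermDL (t b : ℕ) : Prop :=
  ∀ (G : Type u) [Group G] [Finite G], Group.IsSolvable G → ∀ U : Subgroup G, U.index = t →
    DL (G ⧸ U.normalCore) b

/-- The symplectic images on `e * e` elements have derived length at most `b`. -/
def ImgDL (e b : ℕ) : Prop :=
  ∀ (Y M C : Type u) [Group Y] [Finite Y] [CommGroup M] [CommGroup C] [Finite M] [Finite C] [IsCyclic C]
    (S : Sympl Y M C), Nat.card M = e * e → Group.IsSolvable Y →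
      (∀ x : M, ∃ k : ℕ, Squarefree k ∧ x ^ k = 1) → DL S.img b

section Prim

variable {q : ℕ} [Fact q.Prime] {W : Type u} [AddCommGroup W] [Module (ZMod q) W] [Finite W] [Nontrivial W]
  {H : Type u} [Group H] [Finite H] {τ : H →* Module.End (ZMod q) W}

/-- Conjugation on the scalars of a primitive group is by commuting automorphisms. -/
theorem comm_mod_cent (hτ : Function.Injective τ) (hirr : Irred τ) (hprim : NoDecomp τ) {A : Subgroup H}
    [A.Normal] (hA : ∀ x ∈ A, ∀ y ∈ A, x * y = y * x) :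
    ∀ x y : H ⧸ Subgroup.centralizer (A : Set H), x * y = y * x := by
  classical
  have hK := isScalars hirr hprim (A := A) ⟨⟨fun a b => Subtype.ext (hA a a.2 b b.2)⟩⟩
  haveI : Finite (Module.End (ZMod q) W) := Finite.of_injective _ DFunLike.coe_injective
  have hfield : IsField (alg τ A) :=
    { exists_pair_ne := ⟨0, 1, fun h => zero_ne_one (congrArg Subtype.val h)⟩
      mul_comm := fun x y => Subtype.ext (hK.comm x x.2 y y.2)
      mul_inv_cancel := fun {x} hx => by
        obtain ⟨k, hk, hk'⟩ := hK.inv x x.2 (fun h => hx (Subtype.ext h))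
        exact ⟨⟨k, hk⟩, Subtype.ext ((hK.comm x x.2 k hk).trans hk')⟩ }
  letI : Field (alg τ A) := hfield.toField
  let j : A →* alg τ A :=
    { toFun := fun x => ⟨τ x, Algebra.subset_adjoin ⟨x, x.2, rfl⟩⟩
      map_one' := Subtype.ext (by simp)
      map_mul' := fun x y => Subtype.ext (by simp) }
  have hj : Function.Injective j := fun x y h => Subtype.ext (hτ (congrArg Subtype.val h))
  haveI : IsCyclic A := isCyclic_of_injective_ringHom j hj
  intro x y
  obtain ⟨g, rfl⟩ := QuotientGroup.mk_surjective x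
  obtain ⟨h, rfl⟩ := QuotientGroup.mk_surjective y
  rw [← QuotientGroup.mk_mul, ← QuotientGroup.mk_mul, QuotientGroup.eq, Subgroup.mem_centralizer_iff]
  intro a ha
  have hc : (MulAut.conjNormal g : MulAut A) * MulAut.conjNormal h = MulAut.conjNormal h * MulAut.conjNormal g :=
    (IsCyclic.mulAutMulEquiv A).injective (by rw [map_mul, map_mul, mul_comm])
  have he := congrArg Subtype.val (MulEquiv.congr_fun hc ⟨a, ha⟩)
  simp only [MulAut.mul_apply, MulAut.conjNormal_apply] at he
  calc a * ((g * h)⁻¹ * (h * g)) = (g * h)⁻¹ * (g * (h * a * h⁻¹) * g⁻¹) * (h * g) := by group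
    _ = (g * h)⁻¹ * (h * (g * a * g⁻¹) * h⁻¹) * (h * g) := by rw [he]
    _ = _ := by group

/-- A primitive group from the image on its layer. -/
theorem prim_dl_data (hτ : Function.Injective τ) (hirr : Irred τ) (hprim : NoDecomp τ) (hsol : Group.IsSolvable H)
    {r q' : ℕ} (P : PrimData H q' r) {e : ℕ} (he : e * e = Nat.card P.M) :
    (e = 1 → DL H 2) ∧ ∀ b, ImgDL.{u} e b → DL H (b + 3) ∧ (P.a = 1 → DL H (b + 2)) := by
  haveI := P.A_normal
  haveI := P.E_normal
  haveI := P.Y1_normal
  have hY1 : ∀ x y : H ⧸ P.S.Y1, x * y = y * x := by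
    have h := comm_mod_cent hτ hirr hprim (A := P.A) P.A_comm
    intro x y
    obtain ⟨g, rfl⟩ := QuotientGroup.mk_surjective x
    obtain ⟨k, rfl⟩ := QuotientGroup.mk_surjective y
    have h' := h g k
    rw [← QuotientGroup.mk_mul, ← QuotientGroup.mk_mul, QuotientGroup.eq] at h' ⊢
    rwa [P.cent_eq]
  let f : P.S.Y1 →* MulAut P.M := P.S.act.comp P.S.Y1.subtype
  have hf : f.range = P.S.img := by rw [MonoidHom.range_comp, Subgroup.range_subtype]; rfl
  have hker : f.ker = P.E.subgroupOf P.S.Y1 := by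
    ext x
    rw [Subgroup.mem_subgroupOf, ← P.act_ker]
    exact ⟨fun h => ⟨h, x.2⟩, fun h => h.1⟩
  have hA1 : DL P.A 1 := dl_one fun x y => Subtype.ext (P.A_comm x x.2 y y.2)
  have hE2 : DL P.E 2 := by
    refine DL.ext_le (P.A.subgroupOf P.E) (a := 1) ?_ (hA1.congr (Subgroup.subgroupOfEquivOfLe P.A_le).symm)
    rw [derivedSeries_one, commutator_def, Subgroup.commutator_le]
    exact fun x _ y _ => P.E_der x x.2 y y.2
  have hfrom : ∀ c, DL P.E c → ∀ b, DL P.S.img b → DL P.S.Y1 (b + c) := fun c hc b hb => by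
    refine DL.ext f.rangeRestrict (hb.congr (MulEquiv.subgroupCongr hf.symm)) ?_
    rw [MonoidHom.ker_rangeRestrict, hker]
    exact hc.congr (Subgroup.subgroupOfEquivOfLe P.E_le_cent).symm
  have hG : ∀ c, DL P.S.Y1 c → DL H (1 + c) := fun c hc =>
    hc.ext_le P.S.Y1 (commutator_le_of_comm P.S.Y1 hY1)
  refine ⟨fun h1 => ?_, fun b hb => ?_⟩
  · subst h1
    have hEA : P.E ≤ P.A := Subgroup.relIndex_eq_one.1 (by rw [← P.card_M, ← he])
    haveI : Subsingleton P.M := (Nat.card_eq_one_iff_unique.1 (by rw [← he])).1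
    haveI : Subsingleton (MulAut P.M) := ⟨fun a b => MulEquiv.ext fun _ => Subsingleton.elim _ _⟩
    exact hG 1 (hfrom 1 (DL.of_le hEA hA1) 0 dl_zero)
  · have hb' := hb H P.M P.C P.S he.symm hsol P.M_sqfree
    have h2 := hfrom 2 hE2 b hb'
    refine ⟨(hG _ h2).mono (by omega), fun ha => ?_⟩
    have htop : P.S.Y1 = ⊤ := Subgroup.index_eq_one.1 (le_antisymm (ha ▸ P.Y1_index)
      (Nat.pos_of_ne_zero Subgroup.index_ne_zero_of_finite))
    exact h2.congr ((MulEquiv.subgroupCongr htop).trans Subgroup.topEquiv)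

/-- The parameters of a primitive group. -/
theorem prim_dl {n : ℕ} (hn : Module.finrank (ZMod q) W = n) (hτ : Function.Injective τ) (hirr : Irred τ)
    (hprim : NoDecomp τ) (hsol : Group.IsSolvable H) :
    ∃ a d e, a * d = n ∧ 0 < a ∧ 0 < e ∧ e ≤ d ∧ (∀ l : ℕ, l.Prime → l ∣ e → l ∣ q ^ a - 1) ∧
      (e = 1 → DL H 2) ∧ ∀ b, ImgDL.{u} e b → DL H (b + 3) ∧ (a = 1 → DL H (b + 2)) := by
  obtain ⟨P, -, -, -⟩ := exists_primData_ext τ hτ hirr hprim hsol
  obtain ⟨e, he, he0⟩ := SolKBound.card_M_eq_square P.S hsol P.M_sqfree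
  refine ⟨P.a, P.d, e, P.dim.trans hn, P.a_pos, he0, Nat.mul_self_le_mul_self_iff.1 (he ▸ P.M_le), fun l hl hle => ?_,
    prim_dl_data hτ hirr hprim hsol P he⟩
  have := P.M_prime l hl (he ▸ hle.mul_right e)
  exact (congrArg (fun z => l ∣ z ^ P.a - 1) (Nat.card_zmod q)).mp this

/-- An imprimitive group from a block and the permutations. -/
theorem blocks_dl (B : Blocks τ) (hτ : Function.Injective τ) (hirr : Irred τ) (hsol : Group.IsSolvable H)
    {x c : ℕ} (hx : PermDL.{u} B.t x) (hc : LinDL.{u} q B.s c) : DL H (x + c) := by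
  classical
  haveI := hsol
  let i0 : Fin B.t := ⟨0, by have := B.two_le; omega⟩
  letI : MulAction H (Fin B.t) := MulAction.compHom _ B.π
  have htr : MulAction.IsPretransitive H (Fin B.t) := ⟨fun i j => B.orbit hirr i j⟩
  have hidx : (B.stab i0).index = B.t := by
    have h := MulAction.index_stabilizer_of_transitive H i0
    rw [Nat.card_fin] at h
    exact h
  refine DL.ext B.π.rangeRestrict ?_ ?_
  · have hle : (B.stab i0).normalCore ≤ B.π.rangeRestrict.ker := fun k hk => by
      rw [MonoidHom.ker_rangeRestrict, MonoidHom.mem_ker]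
      refine Equiv.ext fun i => ?_
      obtain ⟨g, hg⟩ := B.orbit hirr i0 i
      have h2 : B.π (g⁻¹ * k * g⁻¹⁻¹) i0 = i0 := B.stab_apply (hk g⁻¹)
      rw [inv_inv, map_mul, map_mul, map_inv, Equiv.Perm.mul_apply, Equiv.Perm.mul_apply, hg,
        Equiv.Perm.inv_eq_iff_eq, hg] at h2
      exact h2
    exact (hx H hsol _ hidx).of_surjective (QuotientGroup.lift _ B.π.rangeRestrict hle) fun y => by
      obtain ⟨g, rfl⟩ := B.π.rangeRestrict_surjective y
      exact ⟨(g : H ⧸ _), rfl⟩
  · rw [MonoidHom.ker_rangeRestrict]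
    haveI : ∀ i, Finite (Module.End (ZMod q) (B.D i))ˣ := fun i => by
      haveI : Finite (Module.End (ZMod q) (B.D i)) := Finite.of_injective _ DFunLike.coe_injective
      exact Finite.of_injective _ Units.val_injective
    refine DL.pi (fun i => ((B.blockHom i).toHomUnits.rangeRestrict).comp (Subgroup.inclusion (B.ker_le_stab i)))
      (fun n hn => B.bl_joint hτ n fun i => congrArg Subtype.val (hn i)) fun i => ?_
    haveI : Nontrivial (B.D i) := Submodule.nontrivial_iff_ne_bot.2 (B.D_ne i)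
    set f := (B.blockHom i).toHomUnits with hf
    have hs : Group.IsSolvable f.range := Group.isSolvable_of_surjective f.rangeRestrict_surjective
    exact hc inferInstance (B.D i) f.range ((Units.coeHom _).comp f.range.subtype) (B.rank i)
      (Units.val_injective.comp Subtype.val_injective)
      (fun X hX => B.blockHom_irred hirr i X fun k w hw => hX ⟨f k, k, rfl⟩ w hw) hs

end Prim

/-- The recursion for linear groups. -/
theorem linDL_of {q n b : ℕ} (hb : 2 ≤ b)
    (hp : q.Prime → ∀ a d e, a * d = n → 0 < a → 2 ≤ e → e ≤ d → ¬ q ∣ e → (q = 2 → 2 ≤ a) →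
      ∃ y, ImgDL.{u} e y ∧ (y + 3 ≤ b ∨ (a = 1 ∧ y + 2 ≤ b)))
    (hi : q.Prime → ∀ t s, 2 ≤ t → t * s = n → ∃ x c, PermDL.{u} t x ∧ LinDL.{u} q s c ∧ x + c ≤ b) :
    LinDL.{u} q n b := by
  intro hq W _ _ _ _ H _ _ τ hn hτ hirr hsol
  by_cases hprim : NoDecomp τ
  · obtain ⟨a, d, e, had, ha, he, hed, hl, h1, hy⟩ := prim_dl hn hτ hirr hprim hsol
    rcases (show e = 1 ∨ 2 ≤ e by omega) with rfl | he2
    · exact (h1 rfl).mono hb
    have hqe : ¬ q ∣ e := fun h => by
      have h1 : q ∣ q ^ a - 1 := hl q hq.out h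
      have h2 : q ∣ q ^ a := dvd_pow_self q ha.ne'
      have h3 : 1 ≤ q ^ a := Nat.one_le_pow _ _ hq.out.pos
      have h4 := Nat.dvd_sub h2 h1
      rw [Nat.sub_sub_self h3] at h4
      exact hq.out.ne_one (Nat.dvd_one.1 h4)
    have hq2 : q = 2 → 2 ≤ a := fun h => by
      by_contra hlt
      obtain rfl : a = 1 := by omega
      subst h
      obtain ⟨l, hl', hle⟩ := Nat.exists_prime_and_dvd (show e ≠ 1 by omega)
      exact hl'.ne_one (Nat.dvd_one.1 (by simpa using hl l hl' hle))
    obtain ⟨y, hy', h | ⟨ha1, h⟩⟩ := hp hq.out a d e had ha he2 hed hqe hq2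
    · exact (hy y hy').1.mono h
    · exact ((hy y hy').2 ha1).mono h
  · obtain ⟨B⟩ := exists_blocks hprim
    obtain ⟨x, c, hx, hc, hxc⟩ := hi hq.out B.t B.s B.two_le (B.dim.trans hn)
    exact (blocks_dl B hτ hirr hsol hx hc).mono hxc

/-- The recursion for transitive groups. -/
theorem permDL_of {t b : ℕ} (hp : ∀ p k, p.Prime → 0 < k → t = p ^ k → ∃ c, LinDL.{u} p k c ∧ c + 1 ≤ b)
    (hi : ∀ a s, 2 ≤ a → 2 ≤ s → a * s = t → ∃ x y, PermDL.{u} a x ∧ PermDL.{u} s y ∧ x + y ≤ b) :
    PermDL.{u} t b := by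
  intro G _ _ hsol U hn
  classical
  haveI := hsol
  rcases eq_or_ne U ⊤ with rfl | hU
  · haveI : Subsingleton (G ⧸ (⊤ : Subgroup G).normalCore) := by
      rw [top_le_iff.1 (Subgroup.normal_le_normalCore.2 (le_refl (⊤ : Subgroup G)))]
      exact QuotientGroup.subsingleton_quotient_top
    exact dl_zero
  obtain ⟨M, hM, hUM⟩ := (eq_top_or_exists_le_coatom U).resolve_left hU
  rcases eq_or_lt_of_le hUM with rfl | hlt
  · set π := QuotientGroup.mk' U.normalCore
    have hπ : Function.Surjective π := QuotientGroup.mk'_surjective _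
    have hker : π.ker ≤ U := by rw [QuotientGroup.ker_mk']; exact U.normalCore_le
    have hidx : (U.map π).index = t := by rw [Subgroup.index_map_eq _ hπ hker, hn]
    have hco : IsCoatom (U.map π) := by
      refine ⟨fun h => hM.1 ?_, fun K hK => ?_⟩
      · rw [← Subgroup.comap_map_eq_self hker, h, Subgroup.comap_top]
      · have h1 : U < K.comap π :=
          (Subgroup.comap_map_eq_self hker).symm.trans_lt ((Subgroup.comap_lt_comap_of_surjective hπ).2 hK)
        rw [← Subgroup.map_comap_eq_self_of_surjective hπ K, hM.2 _ h1, Subgroup.map_top_of_surjective _ hπ]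
    have hcf : (U.map π).normalCore = ⊥ := by
      rw [eq_bot_iff]
      intro x hx
      obtain ⟨g, rfl⟩ := hπ x
      have hle : (U.map π).normalCore.comap π ≤ U.normalCore :=
        Subgroup.normal_le_normalCore.2 ((Subgroup.comap_mono (U.map π).normalCore_le).trans
          (Subgroup.comap_map_eq_self hker).le)
      exact (QuotientGroup.eq_one_iff g).2 (hle hx)
    obtain ⟨p, hp', ⟨D⟩⟩ := exists_aff (inferInstance : Group.IsSolvable (G ⧸ U.normalCore)) hco hcf
    have hcard := D.card
    rw [hidx] at hcard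
    obtain ⟨c, hc, hcb⟩ := hp p _ hp'.out Module.finrank_pos hcard
    exact (D.dl c (hc hp' D.W ↥(U.map π) D.τ rfl D.inj D.irr inferInstance)).mono hcb
  · have hmul : U.relIndex M * M.index = t := (Subgroup.relIndex_mul_index hUM).trans hn
    have hb2 : 2 ≤ U.relIndex M := by
      have h0 : U.relIndex M ≠ 0 := fun h => Subgroup.index_ne_zero_of_finite (by rw [hn, ← hmul, h, zero_mul])
      have h1 : U.relIndex M ≠ 1 := fun h => absurd (Subgroup.relIndex_eq_one.1 h) hlt.not_ge
      omega
    have ha2 : 2 ≤ M.index := by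
      have h0 : M.index ≠ 0 := Subgroup.index_ne_zero_of_finite
      have h1 : M.index ≠ 1 := fun h => hM.1 (Subgroup.index_eq_one.1 h)
      omega
    obtain ⟨x, y, hx, hy, hxy⟩ := hi M.index (U.relIndex M) ha2 hb2 (by rw [mul_comm, hmul])
    set C := (U.subgroupOf M).normalCore with hC
    have hA : DL (G ⧸ M.normalCore) x := hx G hsol M rfl
    have hB : DL (M ⧸ C) y := hy M inferInstance (U.subgroupOf M) rfl
    have hle : U.normalCore ≤ M.normalCore := Subgroup.normalCore_mono hUM
    let f : G ⧸ U.normalCore →* G ⧸ M.normalCore :=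
      QuotientGroup.map _ _ (MonoidHom.id G) (by simpa using hle)
    refine (DL.ext f hA ?_).mono hxy
    -- the kernel
    set K := M.normalCore
    have hKM : K ≤ M := M.normalCore_le
    let φ : K →* ((G ⧸ M) → (M ⧸ C)) :=
      MonoidHom.pi fun q => (QuotientGroup.mk' C).comp
        ((Subgroup.inclusion hKM).comp (MulAut.conjNormal (H := K) (Quotient.out q)⁻¹).toMonoidHom)
    have hφ : φ.ker ≤ U.normalCore.subgroupOf K := by
      intro k hk
      rw [Subgroup.mem_subgroupOf]
      intro g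
      set z := Quotient.out ((g⁻¹ : G) : G ⧸ M) with hz
      have hzg : z⁻¹ * g⁻¹ ∈ M := by
        rw [← QuotientGroup.eq, hz]
        exact Quotient.out_eq _
      have h : Subgroup.inclusion hKM (MulAut.conjNormal (H := K) z⁻¹ k) ∈ C :=
        (QuotientGroup.eq_one_iff _).1 (congrFun hk ((g⁻¹ : G) : G ⧸ M))
      have h2 := h ⟨(z⁻¹ * g⁻¹)⁻¹, M.inv_mem hzg⟩
      rw [Subgroup.mem_subgroupOf] at h2
      simp only [Subgroup.coe_mul, Subgroup.coe_inv, Subgroup.coe_inclusion, MulAut.conjNormal_apply,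
        inv_inv] at h2
      convert h2 using 1
      group
    have hKy : derivedSeries K y ≤ U.normalCore.subgroupOf K := by
      refine le_trans ?_ hφ
      intro k hk
      rw [MonoidHom.mem_ker]
      funext q
      have h := map_derivedSeries_le_derivedSeries ((Pi.evalMonoidHom _ q).comp φ) y ⟨k, hk, rfl⟩
      rw [hB, Subgroup.mem_bot] at h
      exact h
    let g : K →* f.ker := ((QuotientGroup.mk' U.normalCore).comp K.subtype).codRestrict f.ker fun k =>
      MonoidHom.mem_ker.2 ((QuotientGroup.eq_one_iff _).2 k.2)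
    have hg : Function.Surjective g := by
      rintro ⟨z, hz⟩
      obtain ⟨z, rfl⟩ := QuotientGroup.mk_surjective z
      exact ⟨⟨z, (QuotientGroup.eq_one_iff z).1 hz⟩, rfl⟩
    have h := map_derivedSeries_eq (f := g) hg y
    rw [DL, ← h, Subgroup.map_eq_bot_iff]
    intro k hk
    exact MonoidHom.mem_ker.2 (Subtype.ext ((QuotientGroup.eq_one_iff _).2 (hKy hk)))

/-- The recursion for symplectic images, up to a bound on the order. -/
theorem img_or {e b c : ℕ} (hs : ∀ e1 e2, 2 ≤ e1 → 2 ≤ e2 → e1 * e2 = e → ImgDL.{u} e1 b)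
    (hi : ∀ r m, r.Prime → 0 < m → e = r ^ m → LinOr.{u} r (2 * m) b c)
    (Y M C : Type u) [Group Y] [Finite Y] [CommGroup M] [CommGroup C] [Finite M] [Finite C] [IsCyclic C]
    (S : Sympl Y M C) (hM : Nat.card M = e * e) (hY : Group.IsSolvable Y)
    (hsq : ∀ x : M, ∃ k : ℕ, Squarefree k ∧ x ^ k = 1) : DL S.img b ∨ Nat.card S.img ≤ c := by
  classical
  haveI := hY
  haveI : Finite (MulAut M) := Finite.of_injective _ DFunLike.coe_injective
  rcases eq_or_ne e 1 with rfl | he1
  · haveI : Subsingleton M := (Nat.card_eq_one_iff_unique.1 hM).1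
    haveI : Subsingleton (MulAut M) := ⟨fun f g => MulEquiv.ext fun _ => Subsingleton.elim _ _⟩
    exact Or.inl dl_zero
  by_cases hred : ∃ B : Subgroup M, (∀ y : Y, ∀ x ∈ B, S.act y x ∈ B) ∧ B ≠ ⊥ ∧ B ≠ ⊤
  · obtain ⟨B, hB, hbot, htop⟩ := hred
    obtain ⟨-, h2, hmul⟩ := S.isComplement hB
    have hperp : S.perp B ≠ ⊥ := fun e => htop (by rwa [e, sup_bot_eq] at h2)
    have hb1 : 1 < Nat.card B := (Subgroup.one_lt_card_iff_ne_bot B).2 hbot
    have hb2 : 1 < Nat.card (S.perp B) := (Subgroup.one_lt_card_iff_ne_bot _).2 hperp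
    have hsqB : ∀ (B' : Subgroup M) (x : B'), ∃ k : ℕ, Squarefree k ∧ x ^ k = 1 := fun B' x => by
      obtain ⟨k, hk, hk'⟩ := hsq x
      exact ⟨k, hk, Subtype.ext (by simpa using hk')⟩
    obtain ⟨e1, h1, -⟩ := SolKBound.card_M_eq_square (S.restrict B hB) hY (hsqB B)
    obtain ⟨e2, h2', -⟩ := SolKBound.card_M_eq_square (S.restrict _ (S.perp_inv hB)) hY (hsqB _)
    have h12 : e1 * e2 = e := Nat.mul_self_inj.1 (by rw [← hM, hmul, ← h1, ← h2']; ring)
    have e1two : 2 ≤ e1 := by
      by_contra hc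
      interval_cases e1 <;> omega
    have e2two : 2 ≤ e2 := by
      by_contra hc
      interval_cases e2 <;> omega
    haveI : Finite (MulAut B) := Finite.of_injective _ DFunLike.coe_injective
    haveI : Finite (MulAut (S.perp B)) := Finite.of_injective _ DFunLike.coe_injective
    have d1 := hs e1 e2 e1two e2two h12 Y B C (S.restrict B hB) h1.symm hY (hsqB B)
    have d2 := hs e2 e1 e2two e1two (by rw [mul_comm, h12]) Y (S.perp B) C (S.restrict _ (S.perp_inv hB))
      h2'.symm hY (hsqB _)
    have d : DL ((S.restrict B hB).img × (S.restrict _ (S.perp_inv hB)).img) b := by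
      refine (Subgroup.eq_bot_iff_forall _).2 fun z hz => ?_
      have a1 := map_derivedSeries_le_derivedSeries (MonoidHom.fst _ _) b ⟨z, hz, rfl⟩
      have a2 := map_derivedSeries_le_derivedSeries (MonoidHom.snd _ _) b ⟨z, hz, rfl⟩
      rw [d1, Subgroup.mem_bot] at a1
      rw [d2, Subgroup.mem_bot] at a2
      exact Prod.ext a1 a2
    refine Or.inl (d.of_injective (((S.imgRestrict hB).codRestrict _ (S.imgRestrict_mem hB)).prod
      ((S.imgRestrict (S.perp_inv hB)).codRestrict _ (S.imgRestrict_mem (S.perp_inv hB)))) ?_)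
    rw [injective_iff_map_eq_one]
    intro g hg
    exact S.imgRestrict_joint hB g (congrArg (fun z => (z.1 : MulAut B)) hg)
      (congrArg (fun z => (z.2 : MulAut (S.perp B))) hg)
  · push Not at hred
    have hirrM : ∀ B : Subgroup M, (∀ f ∈ S.act.range, ∀ x ∈ B, f x ∈ B) → B = ⊥ ∨ B = ⊤ := by
      intro B hB
      by_cases hb : B = ⊥
      · exact Or.inl hb
      · exact Or.inr (hred B (fun y x hx => hB _ ⟨y, rfl⟩ x hx) hb)
    obtain ⟨r, hr, hrd⟩ := Nat.exists_prime_and_dvd he1
    haveI := Fact.mk hr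
    obtain ⟨x0, hx0⟩ := exists_prime_orderOf_dvd_card' (G := M) r (hM ▸ hrd.mul_right e)
    have hexp : ∀ x : M, x ^ r = 1 := by
      let T : Subgroup M := (powMonoidHom r).ker
      have hT : T = ⊤ := (hirrM T fun f _ x hx => by
          show (f x) ^ r = 1
          rw [← map_pow, show x ^ r = 1 from hx, map_one]).resolve_left fun e => by
        have : x0 ∈ T := by show x0 ^ r = 1; rw [← hx0]; exact pow_orderOf_eq_one x0
        rw [e, Subgroup.mem_bot] at this
        rw [this, orderOf_one] at hx0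
        exact hr.ne_one hx0.symm
      exact fun x => (hT ▸ Subgroup.mem_top x : x ∈ T)
    obtain ⟨m, hm⟩ := S.card_square hr (Nat.card M) ⊤ Subgroup.card_top (fun x _ => hexp x)
      fun x _ hx => S.nondeg fun z => hx z trivial
    have hem : e = r ^ m := Nat.mul_self_inj.1 (by rw [← hM, hm, ← pow_add, two_mul])
    have hm0 : 0 < m := Nat.pos_of_ne_zero fun h => he1 (by rw [hem, h, pow_zero])
    haveI : Module (ZMod r) (Additive M) := AddCommGroup.zmodModule fun x => hexp (Additive.toMul x)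
    haveI : Nontrivial M := Finite.one_lt_card_iff_nontrivial.1 (by
      rw [hM]
      exact Nat.one_lt_iff_ne_zero_and_ne_one.2 ⟨by simp [hem, hr.ne_zero], fun h => he1 (mul_eq_one.1 h).1⟩)
    haveI : Finite (Additive M) := ‹Finite M›
    have hs' : Group.IsSolvable S.act.range := Group.isSolvable_of_surjective S.act.rangeRestrict_surjective
    exact (hi r m hr hm0 hem inferInstance (Additive M) S.act.range
      ((linHom r).comp S.act.range.subtype) (finrank_additive (k := 2 * m) (by rw [hM, hem, two_mul, pow_add]))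
      ((linHom_injective r).comp Subtype.val_injective) (linHom_irred r _ hirrM) hs').imp
      (fun h => DL.of_le (Subgroup.map_le_range _ _) h)
      fun h => (Subgroup.card_le_of_le (Subgroup.map_le_range _ _)).trans h

/-- The recursion for symplectic images. -/
theorem imgDL_of {e b : ℕ} (hs : ∀ e1 e2, 2 ≤ e1 → 2 ≤ e2 → e1 * e2 = e → ImgDL.{u} e1 b)
    (hi : ∀ r m, r.Prime → 0 < m → e = r ^ m → LinDL.{u} r (2 * m) b) : ImgDL.{u} e b := by
  intro Y M C _ _ _ _ _ _ _ S hM hY hsq
  exact (img_or (c := 0) hs (fun r m hr hm he => (hi r m hr hm he).linOr) Y M C S hM hY hsq).resolve_right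
    Nat.card_pos.not_ge

end Cfsg.Agent.StabDL
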