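/-
Vector stabilisers in soluble linear groups, 4: tables of derived lengths.
-/
import Cfsg.Agent.Lib.StabDL.Rho

set_option autoImplicit false
set_option linter.style.haveILetI false
set_option linter.unusedVariables false

namespace Cfsg.Agent.StabDL

open Cfsg.Agent.PrimSol Cfsg.Agent.SolClasses Cfsg.Agent.SolBase

universe u

theorem PermDL.mono {t b b' : ℕ} (h : PermDL.{u} t b) (hb : b ≤ b') : PermDL.{u} t b' :=
  fun G _ _ hs U hn => (h G hs U hn).mono hb

theorem ImgDL.mono {e b b' : ℕ} (h : ImgDL.{u} e b) (hb : b ≤ b') : ImgDL.{u} e b' :=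
  fun Y M C _ _ _ _ _ _ _ S hM hY hsq => (h Y M C S hM hY hsq).mono hb

theorem eq_exp {p k n r : ℕ} (hp : p.Prime) (hr : r.Prime) (h : r ^ n = p ^ k) (hk : 0 < k) : p = r ∧ k = n := by
  have h1 : p ∣ r := hp.dvd_of_dvd_pow (h ▸ dvd_pow_self p hk.ne')
  obtain rfl := (Nat.prime_dvd_prime_iff_eq hp hr).1 h1
  exact ⟨rfl, (Nat.pow_right_injective hp.two_le h).symm⟩

theorem not_prime_pow {l l' p k t : ℕ} (hl : l.Prime) (hl' : l'.Prime) (hne : l ≠ l') (h1 : l ∣ t) (h2 : l' ∣ t)
    (hp : p.Prime) (hk : 0 < k) : t ≠ p ^ k := by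
  rintro rfl
  exact hne (((Nat.prime_dvd_prime_iff_eq hl hp).1 (hl.dvd_of_dvd_pow h1)).trans
    ((Nat.prime_dvd_prime_iff_eq hl' hp).1 (hl'.dvd_of_dvd_pow h2)).symm)

theorem lin_one (q : ℕ) : LinDL.{u} q 1 1 := by
  intro hq W _ _ _ _ H _ _ τ hn hτ hirr hsol
  obtain ⟨w, hw, hw'⟩ := finrank_eq_one_iff'.1 hn
  refine dl_one fun x y => hτ (LinearMap.ext fun v => ?_)
  obtain ⟨c, rfl⟩ := hw' v
  obtain ⟨a, ha⟩ := hw' (τ x w)
  obtain ⟨b, hb⟩ := hw' (τ y w)
  have hs : ∀ z : H, ∀ d : ZMod q, d • w = τ z w → ∀ v : W, τ z v = d • v := fun z d hd v => by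
    obtain ⟨c, rfl⟩ := hw' v
    rw [map_smul, ← hd, smul_comm]
  rw [map_mul, map_mul, Module.End.mul_apply, Module.End.mul_apply, hs x a ha, hs y b hb, hs x a ha, hs y b hb,
    smul_comm]

theorem zmod_two : ∀ a : ZMod 2, a = 0 ∨ a = 1 := by decide

theorem lin_one_two : LinDL.{u} 2 1 0 := by
  intro hq W _ _ _ _ H _ _ τ hn hτ hirr hsol
  obtain ⟨w, hw, hw'⟩ := finrank_eq_one_iff'.1 hn
  haveI : Subsingleton H := ⟨fun x y => hτ (LinearMap.ext fun v => ?_)⟩
  · exact dl_zero
  obtain ⟨c, rfl⟩ := hw' v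
  obtain ⟨a, ha⟩ := hw' (τ x w)
  obtain ⟨b, hb⟩ := hw' (τ y w)
  have key : ∀ z : H, ∀ a : ZMod 2, a • w = τ z w → a = 1 := fun z a ha => by
    rcases zmod_two a with rfl | rfl
    · exfalso
      rw [zero_smul] at ha
      refine hw ?_
      have := congrArg (τ z⁻¹) ha
      rwa [map_zero, ← Module.End.mul_apply, ← map_mul, inv_mul_cancel, map_one, Module.End.one_apply, eq_comm]
        at this
    · rfl
  rw [map_smul, map_smul, ← ha, ← hb, key x a ha, key y b hb]

theorem perm_prime {p : ℕ} (hp : p.Prime) : PermDL.{u} p 2 := by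
  refine permDL_of (fun r k hr hk h => ?_) fun a s ha hs h => absurd (h ▸ hp) (Nat.not_prime_mul (by omega) (by omega))
  obtain ⟨rfl, rfl⟩ := eq_exp (n := 1) hr hp (by rw [pow_one]; exact h) hk
  exact ⟨1, lin_one _, le_rfl⟩

theorem perm2 : PermDL.{u} 2 1 := by
  refine permDL_of (fun r k hr hk h => ?_) fun a s ha hs h => absurd h (Nat.ne_of_gt (by nlinarith))
  obtain ⟨rfl, rfl⟩ := eq_exp (n := 1) hr Nat.prime_two (by rw [pow_one]; exact h) hk
  exact ⟨0, lin_one_two, le_rfl⟩

theorem lin2_2 : LinDL.{u} 2 2 2 := by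
  refine linDL_of le_rfl (fun hq a d e had ha he hed hqe h2 => ?_) fun hq t s ht h => ?_
  · have : 2 ≤ a := h2 rfl
    nlinarith
  · obtain rfl : t = 2 := le_antisymm (Nat.le_of_dvd (by norm_num) ⟨s, h.symm⟩) ht
    obtain rfl : s = 1 := by omega
    exact ⟨1, 0, perm2, lin_one_two, by norm_num⟩

theorem img2 : ImgDL.{u} 2 2 := by
  refine imgDL_of (fun e1 e2 h1 h2 h => absurd h (by nlinarith)) fun r m hr hm h => ?_
  obtain ⟨rfl, rfl⟩ := eq_exp (n := 1) hr Nat.prime_two (by rw [pow_one]; exact h) hm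
  exact lin2_2

theorem img3 : ImgDL.{u} 3 3 := by
  intro Y M C _ _ _ _ _ _ _ S hM hY hsq
  haveI := hY
  haveI : Finite (MulAut M) := Finite.of_injective _ DFunLike.coe_injective
  haveI : Group.IsSolvable S.img :=
    Group.isSolvable_of_surjective (f := (S.act.comp S.Y1.subtype).rangeRestrict.comp (MonoidHom.id _))
      (MonoidHom.rangeRestrict_surjective _) |> fun h => by
        haveI := h
        exact Group.isSolvable_of_surjective
          (f := (MulEquiv.subgroupCongr (show (S.act.comp S.Y1.subtype).range = S.img by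
            rw [MonoidHom.range_comp, Subgroup.range_subtype]; rfl)).toMonoidHom) (MulEquiv.surjective _)
  exact dl_three_of_card ((SolKBound.card_img_table 3 Y M C S hM hY hsq (by norm_num)).trans le_rfl)

theorem img23 {e : ℕ} (h1 : 2 ≤ e) (h2 : e ≤ 3) : ImgDL.{u} e 3 := by
  interval_cases e
  · exact img2.mono (by norm_num)
  · exact img3

theorem lin_two (q : ℕ) : LinDL.{u} q 2 4 := by
  refine linDL_of (by norm_num) (fun hq a d e had ha he hed hqe h2 => ?_) fun hq t s ht h => ?_
  · have : a ≤ 2 := Nat.le_of_dvd (by norm_num) ⟨d, had.symm⟩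
    interval_cases a
    · obtain rfl : e = 2 := by omega
      exact ⟨2, img2, Or.inr ⟨rfl, le_rfl⟩⟩
    · omega
  · obtain rfl : t = 2 := le_antisymm (Nat.le_of_dvd (by norm_num) ⟨s, h.symm⟩) ht
    obtain rfl : s = 1 := by omega
    exact ⟨1, 1, perm2, lin_one q, by norm_num⟩

theorem perm4 : PermDL.{u} 4 3 := by
  refine permDL_of (fun r k hr hk h => ?_) fun a s ha hs h => ?_
  · obtain ⟨rfl, rfl⟩ := eq_exp (n := 2) hr Nat.prime_two (by simpa using h) hk
    exact ⟨2, lin2_2, le_rfl⟩
  · obtain rfl : a = 2 := by nlinarith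
    obtain rfl : s = 2 := by omega
    exact ⟨1, 1, perm2, perm2, by norm_num⟩

theorem lin2_4 : LinDL.{u} 2 4 3 := by
  refine linDL_of (by norm_num) (fun hq a d e had ha he hed hqe h2 => ?_) fun hq t s ht h => ?_
  · have : 2 ≤ a := h2 rfl
    have : a ≤ 4 := Nat.le_of_dvd (by norm_num) ⟨d, had.symm⟩
    interval_cases a <;> first
      | omega
      | (obtain rfl : e = 2 := by omega; exact absurd (dvd_refl 2) hqe)
  · have : t ≤ 4 := Nat.le_of_dvd (by norm_num) ⟨s, h.symm⟩
    interval_cases t <;> first | omega | skip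
    · obtain rfl : s = 2 := by omega
      exact ⟨1, 2, perm2, lin2_2, le_rfl⟩
    · obtain rfl : s = 1 := by omega
      exact ⟨3, 0, perm4, lin_one_two, le_rfl⟩

theorem lin2_3 : LinDL.{u} 2 3 2 := by
  refine linDL_of le_rfl (fun hq a d e had ha he hed hqe h2 => ?_) fun hq t s ht h => ?_
  · have : 2 ≤ a := h2 rfl
    have : a ≤ 3 := Nat.le_of_dvd (by norm_num) ⟨d, had.symm⟩
    interval_cases a <;> omega
  · have : t ≤ 3 := Nat.le_of_dvd (by norm_num) ⟨s, h.symm⟩
    interval_cases t <;> first | omega | skip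
    obtain rfl : s = 1 := by omega
    exact ⟨2, 0, perm_prime Nat.prime_three, lin_one_two, le_rfl⟩

theorem lin2_5 : LinDL.{u} 2 5 2 := by
  refine linDL_of le_rfl (fun hq a d e had ha he hed hqe h2 => ?_) fun hq t s ht h => ?_
  · have : 2 ≤ a := h2 rfl
    have : a ≤ 5 := Nat.le_of_dvd (by norm_num) ⟨d, had.symm⟩
    interval_cases a <;> omega
  · have : t ≤ 5 := Nat.le_of_dvd (by norm_num) ⟨s, h.symm⟩
    interval_cases t <;> first | omega | skip
    obtain rfl : s = 1 := by omega
    exact ⟨2, 0, perm_prime (by norm_num), lin_one_two, le_rfl⟩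

theorem lin2_7 : LinDL.{u} 2 7 2 := by
  refine linDL_of le_rfl (fun hq a d e had ha he hed hqe h2 => ?_) fun hq t s ht h => ?_
  · have : 2 ≤ a := h2 rfl
    have : a ≤ 7 := Nat.le_of_dvd (by norm_num) ⟨d, had.symm⟩
    interval_cases a <;> omega
  · have : t ≤ 7 := Nat.le_of_dvd (by norm_num) ⟨s, h.symm⟩
    interval_cases t <;> first | omega | skip
    obtain rfl : s = 1 := by omega
    exact ⟨2, 0, perm_prime (by norm_num), lin_one_two, le_rfl⟩

theorem img4 : ImgDL.{u} 4 3 := by
  refine imgDL_of (fun e1 e2 h1 h2 h => ?_) fun r m hr hm h => ?_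
  · obtain rfl : e1 = 2 := by nlinarith
    exact img2.mono (by norm_num)
  · obtain ⟨rfl, rfl⟩ := eq_exp (n := 2) hr Nat.prime_two (by simpa using h) hm
    exact lin2_4

theorem img_le_four {e : ℕ} (h1 : 2 ≤ e) (h2 : e ≤ 4) : ImgDL.{u} e 3 := by
  rcases (show e ≤ 3 ∨ e = 4 by omega) with h | rfl
  · exact img23 h1 h
  · exact img4

theorem perm6 : PermDL.{u} 6 3 := by
  refine permDL_of (fun r k hr hk h => absurd h (not_prime_pow Nat.prime_two Nat.prime_three (by norm_num)
    (by norm_num) (by norm_num) hr hk)) fun a s ha hs h => ?_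
  have : a ≤ 3 := by nlinarith
  interval_cases a
  · obtain rfl : s = 3 := by omega
    exact ⟨1, 2, perm2, perm_prime Nat.prime_three, le_rfl⟩
  · obtain rfl : s = 2 := by omega
    exact ⟨2, 1, perm_prime Nat.prime_three, perm2, le_rfl⟩

theorem lin2_6 : LinDL.{u} 2 6 6 := by
  refine linDL_of (by norm_num) (fun hq a d e had ha he hed hqe h2 => ?_) fun hq t s ht h => ?_
  · have : 2 ≤ a := h2 rfl
    have hd : d ≤ 3 := by nlinarith
    exact ⟨3, img23 he (hed.trans hd), Or.inl le_rfl⟩
  · have : t ≤ 6 := Nat.le_of_dvd (by norm_num) ⟨s, h.symm⟩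
    interval_cases t <;> first | omega | skip
    · obtain rfl : s = 3 := by omega
      exact ⟨1, 2, perm2, lin2_3, by norm_num⟩
    · obtain rfl : s = 2 := by omega
      exact ⟨2, 2, perm_prime Nat.prime_three, lin2_2, by norm_num⟩
    · obtain rfl : s = 1 := by omega
      exact ⟨3, 0, perm6, lin_one_two, by norm_num⟩

theorem img5 : ImgDL.{u} 5 4 := by
  refine imgDL_of (fun e1 e2 h1 h2 h => ?_) fun r m hr hm h => ?_
  · have : e1 ≤ 2 := by nlinarith
    interval_cases e1; omega
  · obtain ⟨rfl, rfl⟩ := eq_exp (n := 1) hr (by norm_num : Nat.Prime 5) (by rw [pow_one]; exact h) hm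
    exact lin_two 5

theorem img_le_seven {e : ℕ} (h1 : 2 ≤ e) (h2 : e ≤ 7) : ImgDL.{u} e 4 := by
  rcases (show e ≤ 4 ∨ e = 5 ∨ e = 6 ∨ e = 7 by omega) with h | rfl | rfl | rfl
  · exact (img_le_four h1 h).mono (by norm_num)
  · exact img5
  · refine imgDL_of (fun e1 e2 h1 h2 h => ?_) fun r m hr hm h => absurd h
      (not_prime_pow Nat.prime_two Nat.prime_three (by norm_num) (by norm_num) (by norm_num) hr hm)
    have : e1 ≤ 3 := by nlinarith
    exact (img23 h1 this).mono (by norm_num)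
  · refine imgDL_of (fun e1 e2 h1 h2 h => ?_) fun r m hr hm h => ?_
    · have : e1 ≤ 3 := by nlinarith
      interval_cases e1 <;> omega
    · obtain ⟨rfl, rfl⟩ := eq_exp (n := 1) hr (by norm_num : Nat.Prime 7) (by rw [pow_one]; exact h) hm
      exact lin_two 7

theorem img8 : ImgDL.{u} 8 6 := by
  refine imgDL_of (fun e1 e2 h1 h2 h => ?_) fun r m hr hm h => ?_
  · have : e1 ≤ 4 := by nlinarith
    exact (img_le_four h1 this).mono (by norm_num)
  · obtain ⟨rfl, rfl⟩ := eq_exp (n := 3) hr Nat.prime_two (by simpa using h) hm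
    exact lin2_6

theorem img_le_eight {e : ℕ} (h1 : 2 ≤ e) (h2 : e ≤ 8) : ImgDL.{u} e 6 := by
  rcases (show e ≤ 7 ∨ e = 8 by omega) with h | rfl
  · exact (img_le_seven h1 h).mono (by norm_num)
  · exact img8

theorem perm8 : PermDL.{u} 8 4 := by
  refine permDL_of (fun r k hr hk h => ?_) fun a s ha hs h => ?_
  · obtain ⟨rfl, rfl⟩ := eq_exp (n := 3) hr Nat.prime_two (by simpa using h) hk
    exact ⟨2, lin2_3, by norm_num⟩
  · have : a ≤ 4 := by nlinarith
    interval_cases a
    · obtain rfl : s = 4 := by omega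
      exact ⟨1, 3, perm2, perm4, le_rfl⟩
    · omega
    · obtain rfl : s = 2 := by omega
      exact ⟨3, 1, perm4, perm2, le_rfl⟩

theorem perm9 : PermDL.{u} 9 5 := by
  refine permDL_of (fun r k hr hk h => ?_) fun a s ha hs h => ?_
  · obtain ⟨rfl, rfl⟩ := eq_exp (n := 2) hr Nat.prime_three (by simpa using h) hk
    exact ⟨4, lin_two 3, le_rfl⟩
  · have : a ≤ 4 := by nlinarith
    interval_cases a <;> first | omega | skip
    obtain rfl : s = 3 := by omega
    exact ⟨2, 2, perm_prime Nat.prime_three, perm_prime Nat.prime_three, by norm_num⟩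

theorem perm10 : PermDL.{u} 10 3 := by
  refine permDL_of (fun r k hr hk h => absurd h (not_prime_pow Nat.prime_two (by norm_num : Nat.Prime 5) (by norm_num)
    (by norm_num) (by norm_num) hr hk)) fun a s ha hs h => ?_
  have : a ≤ 5 := by nlinarith
  interval_cases a <;> first | omega | skip
  · obtain rfl : s = 5 := by omega
    exact ⟨1, 2, perm2, perm_prime (by norm_num), le_rfl⟩
  · obtain rfl : s = 2 := by omega
    exact ⟨2, 1, perm_prime (by norm_num), perm2, le_rfl⟩

theorem perm12 : PermDL.{u} 12 5 := by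
  refine permDL_of (fun r k hr hk h => absurd h (not_prime_pow Nat.prime_two Nat.prime_three (by norm_num)
    (by norm_num) (by norm_num) hr hk)) fun a s ha hs h => ?_
  have : a ≤ 6 := by nlinarith
  interval_cases a <;> first | omega | skip
  · obtain rfl : s = 6 := by omega
    exact ⟨1, 3, perm2, perm6, by norm_num⟩
  · obtain rfl : s = 4 := by omega
    exact ⟨2, 3, perm_prime Nat.prime_three, perm4, le_rfl⟩
  · obtain rfl : s = 3 := by omega
    exact ⟨3, 2, perm4, perm_prime Nat.prime_three, le_rfl⟩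
  · obtain rfl : s = 2 := by omega
    exact ⟨3, 1, perm6, perm2, by norm_num⟩

theorem perm14 : PermDL.{u} 14 3 := by
  refine permDL_of (fun r k hr hk h => absurd h (not_prime_pow Nat.prime_two (by norm_num : Nat.Prime 7) (by norm_num)
    (by norm_num) (by norm_num) hr hk)) fun a s ha hs h => ?_
  have : a ≤ 7 := by nlinarith
  interval_cases a <;> first | omega | skip
  · obtain rfl : s = 7 := by omega
    exact ⟨1, 2, perm2, perm_prime (by norm_num), le_rfl⟩
  · obtain rfl : s = 2 := by omega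
    exact ⟨2, 1, perm_prime (by norm_num), perm2, le_rfl⟩

theorem lin_three (q : ℕ) : LinDL.{u} q 3 5 := by
  refine linDL_of (by norm_num) (fun hq a d e had ha he hed hqe h2 => ?_) fun hq t s ht h => ?_
  · have : a ≤ 3 := Nat.le_of_dvd (by norm_num) ⟨d, had.symm⟩
    interval_cases a <;> first | omega | skip
    exact ⟨3, img23 he (by omega), Or.inr ⟨rfl, le_rfl⟩⟩
  · have : t ≤ 3 := Nat.le_of_dvd (by norm_num) ⟨s, h.symm⟩
    interval_cases t <;> first | omega | skip
    obtain rfl : s = 1 := by omega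
    exact ⟨2, 1, perm_prime Nat.prime_three, lin_one q, by norm_num⟩

theorem lin_four (q : ℕ) : LinDL.{u} q 4 5 := by
  refine linDL_of (by norm_num) (fun hq a d e had ha he hed hqe h2 => ?_) fun hq t s ht h => ?_
  · have : a ≤ 4 := Nat.le_of_dvd (by norm_num) ⟨d, had.symm⟩
    interval_cases a <;> first | omega | skip
    · exact ⟨3, img_le_four he (by omega), Or.inr ⟨rfl, le_rfl⟩⟩
    · obtain rfl : e = 2 := by omega
      exact ⟨2, img2, Or.inl le_rfl⟩
  · have : t ≤ 4 := Nat.le_of_dvd (by norm_num) ⟨s, h.symm⟩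
    interval_cases t <;> first | omega | skip
    · obtain rfl : s = 2 := by omega
      exact ⟨1, 4, perm2, lin_two q, le_rfl⟩
    · obtain rfl : s = 1 := by omega
      exact ⟨3, 1, perm4, lin_one q, by norm_num⟩

theorem lin_five (q : ℕ) : LinDL.{u} q 5 6 := by
  refine linDL_of (by norm_num) (fun hq a d e had ha he hed hqe h2 => ?_) fun hq t s ht h => ?_
  · have : a ≤ 5 := Nat.le_of_dvd (by norm_num) ⟨d, had.symm⟩
    interval_cases a <;> first | omega | skip
    exact ⟨4, img_le_seven he (by omega), Or.inr ⟨rfl, le_rfl⟩⟩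
  · have : t ≤ 5 := Nat.le_of_dvd (by norm_num) ⟨s, h.symm⟩
    interval_cases t <;> first | omega | skip
    obtain rfl : s = 1 := by omega
    exact ⟨2, 1, perm_prime (by norm_num), lin_one q, by norm_num⟩

theorem lin_six (q : ℕ) : LinDL.{u} q 6 6 := by
  refine linDL_of (by norm_num) (fun hq a d e had ha he hed hqe h2 => ?_) fun hq t s ht h => ?_
  · have : a ≤ 6 := Nat.le_of_dvd (by norm_num) ⟨d, had.symm⟩
    interval_cases a <;> first | omega | skip
    · exact ⟨4, img_le_seven he (by omega), Or.inr ⟨rfl, le_rfl⟩⟩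
    · exact ⟨3, img23 he (by omega), Or.inl le_rfl⟩
    · exact ⟨3, img23 he (by omega), Or.inl le_rfl⟩
  · have : t ≤ 6 := Nat.le_of_dvd (by norm_num) ⟨s, h.symm⟩
    interval_cases t <;> first | omega | skip
    · obtain rfl : s = 3 := by omega
      exact ⟨1, 5, perm2, lin_three q, le_rfl⟩
    · obtain rfl : s = 2 := by omega
      exact ⟨2, 4, perm_prime Nat.prime_three, lin_two q, le_rfl⟩
    · obtain rfl : s = 1 := by omega
      exact ⟨3, 1, perm6, lin_one q, by norm_num⟩

theorem lin2_8 : LinDL.{u} 2 8 6 := by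
  refine linDL_of (by norm_num) (fun hq a d e had ha he hed hqe h2 => ?_) fun hq t s ht h => ?_
  · have : 2 ≤ a := h2 rfl
    have hd : d ≤ 4 := by nlinarith
    exact ⟨3, img_le_four he (hed.trans hd), Or.inl le_rfl⟩
  · have : t ≤ 8 := Nat.le_of_dvd (by norm_num) ⟨s, h.symm⟩
    interval_cases t <;> first | omega | skip
    · obtain rfl : s = 4 := by omega
      exact ⟨1, 3, perm2, lin2_4, by norm_num⟩
    · obtain rfl : s = 2 := by omega
      exact ⟨3, 2, perm4, lin2_2, by norm_num⟩
    · obtain rfl : s = 1 := by omega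
      exact ⟨4, 0, perm8, lin_one_two, by norm_num⟩

theorem lin2_10 : LinDL.{u} 2 10 7 := by
  refine linDL_of (by norm_num) (fun hq a d e had ha he hed hqe h2 => ?_) fun hq t s ht h => ?_
  · have : 2 ≤ a := h2 rfl
    have hd : d ≤ 5 := by nlinarith
    exact ⟨4, img_le_seven he (by omega), Or.inl le_rfl⟩
  · have : t ≤ 10 := Nat.le_of_dvd (by norm_num) ⟨s, h.symm⟩
    interval_cases t <;> first | omega | skip
    · obtain rfl : s = 5 := by omega
      exact ⟨1, 2, perm2, lin2_5, by norm_num⟩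
    · obtain rfl : s = 2 := by omega
      exact ⟨2, 2, perm_prime (by norm_num), lin2_2, by norm_num⟩
    · obtain rfl : s = 1 := by omega
      exact ⟨3, 0, perm10, lin_one_two, by norm_num⟩

theorem lin2_12 : LinDL.{u} 2 12 7 := by
  refine linDL_of (by norm_num) (fun hq a d e had ha he hed hqe h2 => ?_) fun hq t s ht h => ?_
  · have : 2 ≤ a := h2 rfl
    have hd : d ≤ 6 := by nlinarith
    exact ⟨4, img_le_seven he (by omega), Or.inl le_rfl⟩
  · have : t ≤ 12 := Nat.le_of_dvd (by norm_num) ⟨s, h.symm⟩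
    interval_cases t <;> first | omega | skip
    · obtain rfl : s = 6 := by omega
      exact ⟨1, 6, perm2, lin2_6, le_rfl⟩
    · obtain rfl : s = 4 := by omega
      exact ⟨2, 3, perm_prime Nat.prime_three, lin2_4, by norm_num⟩
    · obtain rfl : s = 3 := by omega
      exact ⟨3, 2, perm4, lin2_3, by norm_num⟩
    · obtain rfl : s = 2 := by omega
      exact ⟨3, 2, perm6, lin2_2, by norm_num⟩
    · obtain rfl : s = 1 := by omega
      exact ⟨5, 0, perm12, lin_one_two, by norm_num⟩

theorem lin2_14 : LinDL.{u} 2 14 7 := by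
  refine linDL_of (by norm_num) (fun hq a d e had ha he hed hqe h2 => ?_) fun hq t s ht h => ?_
  · have : 2 ≤ a := h2 rfl
    have hd : d ≤ 7 := by nlinarith
    exact ⟨4, img_le_seven he (by omega), Or.inl le_rfl⟩
  · have : t ≤ 14 := Nat.le_of_dvd (by norm_num) ⟨s, h.symm⟩
    interval_cases t <;> first | omega | skip
    · obtain rfl : s = 7 := by omega
      exact ⟨1, 2, perm2, lin2_7, by norm_num⟩
    · obtain rfl : s = 2 := by omega
      exact ⟨2, 2, perm_prime (by norm_num), lin2_2, by norm_num⟩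
    · obtain rfl : s = 1 := by omega
      exact ⟨3, 0, perm14, lin_one_two, by norm_num⟩

theorem lin3_8 : LinOr.{u} 3 8 7 279936 := by
  intro hq W _ _ _ _ H _ _ τ hn hτ hirr hsol
  by_cases hprim : NoDecomp τ
  · obtain ⟨P, -, -, -⟩ := exists_primData_ext τ hτ hirr hprim hsol
    obtain ⟨e, he, he0⟩ := SolKBound.card_M_eq_square P.S hsol P.M_sqfree
    have hdim := P.dim.trans hn
    have hed : e ≤ P.d := Nat.mul_self_le_mul_self_iff.1 (he ▸ P.M_le)
    have hd : P.d ≤ 8 := Nat.le_of_dvd (by norm_num) ⟨P.a, by rw [mul_comm, hdim]⟩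
    rcases (show e = 1 ∨ (2 ≤ e ∧ e ≤ 7) ∨ e = 8 by omega) with rfl | ⟨h1, h2⟩ | rfl
    · exact Or.inl ((((prim_dl_data hτ hirr hprim hsol P he).1 rfl)).mono (by norm_num))
    · exact Or.inl ((prim_dl_data hτ hirr hprim hsol P he).2 4 (img_le_seven h1 h2)).1
    · right
      have ha : P.a = 1 := by
        have : P.a * 8 ≤ 8 := by
          calc P.a * 8 ≤ P.a * P.d := Nat.mul_le_mul_left _ hed
            _ = 8 := hdim
        have := P.a_pos
        omega
      have hA : Nat.card P.A ≤ 2 := P.card_A.trans (by rw [ha, Nat.card_zmod]; norm_num)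
      refine P.card_le.trans ?_
      rw [ha, one_mul, ← he]
      calc Nat.card P.A * (8 * 8) * Nat.card P.S.img ≤ 2 * (8 * 8) * 2187 :=
            Nat.mul_le_mul (Nat.mul_le_mul_right _ hA)
              (SolKBound.card_img_le_tableJ P.S hsol he.symm P.M_sqfree)
        _ ≤ 279936 := by norm_num
  · left
    obtain ⟨B⟩ := exists_blocks hprim
    have h := B.dim.trans hn
    have ht := B.two_le
    have : B.t ≤ 8 := Nat.le_of_dvd (by norm_num) ⟨B.s, h.symm⟩
    rcases (show (B.t = 2 ∧ B.s = 4) ∨ (B.t = 4 ∧ B.s = 2) ∨ (B.t = 8 ∧ B.s = 1) by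
      interval_cases hk : B.t <;> omega) with ⟨h1, h2⟩ | ⟨h1, h2⟩ | ⟨h1, h2⟩
    · exact (blocks_dl B hτ hirr hsol (x := 1) (c := 5) (h1 ▸ perm2) (h2 ▸ lin_four 3)).mono (by norm_num)
    · exact (blocks_dl B hτ hirr hsol (x := 3) (c := 4) (h1 ▸ perm4) (h2 ▸ lin_two 3)).mono (by norm_num)
    · exact (blocks_dl B hτ hirr hsol (x := 4) (c := 1) (h1 ▸ perm8) (h2 ▸ lin_one 3)).mono (by norm_num)

/-- The irreducible case of the images of degree below `169`. -/
theorem lin_comp {r m : ℕ} (hr : r.Prime) (hm : 0 < m) (h : r ^ m < 169) (h81 : r ^ m ≠ 81) :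
    LinDL.{u} r (2 * m) 7 := by
  rcases (show r = 2 ∨ r = 3 ∨ 5 ≤ r by
    have := hr.two_le
    rcases Nat.eq_or_lt_of_le this with h | h
    · exact Or.inl h.symm
    rcases (show r = 3 ∨ r = 4 ∨ 5 ≤ r by omega) with h' | rfl | h'
    · exact Or.inr (Or.inl h')
    · exact absurd hr (by norm_num)
    · exact Or.inr (Or.inr h')) with rfl | rfl | hr5
  · have : m ≤ 7 := by
      by_contra hc
      have : 2 ^ 8 ≤ 2 ^ m := Nat.pow_le_pow_right (by norm_num) (by omega)
      omega
    interval_cases m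
    · exact (lin2_2).mono (by norm_num)
    · exact (lin2_4).mono (by norm_num)
    · exact (lin2_6).mono (by norm_num)
    · exact (lin2_8).mono (by norm_num)
    · exact lin2_10
    · exact lin2_12
    · exact lin2_14
  · have : m ≤ 4 := by
      by_contra hc
      have : 3 ^ 5 ≤ 3 ^ m := Nat.pow_le_pow_right (by norm_num) (by omega)
      omega
    interval_cases m
    · exact (lin_two 3).mono (by norm_num)
    · exact (lin_four 3).mono (by norm_num)
    · exact (lin_six 3).mono (by norm_num)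
    · exact absurd rfl h81
  · have : m ≤ 3 := by
      by_contra hc
      have : 5 ^ 4 ≤ r ^ m := (Nat.pow_le_pow_right (by norm_num) (show 4 ≤ m by omega)).trans (Nat.pow_le_pow_left hr5 m)
      omega
    interval_cases m
    · exact (lin_two r).mono (by norm_num)
    · exact (lin_four r).mono (by norm_num)
    · exact (lin_six r).mono (by norm_num)

theorem img_lt (e : ℕ) : e < 169 → ¬ 81 ∣ e → ImgDL.{u} e 7 := by
  induction e using Nat.strong_induction_on with
  | _ e ih =>
  intro h169 h81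
  refine imgDL_of (fun e1 e2 h1 h2 h => ?_) fun r m hr hm h => ?_
  · have : e1 < e := h ▸ lt_mul_right (by omega) (by omega)
    exact ih e1 this (by omega) fun hd => h81 (h ▸ hd.mul_right e2)
  · exact lin_comp hr hm (by omega) fun h' => h81 (by rw [h, h'])

theorem img_81 (Y M C : Type u) [Group Y] [Finite Y] [CommGroup M] [CommGroup C] [Finite M] [Finite C] [IsCyclic C]
    (S : Sympl Y M C) (hM : Nat.card M = 81 * 81) (hY : Group.IsSolvable Y)
    (hsq : ∀ x : M, ∃ k : ℕ, Squarefree k ∧ x ^ k = 1) : DL S.img 7 ∨ Nat.card S.img ≤ 279936 := by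
  refine img_or (fun e1 e2 h1 h2 h => ?_) (fun r m hr hm h => ?_) Y M C S hM hY hsq
  · have : e1 < 81 := by nlinarith
    exact img_lt e1 (by omega) fun hd => by
      have := Nat.le_of_dvd (by omega) hd
      omega
  · obtain ⟨rfl, rfl⟩ := eq_exp (n := 4) hr Nat.prime_three (by simpa using h) hm
    exact lin3_8

theorem img_lt_eight {e : ℕ} (h : e < 8) : ImgDL.{u} e 4 := by
  rcases (show e = 0 ∨ e = 1 ∨ 2 ≤ e by omega) with rfl | rfl | h2
  · intro Y M C _ _ _ _ _ _ _ S hM hY hsq
    exact absurd hM Nat.card_pos.ne'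
  · refine imgDL_of (fun e1 e2 h1 h2 h => absurd h (by nlinarith)) fun r m hr hm h => ?_
    exact absurd h (Nat.one_lt_pow hm.ne' hr.one_lt).ne
  · exact img_le_seven h2 (by omega)

theorem img_lt_27 (e : ℕ) : e < 27 → ImgDL.{u} e 6 := by
  induction e using Nat.strong_induction_on with
  | _ e ih =>
  intro h27
  refine imgDL_of (fun e1 e2 h1 h2 h => ?_) fun r m hr hm h => ?_
  · have : e1 < e := h ▸ lt_mul_right (by omega) (by omega)
    exact ih e1 this (by omega)
  · have hm4 : m ≤ 4 := by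
      by_contra hc
      have : 2 ^ 5 ≤ r ^ m := (Nat.pow_le_pow_right (by norm_num) (show 5 ≤ m by omega)).trans
        (Nat.pow_le_pow_left hr.two_le m)
      omega
    interval_cases m
    · exact (lin_two r).mono (by norm_num)
    · exact (lin_four r).mono (by norm_num)
    · exact (lin_six r).mono le_rfl
    · have : r = 2 := by
        by_contra hr2
        have : 3 ^ 4 ≤ r ^ 4 := Nat.pow_le_pow_left (by have := hr.two_le; omega) 4
        omega
      subst this
      exact lin2_8

end Cfsg.Agent.StabDL
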