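/-
Vector stabilisers in soluble linear groups, 7: colourings of transitive permutation groups.
-/
import Cfsg.Agent.Lib.StabDL.Tables
import Cfsg.Agent.Lib.SolBase.Perm

set_option autoImplicit false
set_option linter.style.haveILetI false
set_option linter.unusedSectionVars false

namespace Cfsg.Agent.StabDL

universe u v w x

section Defs

variable (G : Type u) [Group G] {Ω : Type v} [MulAction G Ω] {C : Type w}

/-- The elements keeping every colour. -/
def colStab (f : Ω → C) : Subgroup G where
  carrier := {g | ∀ ω, f (g • ω) = f ω}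
  one_mem' ω := by rw [one_smul]
  mul_mem' {g h} hg hh ω := by rw [mul_smul, hg, hh]
  inv_mem' {g} hg ω := by
    have := hg (g⁻¹ • ω)
    rw [smul_inv_smul] at this
    exact this.symm

/-- The group induced by the stabiliser of a colouring has derived length at most `b`. -/
def ColDL (f : Ω → C) (b : ℕ) : Prop := ∀ x ∈ derivedSeries (colStab G f) b, ∀ ω : Ω, (x : G) • ω = ω

/-- No colouring is moved to another one. -/
def ColInequiv {ι : Type*} (f : ι → Ω → C) : Prop := ∀ i j (g : G), (∀ ω, f i (g • ω) = f j ω) → i = j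

/-- Five colourings in `c` colours with small stabilisers. -/
def GoodCol (Ω : Type v) [MulAction G Ω] (c b : ℕ) : Prop :=
  ∃ f : Fin 5 → Ω → Fin c, (∀ i, ColDL G (f i) b) ∧ ColInequiv G f

variable {G}

theorem mem_colStab {f : Ω → C} {g : G} : g ∈ colStab G f ↔ ∀ ω, f (g • ω) = f ω := Iff.rfl

theorem ColDL.mono {f : Ω → C} {b b' : ℕ} (h : ColDL G f b) (hb : b ≤ b') : ColDL G f b' :=
  fun z hz => h z (derivedSeries_antitone _ hb hz)

theorem ColDL.of_le {D : Type x} {f : Ω → C} {f' : Ω → D} {b : ℕ} (h : ColDL G f b)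
    (hle : colStab G f' ≤ colStab G f) : ColDL G f' b := fun z hz ω =>
  h _ (map_derivedSeries_le_derivedSeries (Subgroup.inclusion hle) b ⟨z, hz, rfl⟩) ω

theorem ColDL.of_eq {D : Type x} {f : Ω → C} {b : ℕ} (h : ColDL G f b) {σ : C → D} (hσ : Function.Injective σ) :
    ColDL G (σ ∘ f) b := h.of_le fun _ hg ω => hσ (hg ω)

/-- Distinct class sizes separate colourings. -/
theorem colInequiv_of_sizes {ι : Type*} [Finite Ω] {f : ι → Ω → C}
    (h : Function.Injective fun i (a : C) => {ω | f i ω = a}.ncard) : ColInequiv G f := fun i j g hg =>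
  h (funext fun a => by
    show {ω | f i ω = a}.ncard = {ω | f j ω = a}.ncard
    rw [← Set.ncard_image_of_injective {ω | f j ω = a} (MulAction.injective g)]
    congr 1
    ext ω
    simp only [Set.mem_setOf_eq, Set.mem_image]
    exact ⟨fun hω => ⟨g⁻¹ • ω, by rw [← hg, smul_inv_smul]; exact hω, smul_inv_smul g ω⟩,
      fun ⟨y, hy, e⟩ => by rw [← e, hg, hy]⟩)

/-- Points with small orbits are fixed by a term of the derived series. -/
theorem orbit_dl [Finite G] (hsol : Group.IsSolvable G) (f : Ω → C) {m b : ℕ}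
    (hm : ∀ n, 1 ≤ n → n ≤ m → PermDL.{u} n b) {ω : Ω} {X : Set Ω} (hX : ω ∈ X) (hfin : X.Finite)
    (hcard : X.ncard ≤ m) (hinv : ∀ g ∈ colStab G f, ∀ y ∈ X, g • y ∈ X) :
    ∀ z ∈ derivedSeries (colStab G f) b, (z : G) • ω = ω := by
  haveI := hsol
  set K := colStab G f
  have hsub : MulAction.orbit K ω ⊆ X := by
    rintro _ ⟨k, rfl⟩
    exact hinv k k.2 ω hX
  have hle : (MulAction.stabilizer K ω).index ≤ m := by
    rw [MulAction.index_stabilizer]
    exact (Set.ncard_le_ncard hsub hfin).trans hcard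
  have h := hm _ (Nat.pos_of_ne_zero Subgroup.index_ne_zero_of_finite) hle K inferInstance _ rfl
  intro z hz
  have h' : (QuotientGroup.mk' (MulAction.stabilizer K ω).normalCore z) ∈ derivedSeries _ b :=
    map_derivedSeries_le_derivedSeries _ b ⟨z, hz, rfl⟩
  rw [h, Subgroup.mem_bot] at h'
  exact MulAction.mem_stabilizer_iff.1 ((MulAction.stabilizer K ω).normalCore_le ((QuotientGroup.eq_one_iff z).1 h'))

/-- Transport along an equivariant bijection. -/
theorem GoodCol.transport {G' : Type x} [Group G'] {Ω' : Type w} [MulAction G' Ω'] (π : G →* G') (e : Ω ≃ Ω')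
    (he : ∀ (g : G) ω, e (g • ω) = π g • e ω) {c b : ℕ} (h : GoodCol G' Ω' c b) : GoodCol G Ω c b := by
  obtain ⟨f, hf, hi⟩ := h
  refine ⟨fun i ω => f i (e ω), fun i z hz ω => ?_, fun i j g hg => hi i j (π g) fun y => ?_⟩
  · have hmap : ∀ k : colStab G (fun ω => f i (e ω)), π (k : G) ∈ colStab G' (f i) := fun k y => by
      have h1 := k.2 (e.symm y)
      simp only [he, e.apply_symm_apply] at h1
      exact h1
    let φ : colStab G (fun ω => f i (e ω)) →* colStab G' (f i) := (π.comp (Subgroup.subtype _)).codRestrict _ hmap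
    have h1 := hf i _ (map_derivedSeries_le_derivedSeries φ b ⟨z, hz, rfl⟩) (e ω)
    apply e.injective
    rw [he]
    exact h1
  · have h1 := hg (e.symm y)
    simp only [he, e.apply_symm_apply] at h1
    exact h1

end Defs

theorem perm_one (b : ℕ) : PermDL.{u} 1 b := by
  intro G _ _ hsol U hU
  obtain rfl : U = ⊤ := Subgroup.index_eq_one.1 hU
  haveI : Subsingleton (G ⧸ (⊤ : Subgroup G).normalCore) := by
    rw [top_le_iff.1 (Subgroup.normal_le_normalCore.2 (le_refl (⊤ : Subgroup G)))]
    exact QuotientGroup.subsingleton_quotient_top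
  exact dl_zero

theorem perm_le_two {n : ℕ} (h1 : 1 ≤ n) (h2 : n ≤ 2) : PermDL.{u} n 1 := by
  interval_cases n
  · exact perm_one 1
  · exact perm2

theorem perm_le_seven {n : ℕ} (h1 : 1 ≤ n) (h2 : n ≤ 7) : PermDL.{u} n 3 := by
  interval_cases n
  · exact perm_one 3
  · exact perm2.mono (by norm_num)
  · exact (perm_prime Nat.prime_three).mono (by norm_num)
  · exact perm4
  · exact (perm_prime (by norm_num : Nat.Prime 5)).mono (by norm_num)
  · exact perm6
  · exact (perm_prime (by norm_num : Nat.Prime 7)).mono (by norm_num)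

section Compose

variable {G : Type u} [Group G] {U K : Subgroup G}

/-- Colourings of the blocks arranged by a colouring of the blocks. -/
theorem col_compose {n m c bo bi : ℕ} (hUK : U ≤ K) (F : Fin n → G ⧸ K → Fin m)
    (hF : ∀ i, ColDL G (F i) bo) (hFi : ColInequiv G F) (q : Fin m → K ⧸ U.subgroupOf K → Fin c)
    (hq : ∀ a, ColDL K (q a) bi) (hqi : ColInequiv K q) :
    ∃ f : Fin n → G ⧸ U → Fin c, (∀ i, ColDL G (f i) (bo + bi)) ∧ ColInequiv G f := by
  let s : G ⧸ K → G := Quotient.out
  have hs : ∀ v : G ⧸ K, ((s v : G) : G ⧸ K) = v := fun v => Quotient.out_eq' v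
  have hmem : ∀ y : G, (s (y : G ⧸ K))⁻¹ * y ∈ K := fun y => QuotientGroup.eq.1 (hs _)
  let f : Fin n → G ⧸ U → Fin c := fun i ω =>
    q (F i ((Quotient.out ω : G) : G ⧸ K)) ((⟨_, hmem (Quotient.out ω)⟩ : K) : K ⧸ U.subgroupOf K)
  have hf : ∀ i v (k : K), f i ((s v * k : G) : G ⧸ U) = q (F i v) (k : K ⧸ U.subgroupOf K) := by
    intro i v k
    obtain ⟨⟨u, hu⟩, hx⟩ := QuotientGroup.mk_out_eq_mul U (s v * k)
    have hv : (((Quotient.out ((s v * k : G) : G ⧸ U)) : G) : G ⧸ K) = v := by
      refine Eq.trans ?_ (hs v)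
      rw [QuotientGroup.eq, hx]
      have e : (s v * k * u)⁻¹ * s v = u⁻¹ * (k : G)⁻¹ := by group
      rw [e]
      exact K.mul_mem (K.inv_mem (hUK hu)) (K.inv_mem k.2)
    show q (F i _) _ = _
    refine congrArg₂ (fun c y => q c y) (congrArg (F i) hv) ?_
    rw [QuotientGroup.eq, Subgroup.mem_subgroupOf]
    simp only [Subgroup.coe_mul, Subgroup.coe_inv]
    rw [show s (((Quotient.out ((s v * k : G) : G ⧸ U)) : G) : G ⧸ K) = s v from congrArg s hv, hx]
    have e : ((s v)⁻¹ * (s v * k * u))⁻¹ * (k : G) = u⁻¹ := by group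
    rw [e]
    exact U.inv_mem hu
  have hk : ∀ (g : G) v, (s (g • v))⁻¹ * (g * s v) ∈ K := fun g v => by
    rw [← QuotientGroup.eq, hs]
    conv_lhs => rw [← hs v]
    rfl
  have hkey : ∀ i j g, (∀ ω, f i (g • ω) = f j ω) → ∀ v, F i (g • v) = F j v ∧
      ∀ y : K ⧸ U.subgroupOf K, q (F i (g • v)) ((⟨_, hk g v⟩ : K) • y) = q (F j v) y := by
    intro i j g hg v
    have h2 : ∀ y : K ⧸ U.subgroupOf K, q (F i (g • v)) ((⟨_, hk g v⟩ : K) • y) = q (F j v) y := by
      intro y
      obtain ⟨k', rfl⟩ := QuotientGroup.mk_surjective y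
      rw [MulAction.Quotient.smul_mk, smul_eq_mul, ← hf i (g • v), ← hf j v, ← hg]
      congr 1
      rw [MulAction.Quotient.smul_mk, smul_eq_mul]
      simp [mul_assoc]
    exact ⟨hqi _ _ _ h2, h2⟩
  refine ⟨f, fun i => ?_, fun i j g hg => hFi i j g fun v => (hkey i j g hg v).1⟩
  intro z hz ω
  have hsF : colStab G (f i) ≤ colStab G (F i) := fun g hg v => (hkey i i g hg v).1
  set S := colStab G (f i)
  -- the part fixing the blocks
  have htop : ∀ y ∈ derivedSeries S bo, ∀ v : G ⧸ K, (y : G) • v = v := fun y hy v =>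
    hF i _ (map_derivedSeries_le_derivedSeries (Subgroup.inclusion hsF) bo ⟨y, hy, rfl⟩) v
  obtain ⟨k0, rfl⟩ := QuotientGroup.mk_surjective ω
  set v : G ⧸ K := (k0 : G ⧸ K) with hv
  let N : Subgroup S := derivedSeries S bo
  let φ : N →* K :=
    { toFun := fun y => ⟨(s v)⁻¹ * (((y : S) : G) * s v), by
        have h := hk ((y : S) : G) v
        rwa [htop (y : S) y.2 v] at h⟩
      map_one' := Subtype.ext (by simp)
      map_mul' := fun a b => Subtype.ext (by simp [mul_assoc]) }
  have hφ : ∀ y, φ y ∈ colStab K (q (F i v)) := fun y w => by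
    have h := (hkey i i ((y : S) : G) ((y : S).2) v).2 w
    have e : ((⟨_, hk ((y : S) : G) v⟩ : K)) = φ y := Subtype.ext (by
      show (s (((y : S) : G) • v))⁻¹ * (((y : S) : G) * s v) = (s v)⁻¹ * (((y : S) : G) * s v)
      rw [htop (y : S) y.2 v])
    rw [e, htop (y : S) y.2 v] at h
    exact h
  have hser : ∀ j, derivedSeries S (bo + j) ≤ (derivedSeries N j).map N.subtype := by
    intro j
    induction j with
    | zero => intro y hy; exact ⟨⟨y, hy⟩, Subgroup.mem_top _, rfl⟩
    | succ j ih =>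
      rw [← Nat.add_assoc, derivedSeries_succ, derivedSeries_succ, Subgroup.map_commutator]
      exact Subgroup.commutator_mono ih ih
  obtain ⟨y, hy, rfl⟩ := hser bi hz
  have h := hq (F i v) _ (map_derivedSeries_le_derivedSeries (φ.codRestrict _ hφ) bi ⟨y, hy, rfl⟩)
    ((⟨_, hmem k0⟩ : K) : K ⧸ U.subgroupOf K)
  rw [MulAction.Quotient.smul_mk, smul_eq_mul, QuotientGroup.eq, Subgroup.mem_subgroupOf] at h
  rw [MulAction.Quotient.smul_mk, smul_eq_mul, QuotientGroup.eq]
  simp only [Subgroup.coe_mul, Subgroup.coe_inv, MonoidHom.codRestrict_apply] at h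
  convert h using 1
  show (((y : S) : G) * k0)⁻¹ * k0 = ((s v)⁻¹ * (((y : S) : G) * s v) * ((s v)⁻¹ * k0))⁻¹ * ((s v)⁻¹ * k0)
  group

/-- Five colourings without symmetries. -/
theorem five_rigid [Finite G] (hsol : Group.IsSolvable G) (hU : U ≠ ⊤) :
    GoodCol G (G ⧸ U) 5 0 := by
  obtain ⟨f, hf⟩ := SolBase.five_colourings _ G hsol U hU rfl
  exact ⟨f, fun i z _ ω => (hf i i z z.2).2 ω, fun i j g hg => (hf i j g hg).1⟩

end Compose

section Count

variable {G : Type u} [Group G] [Finite G] {Ω : Type v} [MulAction G Ω] [Finite Ω]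

/-- Few colourings are kept by a permutation with few fixed points. -/
theorem card_invariant {c : ℕ} (hc : 0 < c) (σ : Equiv.Perm Ω) (hfix : 2 * {ω | σ ω = ω}.ncard ≤ Nat.card Ω) :
    {f : Ω → Fin c | ∀ ω, f (σ ω) = f ω}.ncard ≤ c ^ (3 * Nat.card Ω / 4) := by
  classical
  haveI := Fintype.ofFinite Ω
  let s := Equiv.Perm.SameCycle.setoid σ
  let π : Ω → Quotient s := Quotient.mk s
  have hle : Fintype.card (Quotient s) ≤ 3 * Nat.card Ω / 4 := by
    have h1 : ∀ z : Quotient s, 2 ≤ (Finset.univ.filter fun x => π x = z).card +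
        ((Finset.univ.filter fun x => σ x = x).filter fun x => π x = z).card := by
      intro z
      induction z using Quotient.inductionOn with
      | h x =>
      by_cases hx : σ x = x
      · have a1 : 0 < (Finset.univ.filter fun y => π y = π x).card := Finset.card_pos.2 ⟨x, by simp⟩
        have a2 : 0 < ((Finset.univ.filter fun y => σ y = y).filter fun y => π y = π x).card :=
          Finset.card_pos.2 ⟨x, by simp [hx]⟩
        rw [show (Quotient.mk s x : Quotient s) = π x from rfl]
        omega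
      · refine le_trans ?_ (Nat.le_add_right _ _)
        have e1 : π (σ x) = π x := Quotient.sound (Equiv.Perm.SameCycle.symm ⟨1, by simp⟩)
        refine Finset.one_lt_card.2 ⟨x, by simp [π], σ x, ?_, Ne.symm hx⟩
        simp only [Finset.mem_filter, Finset.mem_univ, true_and]
        exact e1
    have h2 : 2 * Fintype.card (Quotient s) ≤ Fintype.card Ω + (Finset.univ.filter fun x => σ x = x).card :=
      calc 2 * Fintype.card (Quotient s) = ∑ _z : Quotient s, 2 := by
            rw [Finset.sum_const, Finset.card_univ, smul_eq_mul, mul_comm]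
        _ ≤ ∑ z : Quotient s, ((Finset.univ.filter fun x => π x = z).card +
            ((Finset.univ.filter fun x => σ x = x).filter fun x => π x = z).card) :=
            Finset.sum_le_sum fun z _ => h1 z
        _ = _ := by
            rw [Finset.sum_add_distrib,
              ← Finset.card_eq_sum_card_fiberwise (fun x _ => Finset.mem_univ (π x)),
              ← Finset.card_eq_sum_card_fiberwise (fun x _ => Finset.mem_univ (π x)), Finset.card_univ]
    rw [Set.ncard_eq_toFinset_card', Set.toFinset_setOf, Nat.card_eq_fintype_card] at hfix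
    rw [Nat.card_eq_fintype_card]
    omega
  refine le_trans ?_ (Nat.pow_le_pow_right hc hle)
  rw [← Nat.card_coe_set_eq]
  refine (Nat.card_le_card_of_injective (fun f : {f : Ω → Fin c | ∀ ω, f (σ ω) = f ω} => fun z : Quotient s =>
    (f : Ω → Fin c) z.out) fun a b h => ?_).trans (by rw [Nat.card_fun, Nat.card_fin, Nat.card_eq_fintype_card])
  have key : ∀ f : Ω → Fin c, (∀ ω, f (σ ω) = f ω) → ∀ x, f x = f (π x).out := by
    intro f hf x
    obtain ⟨i, hi⟩ := (show σ.SameCycle (π x).out x from Quotient.mk_out x)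
    have hmem : ∀ (i : ℤ) (y : Ω), f ((σ ^ i) y) = f y := by
      intro i
      induction i using Int.induction_on with
      | zero => simp
      | succ i ih => intro y; rw [zpow_add_one, Equiv.Perm.mul_apply, ih, hf]
      | pred i ih =>
        intro y
        rw [zpow_sub_one, Equiv.Perm.mul_apply, ih, ← hf (σ⁻¹ y), show σ (σ⁻¹ y) = y from σ.apply_symm_apply y]
    conv_lhs => rw [← hi]
    exact hmem i _
  refine Subtype.ext (funext fun x => ?_)
  rw [key a a.2 x, key b b.2 x]
  exact congrFun h _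

/-- Five free colourings by counting. -/
theorem good_of_count {c N : ℕ} (hc : 0 < c)
    (hfix : ∀ g : G, (∃ ω : Ω, g • ω ≠ ω) → 2 * {ω : Ω | g • ω = ω}.ncard ≤ Nat.card Ω)
    (hN : Nat.card G ≤ N) (h : 6 * N < c ^ (Nat.card Ω / 4)) : GoodCol G Ω c 0 := by
  classical
  haveI := Fintype.ofFinite G
  haveI := Fintype.ofFinite Ω
  set t := Nat.card Ω
  set X := c ^ (3 * t / 4) with hX
  let bad : Set (Ω → Fin c) := {f | ∃ g : G, (∃ ω : Ω, g • ω ≠ ω) ∧ g ∈ colStab G f}
  have hbad : bad.ncard ≤ Nat.card G * X := by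
    let T := (g : {g : G // ∃ ω : Ω, g • ω ≠ ω}) ×
      {f : Ω → Fin c | ∀ ω, f ((MulAction.toPerm (g : G) : Equiv.Perm Ω) ω) = f ω}
    haveI : Finite T := inferInstance
    rw [← Nat.card_coe_set_eq]
    refine (Nat.card_le_card_of_surjective (fun y : T => (⟨(y.2 : Ω → Fin c), (y.1 : G), y.1.2, y.2.2⟩ : bad))
      fun ⟨f, g, hg, hgf⟩ => ⟨⟨⟨g, hg⟩, ⟨f, hgf⟩⟩, rfl⟩).trans ?_
    rw [Nat.card_sigma]
    refine (Finset.sum_le_card_nsmul _ _ X fun g _ => ?_).trans ?_
    · rw [Nat.card_coe_set_eq]
      exact card_invariant hc _ (hfix g g.2)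
    · rw [smul_eq_mul, Finset.card_univ, ← Nat.card_eq_fintype_card]
      exact Nat.mul_le_mul_right _ (Nat.card_le_card_of_injective _ Subtype.val_injective)
  letI : MulAction G (Ω → Fin c) :=
    { smul := fun g f ω => f (g⁻¹ • ω)
      one_smul := fun f => funext fun ω => by show f (1⁻¹ • ω) = f ω; rw [inv_one, one_smul]
      mul_smul := fun g k f => funext fun ω => by
        show f ((g * k)⁻¹ • ω) = f (k⁻¹ • g⁻¹ • ω)
        rw [mul_inv_rev, mul_smul] }
  have hsmall : ∀ k : ℕ, k ≤ 5 → ∃ f : Fin k → Ω → Fin c, (∀ i, f i ∉ bad) ∧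
      ∀ i j, f j ∈ MulAction.orbit G (f i) → i = j := by
    intro k
    induction k with
    | zero => exact fun _ => ⟨Fin.elim0, fun i => i.elim0, fun i => i.elim0⟩
    | succ k ih =>
      intro hk
      obtain ⟨f, hf, hi⟩ := ih (by omega)
      let O : Set (Ω → Fin c) := Set.range fun y : Fin k × G => y.2 • f y.1
      have hO : O.ncard ≤ 4 * Nat.card G := by
        rw [← Nat.card_coe_set_eq]
        refine (Finite.card_range_le _).trans ?_
        rw [Nat.card_prod, Nat.card_fin]
        exact Nat.mul_le_mul_right _ (by omega)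
      have hlt : (bad ∪ O).ncard < (Set.univ : Set (Ω → Fin c)).ncard := by
        refine (Set.ncard_union_le _ _).trans_lt ?_
        rw [Set.ncard_univ, Nat.card_fun, Nat.card_fin]
        have h1 : 1 ≤ X := Nat.one_le_pow _ _ hc
        calc bad.ncard + O.ncard ≤ Nat.card G * X + 4 * Nat.card G := Nat.add_le_add hbad hO
          _ ≤ 6 * N * X := by nlinarith
          _ < c ^ (t / 4) * X := Nat.mul_lt_mul_of_pos_right h h1
          _ ≤ c ^ t := by
            rw [hX, ← pow_add]
            exact Nat.pow_le_pow_right hc (by omega)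
      obtain ⟨v, -, hv⟩ := Set.exists_mem_notMem_of_ncard_lt_ncard hlt (Set.toFinite _)
      rw [Set.mem_union, not_or] at hv
      refine ⟨Fin.snoc f v, fun i => ?_, fun i j hij => ?_⟩
      · induction i using Fin.lastCases with
        | last => rw [Fin.snoc_last]; exact hv.1
        | cast i => rw [Fin.snoc_castSucc]; exact hf i
      · induction i using Fin.lastCases with
        | last =>
          induction j using Fin.lastCases with
          | last => rfl
          | cast j =>
            rw [Fin.snoc_last, Fin.snoc_castSucc, MulAction.mem_orbit_symm] at hij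
            obtain ⟨g, hg⟩ := hij
            exact absurd ⟨(j, g), hg⟩ hv.2
        | cast i =>
          induction j using Fin.lastCases with
          | last =>
            rw [Fin.snoc_last, Fin.snoc_castSucc] at hij
            obtain ⟨g, hg⟩ := hij
            exact absurd ⟨(i, g), hg⟩ hv.2
          | cast j =>
            rw [Fin.snoc_castSucc, Fin.snoc_castSucc] at hij
            rw [hi i j hij]
  obtain ⟨f, hf, hi⟩ := hsmall 5 le_rfl
  refine ⟨f, fun i z _ ω => ?_, fun i j g hg => hi i j ⟨g⁻¹, funext fun ω => ?_⟩⟩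
  · by_contra hne
    exact hf i ⟨z, ⟨ω, hne⟩, z.2⟩
  · show f i (g⁻¹⁻¹ • ω) = f j ω
    rw [inv_inv, hg]

end Count

end Cfsg.Agent.StabDL
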