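/-
Vector stabilisers in soluble linear groups, 8: colourings of primitive permutation groups.
-/
import Cfsg.Agent.Lib.StabDL.Colour
import Cfsg.Agent.Lib.SolBase.Main

set_option autoImplicit false
set_option linter.style.haveILetI false
set_option linter.unusedSectionVars false
set_option maxHeartbeats 1000000

namespace Cfsg.Agent.StabDL

open Cfsg.Agent.PrimSol

universe u v

section General

variable {G : Type u} [Group G] {Ω : Type v} [MulAction G Ω] [Finite Ω]

open Classical in
/-- Three colours from two sets. -/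
noncomputable def col3 (A B : Finset Ω) (ω : Ω) : Fin 3 := if ω ∈ A then 0 else if ω ∈ B then 1 else 2

open Classical in
/-- Two colours from a set. -/
noncomputable def col2 (A : Finset Ω) (ω : Ω) : Fin 2 := if ω ∈ A then 0 else 1

/-- The class sizes of a colouring. -/
noncomputable def sizes {C : Type*} (f : Ω → C) (a : C) : ℕ := {ω | f ω = a}.ncard

theorem sizes_col2 (A : Finset Ω) : sizes (col2 A) = ![A.card, Nat.card Ω - A.card] := by
  classical
  funext a
  fin_cases a
  · show {ω | col2 A ω = 0}.ncard = A.card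
    rw [show {ω | col2 A ω = 0} = (A : Set Ω) by
      ext ω; by_cases h : ω ∈ A <;> simp [col2, h], Set.ncard_coe_finset]
  · show {ω | col2 A ω = 1}.ncard = Nat.card Ω - A.card
    rw [show {ω | col2 A ω = 1} = (A : Set Ω)ᶜ by
      ext ω; by_cases h : ω ∈ A <;> simp [col2, h], Set.ncard_compl, Set.ncard_coe_finset]

theorem sizes_col3 (A B : Finset Ω) (h : Disjoint A B) :
    sizes (col3 A B) = ![A.card, B.card, Nat.card Ω - (A.card + B.card)] := by
  classical
  have hd : ∀ ω, ω ∈ A → ω ∉ B := fun ω hω hω' => Finset.disjoint_left.1 h hω hω'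
  funext a
  fin_cases a
  · show {ω | col3 A B ω = 0}.ncard = A.card
    rw [show {ω | col3 A B ω = 0} = (A : Set Ω) by
      ext ω; by_cases h : ω ∈ A <;> by_cases h' : ω ∈ B <;> simp [col3, h, h'], Set.ncard_coe_finset]
  · show {ω | col3 A B ω = 1}.ncard = B.card
    rw [show {ω | col3 A B ω = 1} = (B : Set Ω) by
      ext ω; by_cases h : ω ∈ A <;> by_cases h' : ω ∈ B <;> simp [col3, h, h'] <;> exact hd ω h h',
      Set.ncard_coe_finset]
  · show {ω | col3 A B ω = 2}.ncard = Nat.card Ω - (A.card + B.card)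
    rw [show {ω | col3 A B ω = 2} = ((A ∪ B : Finset Ω) : Set Ω)ᶜ by
      ext ω; by_cases h : ω ∈ A <;> by_cases h' : ω ∈ B <;> simp [col3, h, h'],
      Set.ncard_compl, Set.ncard_coe_finset, Finset.card_union_of_disjoint h]

theorem sizes_comp {C C' : Type*} (σ : C ≃ C') (f : Ω → C) : sizes (σ ∘ f) = sizes f ∘ σ.symm := by
  funext a
  show {ω | σ (f ω) = a}.ncard = {ω | f ω = σ.symm a}.ncard
  simp only [Equiv.apply_eq_iff_eq_symm_apply]

theorem mem_of_col2 {A : Finset Ω} {g : G} (hg : g ∈ colStab G (col2 A)) {ω : Ω} (hω : ω ∈ A) : g • ω ∈ A := by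
  classical
  have h := hg ω
  by_contra hne
  simp [col2, hω, hne] at h

theorem mem_of_col3 {A B : Finset Ω} (hd : Disjoint A B) {g : G} (hg : g ∈ colStab G (col3 A B)) {ω : Ω} :
    (ω ∈ A → g • ω ∈ A) ∧ (ω ∈ B → g • ω ∈ B) := by
  classical
  have h := hg ω
  constructor <;> intro hω <;> by_contra hne
  · by_cases h' : g • ω ∈ B <;> simp [col3, hω, hne, h'] at h
  · have hA : ω ∉ A := fun h' => Finset.disjoint_left.1 hd h' hω
    by_cases h' : g • ω ∈ A <;> simp [col3, hω, hne, hA, h'] at h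

/-- Colourings with different sizes. -/
theorem good_of_sizes {c b : ℕ} (f : Fin 5 → Ω → Fin c) (hf : ∀ i, ColDL G (f i) b)
    (hs : Function.Injective fun i => sizes (f i)) : GoodCol G Ω c b :=
  ⟨f, hf, colInequiv_of_sizes hs⟩

/-- Permuting three classes of different sizes. -/
theorem good_of_distinct {b : ℕ} {f : Ω → Fin 3} (hf : ColDL G f b) (hs : Function.Injective (sizes f)) :
    GoodCol G Ω 3 b := by
  let σ : Fin 5 → Equiv.Perm (Fin 3) :=
    ![1, Equiv.swap 0 1, Equiv.swap 0 2, Equiv.swap 1 2, Equiv.swap 0 1 * Equiv.swap 1 2]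
  have hσ : ∀ i j, (∀ a, (σ i).symm a = (σ j).symm a) → i = j := by decide
  refine good_of_sizes (fun i => σ i ∘ f) (fun i => hf.of_eq (σ i).injective) fun i j h => hσ i j fun a => ?_
  simp only [sizes_comp] at h
  exact hs (congrFun h a)

/-- Two colours from five sets of different sizes. -/
theorem good_of_sets {b : ℕ} (A : Fin 5 → Finset Ω) (hA : ∀ i, ColDL G (col2 (A i)) b)
    (hs : Function.Injective fun i => (A i).card) : GoodCol G Ω 2 b :=
  good_of_sizes (fun i => col2 (A i)) hA fun i j h => hs (by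
    simpa [sizes_col2] using congrFun h 0)

theorem col2_compl [Fintype Ω] [DecidableEq Ω] {A : Finset Ω} {b : ℕ} (h : ColDL G (col2 A) b) :
    ColDL G (col2 Aᶜ) b :=
  h.of_le fun g hg ω => by
    have := hg ω
    by_cases h1 : g • ω ∈ A <;> by_cases h2 : ω ∈ A <;> simp [col2, h1, h2] at this ⊢

/-- A bound for the whole group. -/
theorem col_of_dl {C : Type*} {f : Ω → C} {b : ℕ} (h : DL G b) : ColDL G f b := fun z hz ω => by
  have h1 := map_derivedSeries_le_derivedSeries (colStab G f).subtype b ⟨z, hz, rfl⟩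
  rw [h, Subgroup.mem_bot] at h1
  rw [show (z : G) = 1 from h1, one_smul]

/-- Small orbits. -/
theorem col_small [Finite G] (hsol : Group.IsSolvable G) {C : Type*} (f : Ω → C) {m b : ℕ}
    (hm : ∀ n, 1 ≤ n → n ≤ m → PermDL.{u} n b) (h : ∀ a : C, {ω | f ω = a}.ncard ≤ m) : ColDL G f b :=
  fun z hz ω => orbit_dl hsol f hm (X := {y | f y = f ω}) rfl (Set.toFinite _) (h _)
    (fun g hg y hy => (hg y).trans hy) z hz

end General

section Affine

variable {G : Type u} [Group G] [Finite G] {U : Subgroup G} {p : ℕ} [Fact p.Prime] (D : Aff U p)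

theorem Aff.eq_of_span {g : G} {X : Set D.W} (h0 : g • D.e 0 = D.e 0) (hX : ∀ x ∈ X, g • D.e x = D.e x)
    (hspan : Submodule.span (ZMod p) X = ⊤) : ∀ ω : G ⧸ U, g • ω = ω := by
  obtain ⟨u, w, hw⟩ := D.aff g
  obtain rfl : w = 0 := by
    have := hw 0
    rw [h0, map_zero (D.τ u), add_zero] at this
    exact (D.e.injective this).symm
  have hL : D.τ u = LinearMap.id := LinearMap.ext_on hspan fun x hx => by
    have := hw x
    rw [hX x hx, zero_add] at this
    exact (D.e.injective this).symm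
  intro ω
  obtain ⟨x, rfl⟩ := D.e.surjective ω
  rw [hw, hL, zero_add, LinearMap.id_apply]

/-- Derived length from spanning points. -/
theorem Aff.col_span {C : Type*} {f : G ⧸ U → C} {b : ℕ} {X : Set D.W}
    (hspan : Submodule.span (ZMod p) X = ⊤)
    (h : ∀ x ∈ insert 0 X, ∀ z ∈ derivedSeries (colStab G f) b, (z : G) • D.e x = D.e x) : ColDL G f b :=
  fun z hz => D.eq_of_span (h 0 (Set.mem_insert _ _) z hz) (fun x hx => h x (Set.mem_insert_of_mem _ hx) z hz) hspan

include D

theorem Aff.two_mul_fix (g : G) (hg : ∃ ω : G ⧸ U, g • ω ≠ ω) :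
    2 * {ω : G ⧸ U | g • ω = ω}.ncard ≤ Nat.card (G ⧸ U) := by
  obtain ⟨u, w, hw⟩ := D.aff g
  rcases Set.eq_empty_or_nonempty {ω : G ⧸ U | g • ω = ω} with h | ⟨ω0, hω0⟩
  · rw [h, Set.ncard_empty]
    omega
  obtain ⟨x0, rfl⟩ := D.e.surjective ω0
  have hx0 : w + D.τ u x0 = x0 := D.e.injective ((hw x0).symm.trans hω0)
  let K : Submodule (ZMod p) D.W := LinearMap.ker (D.τ u - 1)
  have hK : K ≠ ⊤ := by
    intro h
    obtain ⟨ω, hne⟩ := hg
    obtain ⟨x, rfl⟩ := D.e.surjective ω
    have hid : ∀ y, D.τ u y = y := fun y => by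
      have : y ∈ K := h ▸ Submodule.mem_top
      simpa [K, sub_eq_zero] using this
    rw [hid] at hx0
    exact hne (by rw [hw, hid, show w = 0 from add_eq_right.1 hx0, zero_add])
  have hle : {ω : G ⧸ U | g • ω = ω}.ncard ≤ Nat.card K := by
    rw [← Nat.card_coe_set_eq]
    refine Nat.card_le_card_of_injective (fun ω => (⟨D.e.symm ω.1 - x0, ?_⟩ : K)) fun a b h => ?_
    · have h1 : g • (ω : G ⧸ U) = ω := ω.2
      obtain ⟨x, hx⟩ := D.e.surjective (ω : G ⧸ U)
      rw [← hx, hw] at h1
      have h2 := D.e.injective h1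
      rw [← hx, D.e.symm_apply_apply, LinearMap.mem_ker, LinearMap.sub_apply, Module.End.one_apply, map_sub,
        sub_eq_zero]
      conv_rhs => rw [← h2, ← hx0]
      abel
    · exact Subtype.ext (D.e.symm.injective (sub_left_injective (congrArg Subtype.val h)))
  have hlt := Submodule.finrank_lt hK
  rw [Module.natCard_eq_pow_finrank (K := ZMod p), Nat.card_zmod] at hle
  rw [show Nat.card (G ⧸ U) = U.index from rfl, D.card]
  calc 2 * {ω : G ⧸ U | g • ω = ω}.ncard ≤ p * p ^ Module.finrank (ZMod p) K :=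
        Nat.mul_le_mul (Fact.out : p.Prime).two_le hle
    _ ≤ p ^ Module.finrank (ZMod p) D.W := by
        rw [← pow_succ']
        exact Nat.pow_le_pow_right (Fact.out : p.Prime).pos hlt

theorem Aff.card_le (hsol : Group.IsSolvable G) : Nat.card G ≤ U.index ^ 4 := by
  haveI := hsol
  haveI : Module.Finite (ZMod p) D.W := Module.Finite.of_finite
  obtain ⟨x, y, z, h⟩ := SolBase.three_irred _ D.W U D.τ rfl D.inj D.irr inferInstance
  have hW : Nat.card D.W = U.index := Nat.card_congr D.e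
  have hU : Nat.card U ≤ U.index * (U.index * U.index) := by
    rw [← hW, ← Nat.card_prod, ← Nat.card_prod]
    refine Nat.card_le_card_of_injective (fun u : U => (D.τ u x, D.τ u y, D.τ u z)) fun u v huv => ?_
    simp only [Prod.mk.injEq] at huv
    refine (inv_mul_eq_one.1 (h (v⁻¹ * u) ?_ ?_ ?_)).symm <;>
      rw [map_mul, Module.End.mul_apply]
    · rw [huv.1, inv_apply_cancel]
    · rw [huv.2.1, inv_apply_cancel]
    · rw [huv.2.2, inv_apply_cancel]
  rw [← Subgroup.card_mul_index U]
  calc Nat.card U * U.index ≤ U.index * (U.index * U.index) * U.index := Nat.mul_le_mul_right _ hU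
    _ = U.index ^ 4 := by ring

theorem Aff.dl_of {c : ℕ} (hsol : Group.IsSolvable G) (h : LinDL.{u} p (Module.finrank (ZMod p) D.W) c) :
    DL G (c + 1) :=
  haveI := hsol
  D.dl c (h inferInstance D.W U D.τ rfl D.inj D.irr inferInstance)

omit D in
theorem six_pow_four : ∀ m, 32 ≤ m → 6 * (4 * m + 3) ^ 4 < 2 ^ m := by
  intro m hm
  induction m, hm using Nat.le_induction with
  | base => norm_num
  | succ m hm ih =>
    have h1 : (25 * (4 * (m + 1) + 3)) ^ 4 ≤ (28 * (4 * m + 3)) ^ 4 := Nat.pow_le_pow_left (by omega) 4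
    rw [mul_pow, mul_pow] at h1
    rw [pow_succ 2 m]
    have h2 : (4 * (m + 1) + 3) ^ 4 ≤ 2 * (4 * m + 3) ^ 4 := by norm_num at h1 ⊢; omega
    omega

theorem Aff.good_count (hsol : Group.IsSolvable G) {c : ℕ} (hc : 2 ≤ c) (h : 128 ≤ U.index) :
    GoodCol G (G ⧸ U) c 0 := by
  refine good_of_count (by omega) D.two_mul_fix (D.card_le hsol) ?_
  rw [show Nat.card (G ⧸ U) = U.index from rfl]
  calc 6 * U.index ^ 4 ≤ 6 * (4 * (U.index / 4) + 3) ^ 4 :=
        Nat.mul_le_mul_left _ (Nat.pow_le_pow_left (by omega) 4)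
    _ < 2 ^ (U.index / 4) := six_pow_four _ (by omega)
    _ ≤ c ^ (U.index / 4) := Nat.pow_le_pow_left hc _

open Classical in
/-- A set holding an affine basis. -/
theorem Aff.exists_span_set (hsol : Group.IsSolvable G) {k n : ℕ} (hk : Module.finrank (ZMod p) D.W = k)
    (hkn : k + 1 ≤ n) (h7 : n ≤ 7) (hn : n ≤ U.index) :
    ∃ A : Finset (G ⧸ U), A.card = n ∧ ColDL G (col2 A) 3 := by
  haveI : Module.Finite (ZMod p) D.W := Module.Finite.of_finite
  haveI := Fintype.ofFinite (G ⧸ U)
  let b := Module.finBasisOfFinrankEq (ZMod p) D.W hk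
  let A0 : Finset (G ⧸ U) := insert (D.e 0) (Finset.univ.image fun i => D.e (b i))
  have hA0 : A0.card ≤ n := by
    refine (Finset.card_insert_le _ _).trans (le_trans ?_ hkn)
    exact Nat.add_le_add_right (Finset.card_image_le.trans (Finset.card_fin k).le) 1
  obtain ⟨A, hA, hcard⟩ := Finset.exists_superset_card_eq hA0 (by
    rw [← Nat.card_eq_fintype_card]; exact hn)
  refine ⟨A, hcard, D.col_span b.span_eq fun x hx => ?_⟩
  refine orbit_dl hsol _ (m := 7) (fun j h1 h2 => perm_le_seven h1 h2) (X := (A : Set (G ⧸ U))) ?_ (Finset.finite_toSet A)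
    (by rw [Set.ncard_coe_finset, hcard]; exact h7) fun g hg y hy => mem_of_col2 hg hy
  refine hA ?_
  rcases hx with rfl | ⟨i, rfl⟩
  · exact Finset.mem_insert_self _ _
  · exact Finset.mem_insert_of_mem (Finset.mem_image_of_mem _ (Finset.mem_univ i))

end Affine

end Cfsg.Agent.StabDL
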