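/-
Vector stabilisers in soluble linear groups, 9: five colourings of primitive soluble groups.
-/
import Cfsg.Agent.Lib.StabDL.ColourAff

set_option autoImplicit false
set_option linter.style.haveILetI false
set_option linter.unusedSectionVars false
set_option maxHeartbeats 1000000

namespace Cfsg.Agent.StabDL

open Cfsg.Agent.PrimSol
open scoped commutatorElement

universe u

variable {G : Type u} [Group G] [Finite G] {U : Subgroup G} {p : ℕ} [Fact p.Prime] (D : Aff U p)
  (hsol : Group.IsSolvable G)

include D hsol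

open Classical in
/-- Four pairs holding an affine basis, told apart by one relation. -/
theorem Aff.pieces {k : ℕ} (b : Module.Basis (Fin k) (ZMod p) D.W) (i0 i1 : Fin k) (h01 : i0 ≠ i1)
    (RA RB : Finset (Fin k)) (hA : RA.card ≤ 2) (hB : RB.card ≤ 2) (hAB : Disjoint RA RB)
    (hA0 : i0 ∉ RA ∧ i1 ∉ RA) (hB0 : i0 ∉ RB ∧ i1 ∉ RB)
    (hall : ∀ j, j = i0 ∨ j = i1 ∨ j ∈ RA ∨ j ∈ RB) :
    ∃ A B : Finset (G ⧸ U), ColDL G (col3 A B) 1 ∧ Disjoint A B ∧ A.card = 2 + RA.card ∧ B.card = 2 + RB.card := by
  set s : D.W := b i0 - b i1 with hs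
  let pA : Finset D.W := insert 0 (insert (b i0) (RA.image b))
  let pB : Finset D.W := insert (b i1) (insert s (RB.image b))
  have hne : ∀ j, b j ≠ 0 := fun j => b.ne_zero j
  have hbj : ∀ i j, i ≠ j → b i ≠ b j := fun i j h e => h (b.injective e)
  have hcoord : ∀ i j, b.repr (b i) j = if i = j then 1 else 0 := fun i j => by
    rw [b.repr_self, Finsupp.single_apply]
  have hs_coord : ∀ j, b.repr s j = (if i0 = j then 1 else 0) - (if i1 = j then 1 else 0) := fun j => by
    rw [hs, map_sub, Finsupp.sub_apply, hcoord, hcoord]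
  have hsA : ∀ j, s ≠ b j := by
    intro j e
    have h0 := hs_coord j
    rw [e, hcoord, if_pos rfl] at h0
    by_cases h1 : i0 = j
    · have h2 := hs_coord i1
      rw [e, hcoord, if_neg h01, if_pos rfl, ← h1, if_neg h01, zero_sub] at h2
      exact one_ne_zero (neg_eq_zero.1 h2.symm)
    · rw [if_neg h1] at h0
      by_cases h3 : i1 = j
      · have h2 := hs_coord i0
        rw [e, hcoord, if_pos rfl, if_neg (Ne.symm h01), ← h3, if_neg (Ne.symm h01), sub_zero] at h2
        exact zero_ne_one h2
      · rw [if_neg h3, sub_zero] at h0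
        exact one_ne_zero h0
  have hs0 : s ≠ 0 := sub_ne_zero.2 (hbj _ _ h01)
  have memA : ∀ y ∈ pA, y = 0 ∨ y = b i0 ∨ ∃ j ∈ RA, y = b j := by
    intro y hy
    simp only [pA, Finset.mem_insert, Finset.mem_image] at hy
    rcases hy with h | h | ⟨j, hj, h⟩
    · exact Or.inl h
    · exact Or.inr (Or.inl h)
    · exact Or.inr (Or.inr ⟨j, hj, h.symm⟩)
  have memB : ∀ y ∈ pB, y = b i1 ∨ y = s ∨ ∃ j ∈ RB, y = b j := by
    intro y hy
    simp only [pB, Finset.mem_insert, Finset.mem_image] at hy
    rcases hy with h | h | ⟨j, hj, h⟩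
    · exact Or.inl h
    · exact Or.inr (Or.inl h)
    · exact Or.inr (Or.inr ⟨j, hj, h.symm⟩)
  have hdisj : Disjoint pA pB := Finset.disjoint_left.2 fun y hy hy' => by
    rcases memA y hy with rfl | rfl | ⟨i, hi, rfl⟩ <;> rcases memB _ hy' with h | h | ⟨j, hj, h⟩
    · exact hne _ h.symm
    · exact hs0 h.symm
    · exact hne _ h.symm
    · exact hbj _ _ h01 h
    · exact hsA _ h.symm
    · exact hbj _ _ (fun (e : i0 = j) => hB0.1 (e ▸ hj)) h
    · exact hbj _ _ (fun (e : i = i1) => hA0.2 (e ▸ hi)) h
    · exact hsA _ h.symm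
    · exact hbj _ _ (fun (e : i = j) => Finset.disjoint_left.1 hAB hi (e ▸ hj)) h
  let A := pA.image D.e
  let B := pB.image D.e
  have hd : Disjoint A B := Finset.disjoint_image D.e.injective |>.2 hdisj
  have cA : pA.card = 2 + RA.card := by
    simp only [pA]
    rw [Finset.card_insert_of_notMem, Finset.card_insert_of_notMem, Finset.card_image_of_injective _ b.injective]
    · omega
    · rw [Finset.mem_image]
      rintro ⟨j, hj, e⟩
      exact hA0.1 (b.injective e ▸ hj)
    · rw [Finset.mem_insert, Finset.mem_image]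
      rintro (e | ⟨j, hj, e⟩)
      · exact hne _ e.symm
      · exact hne _ e
  have cB : pB.card = 2 + RB.card := by
    simp only [pB]
    rw [Finset.card_insert_of_notMem, Finset.card_insert_of_notMem, Finset.card_image_of_injective _ b.injective]
    · omega
    · rw [Finset.mem_image]
      rintro ⟨j, hj, e⟩
      exact hsA _ e.symm
    · rw [Finset.mem_insert, Finset.mem_image]
      rintro (e | ⟨j, hj, e⟩)
      · exact hsA _ e.symm
      · exact hB0.2 (b.injective e ▸ hj)
  refine ⟨A, B, ?_, hd, (Finset.card_image_of_injective _ D.e.injective).trans cA,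
    (Finset.card_image_of_injective _ D.e.injective).trans cB⟩
  -- the four invariant pairs
  let P1 : Finset D.W := {0, b i0}
  let P2 : Finset D.W := {b i1, s}
  let P3 : Finset D.W := RA.image b
  let P4 : Finset D.W := RB.image b
  have key : ∀ g ∈ colStab G (col3 A B), ∀ P ∈ [P1, P2, P3, P4], ∀ y ∈ (P : Finset D.W),
      g • D.e y ∈ P.image D.e := by
    intro g hg
    obtain ⟨u, w, hw⟩ := D.aff g
    let T : D.W → D.W := fun x => w + D.τ u x
    have hT : Function.Injective T := fun x y h => apply_injective D.τ u (add_left_cancel h)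
    have hTA : ∀ y ∈ pA, T y ∈ pA := fun y hy => by
      have h1 := (mem_of_col3 hd hg).1 (Finset.mem_image_of_mem D.e hy)
      rw [hw] at h1
      obtain ⟨z, hz, e⟩ := Finset.mem_image.1 h1
      show w + D.τ u y ∈ _
      exact D.e.injective e ▸ hz
    have hTB : ∀ y ∈ pB, T y ∈ pB := fun y hy => by
      have h1 := (mem_of_col3 hd hg).2 (Finset.mem_image_of_mem D.e hy)
      rw [hw] at h1
      obtain ⟨z, hz, e⟩ := Finset.mem_image.1 h1
      show w + D.τ u y ∈ _
      exact D.e.injective e ▸ hz
    have e0 : T 0 ∈ pA := hTA 0 (by simp [pA])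
    have e1 : T (b i0) ∈ pA := hTA _ (by simp [pA])
    have e2 : T (b i1) ∈ pB := hTB _ (by simp [pB])
    have e3 : T s ∈ pB := hTB _ (by simp [pB])
    have hrel : T 0 + T (b i0) = T (b i1) + T s := by
      simp only [T, map_zero, hs, map_sub]
      abel
    have coA : ∀ y ∈ pA, ∀ j, j ∈ RA ∨ j ∈ RB → b.repr y j = if y = b j then 1 else 0 := by
      intro y hy j hj
      have hj0 : i0 ≠ j := fun e => hj.elim (e ▸ hA0.1) (e ▸ hB0.1)
      rcases memA y hy with rfl | rfl | ⟨i, hi, rfl⟩
      · rw [map_zero, Finsupp.zero_apply, if_neg (Ne.symm (hne j))]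
      · rw [hcoord, if_neg hj0, if_neg (hbj _ _ hj0)]
      · rw [hcoord]
        simp only [b.injective.eq_iff]
    have coB : ∀ y ∈ pB, ∀ j, j ∈ RA ∨ j ∈ RB → b.repr y j = if y = b j then 1 else 0 := by
      intro y hy j hj
      have hj0 : i0 ≠ j := fun e => hj.elim (e ▸ hA0.1) (e ▸ hB0.1)
      have hj1 : i1 ≠ j := fun e => hj.elim (e ▸ hA0.2) (e ▸ hB0.2)
      rcases memB y hy with rfl | rfl | ⟨i, hi, rfl⟩
      · rw [hcoord, if_neg hj1, if_neg (hbj _ _ hj1)]
      · rw [hs_coord, if_neg hj0, if_neg hj1, if_neg (hsA j), sub_zero]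
      · rw [hcoord]
        simp only [b.injective.eq_iff]
    have hsum : ∀ j, b.repr (T 0) j + b.repr (T (b i0)) j = b.repr (T (b i1)) j + b.repr (T s) j := fun j => by
      simpa using congrArg (fun z => b.repr z j) hrel
    have n01 : T 0 ≠ T (b i0) := fun e => hne i0 (hT e).symm
    have n23 : T (b i1) ≠ T s := fun e => hsA i1 (hT e).symm
    have nA : ∀ j ∈ RA, T 0 ≠ b j ∧ T (b i0) ≠ b j := by
      intro j hj
      have hB' : ∀ y ∈ pB, y ≠ b j := fun y hy e => Finset.disjoint_left.1 hdisj
        (show b j ∈ pA by simp [pA]; exact Or.inr (Or.inr ⟨j, hj, rfl⟩)) (e ▸ hy)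
      have h := hsum j
      rw [coA _ e0 j (Or.inl hj), coA _ e1 j (Or.inl hj), coB _ e2 j (Or.inl hj), coB _ e3 j (Or.inl hj),
        if_neg (hB' _ e2), if_neg (hB' _ e3), add_zero] at h
      constructor <;> intro e
      · rw [if_pos e, if_neg (fun e' => n01 (e.trans e'.symm)), add_zero] at h
        exact one_ne_zero h
      · rw [if_pos e, if_neg (fun e' => n01 (e'.trans e.symm)), zero_add] at h
        exact one_ne_zero h
    have nB : ∀ j ∈ RB, T (b i1) ≠ b j ∧ T s ≠ b j := by
      intro j hj
      have hA' : ∀ y ∈ pA, y ≠ b j := fun y hy e => Finset.disjoint_left.1 hdisj (e ▸ hy)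
        (show b j ∈ pB by simp [pB]; exact Or.inr (Or.inr ⟨j, hj, rfl⟩))
      have h := hsum j
      rw [coA _ e0 j (Or.inr hj), coA _ e1 j (Or.inr hj), coB _ e2 j (Or.inr hj), coB _ e3 j (Or.inr hj),
        if_neg (hA' _ e0), if_neg (hA' _ e1), add_zero] at h
      constructor <;> intro e
      · rw [if_pos e, if_neg (fun e' => n23 (e.trans e'.symm)), add_zero] at h
        exact zero_ne_one h
      · rw [if_pos e, if_neg (fun e' => n23 (e'.trans e.symm)), zero_add] at h
        exact zero_ne_one h
    have in1 : ∀ y ∈ P1, T y ∈ P1 := by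
      intro y hy
      have hy' : y = 0 ∨ y = b i0 := by simpa [P1] using hy
      have hyA : T y ∈ pA := hTA y (by rcases hy' with rfl | rfl <;> simp [pA])
      rcases memA _ hyA with h | h | ⟨j, hj, h⟩
      · simp [P1, h]
      · simp [P1, h]
      · rcases hy' with rfl | rfl
        · exact absurd h (nA j hj).1
        · exact absurd h (nA j hj).2
    have in2 : ∀ y ∈ P2, T y ∈ P2 := by
      intro y hy
      have hy' : y = b i1 ∨ y = s := by simpa [P2] using hy
      have hyB : T y ∈ pB := hTB y (by rcases hy' with rfl | rfl <;> simp [pB])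
      rcases memB _ hyB with h | h | ⟨j, hj, h⟩
      · simp [P2, h]
      · simp [P2, h]
      · rcases hy' with rfl | rfl
        · exact absurd h (nB j hj).1
        · exact absurd h (nB j hj).2
    have onto : ∀ P : Finset D.W, (∀ y ∈ P, T y ∈ P) → ∀ z ∈ P, ∃ y ∈ P, T y = z := fun P hP z hz => by
      have := (Finset.eq_of_subset_of_card_le (Finset.image_subset_iff.2 hP)
        (Finset.card_image_of_injective _ hT).ge).ge hz
      exact Finset.mem_image.1 this
    have in3 : ∀ y ∈ P3, T y ∈ P3 := by
      intro y hy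
      obtain ⟨j, hj, rfl⟩ := Finset.mem_image.1 hy
      have hyA : T (b j) ∈ pA := hTA _ (by simp [pA]; exact Or.inr (Or.inr ⟨j, hj, rfl⟩))
      rcases memA _ hyA with h | h | ⟨l, hl, h⟩
      · obtain ⟨y, hy, e⟩ := onto P1 in1 0 (by simp [P1])
        rcases (show y = 0 ∨ y = b i0 by simpa [P1] using hy) with rfl | rfl
        · exact absurd (hT (h.trans e.symm)) (hne j)
        · exact absurd (hT (h.trans e.symm)) (hbj _ _ fun e => hA0.1 (e ▸ hj))
      · obtain ⟨y, hy, e⟩ := onto P1 in1 (b i0) (by simp [P1])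
        rcases (show y = 0 ∨ y = b i0 by simpa [P1] using hy) with rfl | rfl
        · exact absurd (hT (h.trans e.symm)) (hne j)
        · exact absurd (hT (h.trans e.symm)) (hbj _ _ fun e => hA0.1 (e ▸ hj))
      · exact h ▸ Finset.mem_image_of_mem _ hl
    have in4 : ∀ y ∈ P4, T y ∈ P4 := by
      intro y hy
      obtain ⟨j, hj, rfl⟩ := Finset.mem_image.1 hy
      have hyB : T (b j) ∈ pB := hTB _ (by simp [pB]; exact Or.inr (Or.inr ⟨j, hj, rfl⟩))
      rcases memB _ hyB with h | h | ⟨l, hl, h⟩
      · obtain ⟨y, hy, e⟩ := onto P2 in2 (b i1) (by simp [P2])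
        rcases (show y = b i1 ∨ y = s by simpa [P2] using hy) with rfl | rfl
        · exact absurd (hT (h.trans e.symm)) (hbj _ _ fun e => hB0.2 (e ▸ hj))
        · exact absurd (hT (h.trans e.symm)).symm (hsA j)
      · obtain ⟨y, hy, e⟩ := onto P2 in2 s (by simp [P2])
        rcases (show y = b i1 ∨ y = s by simpa [P2] using hy) with rfl | rfl
        · exact absurd (hT (h.trans e.symm)) (hbj _ _ fun e => hB0.2 (e ▸ hj))
        · exact absurd (hT (h.trans e.symm)).symm (hsA j)
      · exact h ▸ Finset.mem_image_of_mem _ hl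
    intro P hP y hy
    rw [hw]
    refine Finset.mem_image_of_mem D.e ?_
    simp only [List.mem_cons, List.not_mem_nil, or_false] at hP
    rcases hP with rfl | rfl | rfl | rfl
    · exact in1 y hy
    · exact in2 y hy
    · exact in3 y hy
    · exact in4 y hy
  refine D.col_span b.span_eq fun x hx => ?_
  obtain ⟨P, hP, hxP, hPc⟩ : ∃ P ∈ [P1, P2, P3, P4], x ∈ (P : Finset D.W) ∧ P.card ≤ 2 := by
    rcases hx with rfl | ⟨j, rfl⟩
    · exact ⟨P1, by simp, by simp [P1], Finset.card_le_two⟩
    · rcases hall j with rfl | rfl | hj | hj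
      · exact ⟨P1, by simp, by simp [P1], Finset.card_le_two⟩
      · exact ⟨P2, by simp, by simp [P2], Finset.card_le_two⟩
      · exact ⟨P3, by simp, Finset.mem_image_of_mem _ hj, Finset.card_image_le.trans hA⟩
      · exact ⟨P4, by simp, Finset.mem_image_of_mem _ hj, Finset.card_image_le.trans hB⟩
  refine orbit_dl hsol _ (m := 2) (fun n h1 h2 => perm_le_two h1 h2) (X := (P.image D.e : Set (G ⧸ U))) ?_
    (Finset.finite_toSet _) (by rw [Set.ncard_coe_finset]; exact Finset.card_image_le.trans hPc) fun g hg y hy => ?_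
  · exact Finset.mem_coe.2 (Finset.mem_image_of_mem _ hxP)
  · obtain ⟨z, hz, rfl⟩ := Finset.mem_image.1 (Finset.mem_coe.1 hy)
    exact Finset.mem_coe.2 (key g hg P hP z hz)

open Classical in
/-- A point and two independent points. -/
theorem Aff.colour3_plane (hk : Module.finrank (ZMod p) D.W = 2) (h9 : 9 ≤ U.index) :
    GoodCol G (G ⧸ U) 3 1 := by
  haveI : Module.Finite (ZMod p) D.W := Module.Finite.of_finite
  let b := Module.finBasisOfFinrankEq (ZMod p) D.W hk
  let A : Finset (G ⧸ U) := {D.e 0}
  let B : Finset (G ⧸ U) := {D.e (b 0), D.e (b 1)}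
  have hd : Disjoint A B := by
    simp only [A, B, Finset.disjoint_singleton_left, Finset.mem_insert, Finset.mem_singleton, D.e.injective.eq_iff]
    exact fun h => h.elim (fun e => b.ne_zero 0 e.symm) fun e => b.ne_zero 1 e.symm
  have hB : B.card = 2 := Finset.card_pair fun e => absurd (b.injective (D.e.injective e)) (by decide)
  refine good_of_distinct (f := col3 A B) (D.col_span b.span_eq fun x hx => ?_) ?_
  · rcases hx with rfl | ⟨i, rfl⟩
    · exact orbit_dl hsol _ (m := 2) (fun n h1 h2 => perm_le_two h1 h2) (X := (A : Set (G ⧸ U)))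
        (Finset.mem_coe.2 (Finset.mem_singleton_self _)) (Finset.finite_toSet _) (by rw [Set.ncard_coe_finset]; simp [A])
        fun g hg y hy => (mem_of_col3 hd hg).1 hy
    · exact orbit_dl hsol _ (m := 2) (fun n h1 h2 => perm_le_two h1 h2) (X := (B : Set (G ⧸ U)))
        (Finset.mem_coe.2 (by fin_cases i <;> simp [B])) (Finset.finite_toSet _) (by rw [Set.ncard_coe_finset, hB])
        fun g hg y hy => (mem_of_col3 hd hg).2 hy
  · rw [sizes_col3 A B hd, hB, show A.card = 1 from Finset.card_singleton _,
      show Nat.card (G ⧸ U) = U.index from rfl]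
    intro i j h
    fin_cases i <;> fin_cases j <;> simp at h <;> first | rfl | omega

open Classical in
/-- A point on a line. -/
theorem Aff.colour3_line (hk : Module.finrank (ZMod p) D.W = 1) (h5 : 3 ≤ U.index) :
    GoodCol G (G ⧸ U) 3 1 := by
  refine good_of_distinct (f := col3 {D.e 0} (∅ : Finset (G ⧸ U))) ?_ ?_
  · intro z hz ω
    let f : G ⧸ U → Fin 3 := col3 {D.e 0} ∅
    let N : Subgroup (colStab G f) :=
      { carrier := {y | ∀ ω : G ⧸ U, (y : G) • ω = ω}
        one_mem' := fun ω => by simp
        mul_mem' := fun {a b} ha hb ω => by rw [Subgroup.coe_mul, mul_smul, hb, ha]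
        inv_mem' := fun {a} ha ω => by
          rw [Subgroup.coe_inv, inv_smul_eq_iff, ha] }
    suffices derivedSeries (colStab G f) 1 ≤ N from this hz ω
    rw [derivedSeries_one, commutator_def, Subgroup.commutator_le]
    intro a _ c _ ω
    obtain ⟨x, rfl⟩ := D.e.surjective ω
    have lin : ∀ y : colStab G f, ∃ t : ZMod p, ∀ x, (y : G) • D.e x = D.e (t • x) := by
      intro y
      obtain ⟨u, w, hw⟩ := D.aff (y : G)
      have hd : Disjoint ({D.e 0} : Finset (G ⧸ U)) ∅ := Finset.disjoint_empty_right _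
      have h0 := (mem_of_col3 hd y.2).1 (Finset.mem_singleton_self (D.e 0))
      rw [Finset.mem_singleton, hw, D.e.injective.eq_iff, map_zero (D.τ u), add_zero] at h0
      obtain ⟨v, hv, hv'⟩ := finrank_eq_one_iff'.1 hk
      obtain ⟨t, ht⟩ := hv' (D.τ u v)
      refine ⟨t, fun x => ?_⟩
      obtain ⟨r, rfl⟩ := hv' x
      rw [hw, h0, zero_add, map_smul, ← ht, smul_comm]
    obtain ⟨s, hs⟩ := lin a
    obtain ⟨t, ht⟩ := lin c
    have hac : ∀ x, ((a * c : colStab G f) : G) • D.e x = ((c * a : colStab G f) : G) • D.e x := fun x => by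
      rw [Subgroup.coe_mul, Subgroup.coe_mul, mul_smul, mul_smul, hs, ht, hs, ht, smul_comm]
    show ((⁅a, c⁆ : colStab G f) : G) • D.e x = D.e x
    obtain ⟨y, hy⟩ := D.e.surjective (((c * a : colStab G f) : G)⁻¹ • D.e x)
    have e : ((⁅a, c⁆ : colStab G f) : G) = ((a * c : colStab G f) : G) * ((c * a : colStab G f) : G)⁻¹ := by
      rw [commutatorElement_def]; push_cast; group
    rw [e, mul_smul, ← hy, hac, hy, smul_inv_smul]
  · rw [sizes_col3 _ _ (Finset.disjoint_empty_right _), Finset.card_singleton, Finset.card_empty,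
      show Nat.card (G ⧸ U) = U.index from rfl]
    intro i j h
    fin_cases i <;> fin_cases j <;> simp at h <;> first | rfl | omega

/-- Three colours, the primitive case. -/
theorem Aff.colour3 (h5 : 5 ≤ U.index) : GoodCol G (G ⧸ U) 3 1 := by
  classical
  haveI : Module.Finite (ZMod p) D.W := Module.Finite.of_finite
  have hcard := D.card
  obtain ⟨k, hk⟩ : ∃ k, Module.finrank (ZMod p) D.W = k := ⟨_, rfl⟩
  rw [hk] at hcard
  have hp := (Fact.out : p.Prime)
  have hk0 : k ≠ 0 := fun h => by rw [h, pow_zero] at hcard; omega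
  let b := Module.finBasisOfFinrankEq (ZMod p) D.W hk
  have hlow : ∀ n, n ≤ k → 2 ^ n ≤ U.index := fun n hn =>
    hcard ▸ (Nat.pow_le_pow_right (by norm_num) hn).trans (Nat.pow_le_pow_left hp.two_le k)
  rcases (show k = 1 ∨ k = 2 ∨ k = 3 ∨ k = 4 ∨ k = 5 ∨ 6 ≤ k by omega) with rfl | rfl | rfl | rfl | rfl | hk6
  · exact D.colour3_line hsol hk (by omega)
  · refine D.colour3_plane hsol hk ?_
    by_contra h
    have : p ≤ 2 := by
      by_contra hp2
      have : 3 ^ 2 ≤ p ^ 2 := Nat.pow_le_pow_left (by omega) 2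
      omega
    have : p = 2 := le_antisymm this hp.two_le
    rw [this] at hcard
    omega
  · obtain ⟨A, B, hdl, hd, hA, hB⟩ := D.pieces hsol b 0 1 (by decide) ∅ {2} (by decide) (by decide) (by decide)
      (by decide) (by decide) (by decide)
    obtain ⟨A', B', hdl', hd', hA', hB'⟩ := D.pieces hsol b 0 1 (by decide) {2} ∅ (by decide) (by decide) (by decide)
      (by decide) (by decide) (by decide)
    rcases (show 8 = U.index ∨ 8 < U.index by have := hlow 3 le_rfl; omega) with h8 | h8
    · -- eight points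
      let C : Finset (G ⧸ U) := {D.e 0, D.e (b 2)}
      let E : Finset (G ⧸ U) := {D.e (b 0), D.e (b 1)}
      have hdCE : Disjoint C E := by
        simp only [C, E, Finset.disjoint_left, Finset.mem_insert, Finset.mem_singleton]
        rintro _ (rfl | rfl) (h | h) <;>
          first
            | exact b.ne_zero _ (D.e.injective h).symm
            | exact absurd (b.injective (D.e.injective h)) (by decide)
      have hC : C.card = 2 := Finset.card_pair fun e => b.ne_zero 2 (D.e.injective e).symm
      have hE : E.card = 2 := Finset.card_pair fun e => absurd (b.injective (D.e.injective e)) (by decide)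
      have hCE : ColDL G (col3 C E) 1 := D.col_span b.span_eq fun x hx => by
        obtain ⟨X, hX, hxX⟩ : ∃ X, (X = C ∨ X = E) ∧ D.e x ∈ X := by
          rcases hx with rfl | ⟨i, rfl⟩
          · exact ⟨C, Or.inl rfl, by simp [C]⟩
          · fin_cases i
            · exact ⟨E, Or.inr rfl, by simp [E]⟩
            · exact ⟨E, Or.inr rfl, by simp [E]⟩
            · exact ⟨C, Or.inl rfl, by simp [C]⟩
        refine orbit_dl hsol _ (m := 2) (fun n h1 h2 => perm_le_two h1 h2) (X := (X : Set (G ⧸ U)))
          (Finset.mem_coe.2 hxX) (Finset.finite_toSet _)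
          (by rw [Set.ncard_coe_finset]; rcases hX with rfl | rfl <;> omega) fun g hg y hy => ?_
        rcases hX with rfl | rfl
        · exact (mem_of_col3 hdCE hg).1 hy
        · exact (mem_of_col3 hdCE hg).2 hy
      let f : Fin 5 → G ⧸ U → Fin 3 := ![col3 A B, col3 A' B', Equiv.swap 0 2 ∘ col3 A B, col3 C E,
        Equiv.swap 1 2 ∘ col3 C E]
      have ht : Nat.card (G ⧸ U) = 8 := h8.symm
      refine good_of_sizes f (fun i => ?_) ?_
      · fin_cases i
        · exact hdl
        · exact hdl'
        · exact hdl.of_eq (Equiv.injective _)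
        · exact hCE
        · exact hCE.of_eq (Equiv.injective _)
      · have hsz : ∀ i, sizes (f i) = (![![2, 3, 3], ![3, 2, 3], ![3, 3, 2], ![2, 2, 4], ![2, 4, 2]] : Fin 5 → Fin 3 → ℕ) i := by
          intro i
          fin_cases i <;> funext a <;> fin_cases a <;>
            simp [f, sizes_comp, sizes_col3, hd, hd', hdCE, hA, hB, hA', hB', hC, hE, ht, Equiv.swap_apply_def]
        intro i j h
        simp only [hsz] at h
        revert h i j
        decide
    · refine good_of_distinct hdl ?_
      have : 27 ≤ U.index := by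
        have : 3 ≤ p := by
          by_contra hp2
          have : p = 2 := by have := hp.two_le; omega
          rw [this] at hcard
          omega
        exact hcard ▸ (Nat.pow_le_pow_left this 3)
      rw [sizes_col3 A B hd, hA, hB, show Nat.card (G ⧸ U) = U.index from rfl]
      intro i j h
      fin_cases i <;> fin_cases j <;> simp at h <;> first | rfl | omega
  · obtain ⟨A, B, hdl, hd, hA, hB⟩ := D.pieces hsol b 0 1 (by decide) ∅ {2, 3} (by decide) (by decide) (by decide)
      (by decide) (by decide) (by decide)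
    refine good_of_distinct hdl ?_
    have := hlow 4 le_rfl
    rw [sizes_col3 A B hd, hA, hB, show Nat.card (G ⧸ U) = U.index from rfl]
    intro i j h
    fin_cases i <;> fin_cases j <;> simp at h <;> first | rfl | omega
  · obtain ⟨A, B, hdl, hd, hA, hB⟩ := D.pieces hsol b 0 1 (by decide) {4} {2, 3} (by decide) (by decide) (by decide)
      (by decide) (by decide) (by decide)
    refine good_of_distinct hdl ?_
    have := hlow 5 le_rfl
    rw [sizes_col3 A B hd, hA, hB, show Nat.card (G ⧸ U) = U.index from rfl]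
    intro i j h
    fin_cases i <;> fin_cases j <;> simp at h <;> first | rfl | omega
  · obtain ⟨f, hf, hi⟩ : GoodCol G (G ⧸ U) 3 0 := by
      by_cases h128 : 128 ≤ U.index
      · exact D.good_count hsol (by norm_num) h128
      · have h64 := hlow 6 hk6
        have hk7 : k < 7 := by
          by_contra h
          have := hlow 7 (by omega)
          omega
        obtain rfl : k = 6 := by omega
        have hp2 : p = 2 := by
          by_contra h
          have : 3 ^ 6 ≤ p ^ 6 := Nat.pow_le_pow_left (by have := hp.two_le; omega) 6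
          omega
        subst hp2
        refine good_of_count (N := 64 * 2187) (by norm_num) D.two_mul_fix ?_ ?_
        · haveI := hsol
          have hU : Nat.card U ≤ 2187 := SolClasses.irred_six_two (Nat.card_zmod 2) D.W U D.τ hk D.inj D.irr inferInstance
          rw [← Subgroup.card_mul_index U, hcard, mul_comm]
          exact Nat.mul_le_mul (by norm_num) hU
        · rw [show Nat.card (G ⧸ U) = U.index from rfl, hcard]
          norm_num
    exact ⟨f, fun i => (hf i).mono (by norm_num), hi⟩

open Classical in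
/-- A set with one relation among its quadruples. -/
theorem Aff.zero_sum (h2 : ∀ x : D.W, x + x = 0) (S R : Finset D.W) (hRS : R ⊆ S) (hR : R.card = 4)
    (hS : S.card ≤ R.card + 7) (hR0 : R.sum id = 0) (huniq : ∀ R' ⊆ S, R'.card = 4 → R'.sum id = 0 → R' = R)
    (h0 : (0 : D.W) ∈ S) {k : ℕ} (b : Module.Basis (Fin k) (ZMod p) D.W) (hb : ∀ i, b i ∈ S) :
    ColDL G (col2 (S.image D.e)) 3 := by
  set A := S.image D.e
  have key : ∀ g ∈ colStab G (col2 A), (∀ y ∈ R, g • D.e y ∈ R.image D.e) ∧
      ∀ y ∈ S \ R, g • D.e y ∈ (S \ R).image D.e := by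
    intro g hg
    obtain ⟨u, w, hw⟩ := D.aff g
    let T : D.W → D.W := fun x => w + D.τ u x
    have hT : Function.Injective T := fun x y h => apply_injective D.τ u (add_left_cancel h)
    have hTS : ∀ y ∈ S, T y ∈ S := fun y hy => by
      have h1 := mem_of_col2 hg (Finset.mem_image_of_mem D.e hy)
      rw [hw] at h1
      obtain ⟨z, hz, e⟩ := Finset.mem_image.1 h1
      show w + D.τ u y ∈ _
      exact D.e.injective e ▸ hz
    have hTR : R.image T = R := by
      refine huniq _ (Finset.image_subset_iff.2 fun y hy => hTS y (hRS hy))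
        ((Finset.card_image_of_injective _ hT).trans hR) ?_
      rw [Finset.sum_image fun a _ c _ h => hT h]
      simp only [id, T, Finset.sum_add_distrib, Finset.sum_const, hR]
      rw [← map_sum, show ∑ x ∈ R, x = R.sum id from rfl, hR0, map_zero, add_zero,
        show (4 : ℕ) • w = (w + w) + (w + w) by abel, h2]
    refine ⟨fun y hy => ?_, fun y hy => ?_⟩ <;> rw [hw] <;> refine Finset.mem_image_of_mem D.e ?_
    · exact hTR ▸ Finset.mem_image_of_mem T hy
    · rw [Finset.mem_sdiff] at hy ⊢
      refine ⟨hTS y hy.1, fun h => hy.2 ?_⟩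
      obtain ⟨z, hz, e⟩ := Finset.mem_image.1 (hTR.ge h)
      exact hT e ▸ hz
  refine D.col_span b.span_eq fun x hx => ?_
  have hxS : x ∈ S := by
    rcases hx with rfl | ⟨i, rfl⟩
    · exact h0
    · exact hb i
  by_cases hxR : x ∈ R
  · refine orbit_dl hsol _ (m := 7) (fun n h1 h2 => perm_le_seven h1 h2) (X := (R.image D.e : Set (G ⧸ U))) ?_
      (Finset.finite_toSet _) (by rw [Set.ncard_coe_finset]; exact Finset.card_image_le.trans (by omega))
      fun g hg y hy => ?_
    · exact Finset.mem_coe.2 (Finset.mem_image_of_mem _ hxR)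
    · obtain ⟨z, hz, rfl⟩ := Finset.mem_image.1 (Finset.mem_coe.1 hy)
      exact Finset.mem_coe.2 ((key g hg).1 z hz)
  · refine orbit_dl hsol _ (m := 7) (fun n h1 h2 => perm_le_seven h1 h2) (X := ((S \ R).image D.e : Set (G ⧸ U))) ?_
      (Finset.finite_toSet _) (by
        rw [Set.ncard_coe_finset]
        refine Finset.card_image_le.trans ?_
        rw [Finset.card_sdiff_of_subset hRS]
        omega)
      fun g hg y hy => ?_
    · exact Finset.mem_coe.2 (Finset.mem_image_of_mem _ (Finset.mem_sdiff.2 ⟨hxS, hxR⟩))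
    · obtain ⟨z, hz, rfl⟩ := Finset.mem_image.1 (Finset.mem_coe.1 hy)
      exact Finset.mem_coe.2 ((key g hg).2 z hz)

end Cfsg.Agent.StabDL
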