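/-
Vector stabilisers in soluble linear groups, 10: colourings of transitive soluble groups in two and three colours.
-/
import Cfsg.Agent.Lib.StabDL.ColourPrim

set_option autoImplicit false
set_option linter.style.haveILetI false
set_option linter.unusedSectionVars false
set_option maxHeartbeats 1000000

namespace Cfsg.Agent.StabDL

open Cfsg.Agent.PrimSol

universe u v

theorem perm_le_three {n : ℕ} (h1 : 1 ≤ n) (h2 : n ≤ 3) : PermDL.{u} n 2 := by
  interval_cases n
  · exact perm_one 2
  · exact perm2.mono (by norm_num)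
  · exact perm_prime Nat.prime_three

section Small

variable {G : Type u} [Group G] {Ω : Type v} [MulAction G Ω] [Finite Ω]

theorem exists_sets {n : Fin 5 → ℕ} (h : ∀ i, n i ≤ Nat.card Ω) :
    ∃ A : Fin 5 → Finset Ω, ∀ i, (A i).card = n i := by
  classical
  haveI := Fintype.ofFinite Ω
  have : ∀ i, ∃ A : Finset Ω, A.card = n i := fun i => by
    obtain ⟨A, -, hA⟩ := Finset.exists_subset_card_eq (s := (Finset.univ : Finset Ω)) (n := n i)
      (by rw [Finset.card_univ, ← Nat.card_eq_fintype_card]; exact h i)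
    exact ⟨A, hA⟩
  choose A hA using this
  exact ⟨A, hA⟩

/-- When every stabiliser is small, five sizes suffice. -/
theorem good_two_all {b : ℕ} (h4 : 4 ≤ Nat.card Ω) (h : ∀ f : Ω → Fin 2, ColDL G f b) : GoodCol G Ω 2 b := by
  obtain ⟨A, hA⟩ := exists_sets (Ω := Ω) (n := fun i => (i : ℕ)) fun i => by have := i.isLt; omega
  exact good_of_sets A (fun i => h _) fun i j e => Fin.val_injective (by simpa [hA] using e)

/-- Three colours on at most four points. -/
theorem good_three_small [Finite G] (hsol : Group.IsSolvable G) (h2 : 2 ≤ Nat.card Ω) (h4 : Nat.card Ω ≤ 4) :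
    GoodCol G Ω 3 1 := by
  classical
  haveI := Fintype.ofFinite Ω
  have key : ∀ (n : ℕ) (E : Ω ≃ Fin n) (F : Fin 5 → Fin n → Fin 3),
      (∀ i a, (Finset.univ.filter fun x => F i x = a).card ≤ 2) →
      (∀ i j, (∀ a, (Finset.univ.filter fun x => F i x = a).card = (Finset.univ.filter fun x => F j x = a).card) →
        i = j) → GoodCol G Ω 3 1 := by
    intro n E F h1 h2
    have hsz : ∀ i a, {ω | F i (E ω) = a}.ncard = (Finset.univ.filter fun x => F i x = a).card := fun i a => by
      rw [← Set.ncard_image_of_injective _ E.injective, ← Set.ncard_coe_finset]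
      congr 1
      ext x
      simp
    refine good_of_sizes (fun i => F i ∘ E) (fun i => col_small hsol _ (m := 2) (fun k a c => perm_le_two a c)
      fun a => (hsz i a).le.trans (h1 i a)) fun i j e => h2 i j fun a => ?_
    rw [← hsz, ← hsz]
    exact congrFun e a
  rcases (show Nat.card Ω = 2 ∨ Nat.card Ω = 3 ∨ Nat.card Ω = 4 by omega) with h | h | h
  · exact key 2 (Finite.equivFinOfCardEq h) ![![0, 0], ![1, 1], ![2, 2], ![0, 1], ![0, 2]] (by decide) (by decide)
  · exact key 3 (Finite.equivFinOfCardEq h) ![![0, 0, 1], ![0, 0, 2], ![1, 1, 0], ![1, 1, 2], ![2, 2, 0]]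
      (by decide) (by decide)
  · exact key 4 (Finite.equivFinOfCardEq h)
      ![![0, 0, 1, 1], ![0, 0, 2, 2], ![1, 1, 2, 2], ![0, 0, 1, 2], ![1, 1, 0, 2]] (by decide) (by decide)

end Small

/-- Nine of the sixty-four points. -/
def nine : Fin 9 → Fin 6 → ZMod 2 :=
  ![![0, 0, 0, 0, 0, 0], ![1, 0, 0, 0, 0, 0], ![0, 1, 0, 0, 0, 0], ![1, 1, 0, 0, 0, 0], ![0, 0, 1, 0, 0, 0],
    ![0, 0, 0, 1, 0, 0], ![0, 0, 0, 0, 1, 0], ![0, 0, 0, 0, 0, 1], ![1, 0, 1, 1, 1, 1]]

theorem nine_injective : ∀ i j : Fin 9, (∀ c, nine i c = nine j c) → i = j := by decide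

theorem quad_unique : ∀ I ∈ (Finset.univ : Finset (Fin 9)).powersetCard 4, (∀ c, ∑ i ∈ I, nine i c = 0) →
    I = {0, 1, 2, 3} := by decide +kernel

theorem quad_sum : ∀ c, ∑ i ∈ ({0, 1, 2, 3} : Finset (Fin 9)), nine i c = 0 := by decide

theorem nine_single : ∀ i : Fin 6, ∃ j : Fin 9, j ≠ 8 ∧ ∀ c, nine j c = if c = i then 1 else 0 := by decide

section Prim

variable {G : Type u} [Group G] [Finite G] {U : Subgroup G} {p : ℕ} [Fact p.Prime] (D : Aff U p)
  (hsol : Group.IsSolvable G)

include D hsol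

/-- Two colours on sixty-four points. -/
theorem Aff.colour2_six (h2 : p = 2) (hk : Module.finrank (ZMod p) D.W = 6) : GoodCol G (G ⧸ U) 2 3 := by
  classical
  subst h2
  haveI : Module.Finite (ZMod 2) D.W := Module.Finite.of_finite
  haveI := Fintype.ofFinite (G ⧸ U)
  let b := Module.finBasisOfFinrankEq (ZMod 2) D.W hk
  let φ := b.equivFun
  have h64 : U.index = 64 := by rw [D.card, hk]; norm_num
  have hadd : ∀ x : D.W, x + x = 0 := fun x => by
    rw [← two_smul (ZMod 2) x, show (2 : ZMod 2) = 0 from rfl, zero_smul]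
  have hmake : ∀ I : Finset (Fin 9), Finset.univ.erase 8 ⊆ I →
      ∃ A : Finset (G ⧸ U), A.card = I.card ∧ ColDL G (col2 A) 3 := by
    intro I h8
    let f : Fin 9 → D.W := fun i => φ.symm (nine i)
    have hinj : Function.Injective f := fun i j e => nine_injective i j fun c => congrFun (φ.symm.injective e) c
    have hsum : ∀ J : Finset (Fin 9), (J.image f).sum id = φ.symm (∑ i ∈ J, nine i) := fun J => by
      rw [Finset.sum_image fun a _ c _ e => hinj e, map_sum]
      rfl
    have h0 : ∀ i : Fin 9, i ≠ 8 → i ∈ I := fun i hi => h8 (Finset.mem_erase.2 ⟨hi, Finset.mem_univ i⟩)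
    let S : Finset D.W := I.image f
    let R : Finset D.W := ({0, 1, 2, 3} : Finset (Fin 9)).image f
    refine ⟨S.image D.e, (Finset.card_image_of_injective _ D.e.injective).trans
      (Finset.card_image_of_injective _ hinj), ?_⟩
    refine D.zero_sum hsol hadd S R (Finset.image_subset_image fun i hi => h0 i ?_)
      ((Finset.card_image_of_injective _ hinj).trans (by decide)) ?_ ?_ ?_ ?_ b ?_
    · revert hi
      revert i
      decide
    · rw [Finset.card_image_of_injective _ hinj, Finset.card_image_of_injective _ hinj]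
      exact (Finset.card_le_univ I).trans (by decide)
    · rw [hsum, show ∑ i ∈ ({0, 1, 2, 3} : Finset (Fin 9)), nine i = 0 from
        funext fun c => (Finset.sum_apply c _ _).trans (quad_sum c), map_zero]
    · intro R' hR' h4 hs
      obtain ⟨J, hJ, rfl⟩ := Finset.subset_image_iff.1 hR'
      rw [hsum, map_eq_zero_iff _ φ.symm.injective] at hs
      rw [Finset.card_image_of_injective _ hinj] at h4
      rw [quad_unique J (Finset.mem_powersetCard.2 ⟨Finset.subset_univ _, h4⟩) fun c =>
        (Finset.sum_apply c _ _).symm.trans (congrFun hs c)]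
    · refine Finset.mem_image.2 ⟨0, h0 0 (by decide), ?_⟩
      show φ.symm (nine 0) = 0
      rw [show nine 0 = 0 from funext fun c => by fin_cases c <;> rfl, map_zero]
    · intro i
      obtain ⟨j, hj, hj'⟩ := nine_single i
      refine Finset.mem_image.2 ⟨j, h0 j hj, φ.injective ?_⟩
      show φ (φ.symm (nine j)) = φ (b i)
      rw [LinearEquiv.apply_symm_apply]
      funext c
      rw [hj' c]
      simp [φ, Finsupp.single_apply, eq_comm]
  obtain ⟨A0, hA0, hd0⟩ := D.exists_span_set hsol hk (n := 7) le_rfl le_rfl (by omega)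
  obtain ⟨A1, hA1, hd1⟩ := hmake (Finset.univ.erase 8) (Finset.Subset.refl _)
  obtain ⟨A2, hA2, hd2⟩ := hmake Finset.univ (Finset.subset_univ _)
  have ht : Fintype.card (G ⧸ U) = 64 := by rw [← Nat.card_eq_fintype_card]; exact h64
  refine good_of_sets ![A0, A1, A2, A0ᶜ, A1ᶜ] (fun i => ?_) ?_
  · fin_cases i
    · exact hd0
    · exact hd1
    · exact hd2
    · exact col2_compl hd0
    · exact col2_compl hd1
  · have e1 : ((Finset.univ : Finset (Fin 9)).erase 8).card = 8 := by decide
    have e2 : (Finset.univ : Finset (Fin 9)).card = 9 := by decide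
    intro i j h
    fin_cases i <;> fin_cases j <;> simp [Finset.card_compl, ht, hA0, hA1, hA2, e1, e2] at h <;> rfl

/-- Two colours, the primitive case. -/
theorem Aff.colour2 (h8 : 8 ≤ U.index) : GoodCol G (G ⧸ U) 2 3 := by
  classical
  haveI : Module.Finite (ZMod p) D.W := Module.Finite.of_finite
  haveI := Fintype.ofFinite (G ⧸ U)
  have hidx : Nat.card (G ⧸ U) = U.index := rfl
  have ht : Fintype.card (G ⧸ U) = U.index := by rw [← Nat.card_eq_fintype_card]; rfl
  have hcard := D.card
  obtain ⟨k, hk⟩ : ∃ k, Module.finrank (ZMod p) D.W = k := ⟨_, rfl⟩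
  rw [hk] at hcard
  have hp := (Fact.out : p.Prime)
  have hall : ∀ c, c ≤ 2 → LinDL.{u} p k c → GoodCol G (G ⧸ U) 2 3 := fun c hc h =>
    good_two_all (by omega) fun f => col_of_dl ((D.dl_of hsol (hk ▸ h)).mono (by omega))
  have hcount : 128 ≤ U.index → GoodCol G (G ⧸ U) 2 3 := fun h => by
    obtain ⟨f, hf, hi⟩ := D.good_count hsol le_rfl h
    exact ⟨f, fun i => (hf i).mono (by norm_num), hi⟩
  have hk0 : k ≠ 0 := fun h => by rw [h, pow_zero] at hcard; omega
  rcases (show k = 1 ∨ k = 2 ∨ k = 3 ∨ k = 4 ∨ k = 5 ∨ 6 ≤ k by omega) with rfl | rfl | rfl | rfl | rfl | hk6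
  · exact hall 1 (by norm_num) (lin_one p)
  · obtain ⟨A3, h3, d3⟩ := D.exists_span_set hsol hk (n := 3) le_rfl (by norm_num) (by omega)
    obtain ⟨A4, h4, d4⟩ := D.exists_span_set hsol hk (n := 4) (by norm_num) (by norm_num) (by omega)
    obtain ⟨A5, h5, d5⟩ := D.exists_span_set hsol hk (n := 5) (by norm_num) (by norm_num) (by omega)
    obtain ⟨A6, h6, d6⟩ := D.exists_span_set hsol hk (n := 6) (by norm_num) (by norm_num) (by omega)
    obtain ⟨A7, h7, d7⟩ := D.exists_span_set hsol hk (n := 7) (by norm_num) (by norm_num) (by omega)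
    refine good_of_sets ![A3, A4, A5, A6, A7] (fun i => ?_) fun i j h => ?_
    · fin_cases i
      exacts [d3, d4, d5, d6, d7]
    · fin_cases i <;> fin_cases j <;> simp [h3, h4, h5, h6, h7] at h <;> rfl
  · by_cases hp2 : p = 2
    · subst hp2
      exact hall 2 le_rfl lin2_3
    have : 27 ≤ U.index := hcard ▸ Nat.pow_le_pow_left (by have := hp.two_le; omega : 3 ≤ p) 3
    obtain ⟨A4, h4, d4⟩ := D.exists_span_set hsol hk (n := 4) le_rfl (by norm_num) (by omega)
    obtain ⟨A5, h5, d5⟩ := D.exists_span_set hsol hk (n := 5) (by norm_num) (by norm_num) (by omega)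
    obtain ⟨A6, h6, d6⟩ := D.exists_span_set hsol hk (n := 6) (by norm_num) (by norm_num) (by omega)
    obtain ⟨A7, h7, d7⟩ := D.exists_span_set hsol hk (n := 7) (by norm_num) (by norm_num) (by omega)
    refine good_of_sets ![A4, A5, A6, A7, A4ᶜ] (fun i => ?_) fun i j h => ?_
    · fin_cases i
      exacts [d4, d5, d6, d7, col2_compl d4]
    · fin_cases i <;> fin_cases j <;> simp [Finset.card_compl, ht, h4, h5, h6, h7] at h <;> first | rfl | omega
  · have : 16 ≤ U.index := hcard ▸ Nat.pow_le_pow_left hp.two_le 4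
    obtain ⟨A5, h5, d5⟩ := D.exists_span_set hsol hk (n := 5) le_rfl (by norm_num) (by omega)
    obtain ⟨A6, h6, d6⟩ := D.exists_span_set hsol hk (n := 6) (by norm_num) (by norm_num) (by omega)
    obtain ⟨A7, h7, d7⟩ := D.exists_span_set hsol hk (n := 7) (by norm_num) (by norm_num) (by omega)
    refine good_of_sets ![A5, A6, A7, A5ᶜ, A6ᶜ] (fun i => ?_) fun i j h => ?_
    · fin_cases i
      exacts [d5, d6, d7, col2_compl d5, col2_compl d6]
    · fin_cases i <;> fin_cases j <;> simp [Finset.card_compl, ht, h5, h6, h7] at h <;> first | rfl | omega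
  · by_cases hp2 : p = 2
    · subst hp2
      exact hall 2 le_rfl lin2_5
    have : 3 ^ 5 ≤ U.index := hcard ▸ Nat.pow_le_pow_left (by have := hp.two_le; omega : 3 ≤ p) 5
    exact hcount (by omega)
  · by_cases h128 : 128 ≤ U.index
    · exact hcount h128
    have hk7 : k = 6 := by
      by_contra h
      have : 2 ^ 7 ≤ U.index :=
        hcard ▸ (Nat.pow_le_pow_right (by norm_num) (show 7 ≤ k by omega)).trans (Nat.pow_le_pow_left hp.two_le k)
      omega
    subst hk7
    refine D.colour2_six hsol ?_ hk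
    by_contra h
    have : 3 ^ 6 ≤ U.index := hcard ▸ Nat.pow_le_pow_left (by have := hp.two_le; omega : 3 ≤ p) 6
    omega

end Prim

section Main

variable {G : Type u} [Group G] [Finite G]

/-- Passing to the faithful primitive group. -/
theorem good_of_coatom (hsol : Group.IsSolvable G) {U : Subgroup G} (hU : IsCoatom U) {c b : ℕ}
    (h : ∀ (Q : Type u) [Group Q] [Finite Q] (V : Subgroup Q) (p : ℕ) [Fact p.Prime], Aff V p →
      Group.IsSolvable Q → V.index = U.index → GoodCol Q (Q ⧸ V) c b) : GoodCol G (G ⧸ U) c b := by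
  haveI := hsol
  set π := QuotientGroup.mk' U.normalCore with hπdef
  have hπ : Function.Surjective π := QuotientGroup.mk'_surjective _
  have hker : π.ker ≤ U := by rw [QuotientGroup.ker_mk']; exact U.normalCore_le
  have hidx : (U.map π).index = U.index := Subgroup.index_map_eq _ hπ hker
  have hco : IsCoatom (U.map π) := by
    refine ⟨fun h => hU.1 ?_, fun K hK => ?_⟩
    · rw [← Subgroup.comap_map_eq_self hker, h, Subgroup.comap_top]
    · have h1 : U < K.comap π :=
        (Subgroup.comap_map_eq_self hker).symm.trans_lt ((Subgroup.comap_lt_comap_of_surjective hπ).2 hK)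
      rw [← Subgroup.map_comap_eq_self_of_surjective hπ K, hU.2 _ h1, Subgroup.map_top_of_surjective _ hπ]
  have hcf : (U.map π).normalCore = ⊥ := by
    rw [eq_bot_iff]
    intro x hx
    obtain ⟨g, rfl⟩ := hπ x
    have hle : (U.map π).normalCore.comap π ≤ U.normalCore :=
      Subgroup.normal_le_normalCore.2 ((Subgroup.comap_mono (U.map π).normalCore_le).trans
        (Subgroup.comap_map_eq_self hker).le)
    exact (QuotientGroup.eq_one_iff g).2 (hle hx)
  obtain ⟨p, hp, ⟨D⟩⟩ := exists_aff (inferInstance : Group.IsSolvable (G ⧸ U.normalCore)) hco hcf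
  have hG := h _ (U.map π) p D inferInstance hidx
  let ψ : G ⧸ U → (G ⧸ U.normalCore) ⧸ U.map π := Quotient.map' π fun a c hac => by
    rw [QuotientGroup.leftRel_apply] at hac ⊢
    exact ⟨_, hac, by rw [map_mul, map_inv]⟩
  have hψ : Function.Bijective ψ := by
    refine ⟨fun x y e => ?_, fun y => ?_⟩
    · obtain ⟨a, rfl⟩ := QuotientGroup.mk_surjective x
      obtain ⟨c, rfl⟩ := QuotientGroup.mk_surjective y
      have e' : (π a)⁻¹ * π c ∈ U.map π := QuotientGroup.eq.1 e
      rw [← map_inv, ← map_mul] at e'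
      exact QuotientGroup.eq.2 ((Subgroup.comap_map_eq_self hker).le e')
    · obtain ⟨q, rfl⟩ := QuotientGroup.mk_surjective y
      obtain ⟨a, rfl⟩ := hπ q
      exact ⟨(a : G ⧸ U), rfl⟩
  refine hG.transport π (Equiv.ofBijective ψ hψ) fun g ω => ?_
  obtain ⟨a, rfl⟩ := QuotientGroup.mk_surjective ω
  show ((π (g * a) : G ⧸ U.normalCore) : (G ⧸ U.normalCore) ⧸ U.map π) = _
  rw [map_mul]
  rfl

theorem exists_between {U : Subgroup G} (hU : U ≠ ⊤) (hmax : ¬ IsCoatom U) :
    ∃ K, U < K ∧ K ≠ ⊤ ∧ U.relIndex K < U.index ∧ K.index < U.index ∧ 2 ≤ U.relIndex K ∧ 2 ≤ K.index := by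
  obtain ⟨K, hUK, hK⟩ : ∃ K, U < K ∧ K ≠ ⊤ := by
    unfold IsCoatom at hmax
    push Not at hmax
    exact hmax hU
  have hidx := Subgroup.relIndex_mul_index hUK.le
  have h1 : 1 < K.index := Nat.one_lt_iff_ne_zero_and_ne_one.2
    ⟨Subgroup.index_ne_zero_of_finite, fun h => hK (Subgroup.index_eq_one.1 h)⟩
  have h2 : 1 < U.relIndex K := Nat.one_lt_iff_ne_zero_and_ne_one.2
    ⟨Subgroup.index_ne_zero_of_finite, fun h => hUK.not_ge (Subgroup.relIndex_eq_one.1 h)⟩
  exact ⟨K, hUK, hK, hidx ▸ lt_mul_of_one_lt_right (by omega) h1, hidx ▸ lt_mul_of_one_lt_left (by omega) h2, h2, h1⟩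

/-- Five colourings in three colours with abelian stabilisers. -/
theorem colour3 : ∀ (n : ℕ) (G : Type u) [Group G] [Finite G], Group.IsSolvable G →
    ∀ U : Subgroup G, U ≠ ⊤ → U.index = n → GoodCol G (G ⧸ U) 3 1 := by
  intro n
  induction n using Nat.strong_induction_on with
  | _ n ih =>
  intro G _ _ hsol U hU hn
  have h2 : 2 ≤ U.index := by
    have h0 : U.index ≠ 0 := Subgroup.index_ne_zero_of_finite
    have h1 : U.index ≠ 1 := fun h => hU (Subgroup.index_eq_one.1 h)
    omega
  by_cases h4 : U.index ≤ 4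
  · exact good_three_small hsol h2 h4
  by_cases hmax : IsCoatom U
  · exact good_of_coatom hsol hmax fun Q _ _ V p _ D hQ hV => D.colour3 hQ (by omega)
  obtain ⟨K, hUK, hK, hs, -, hs2, -⟩ := exists_between hU hmax
  haveI := hsol
  obtain ⟨F, hF, hFi⟩ := five_rigid hsol hK
  obtain ⟨q, hq, hqi⟩ := ih (U.relIndex K) (hn ▸ hs) K inferInstance (U.subgroupOf K)
    (fun h => hUK.not_ge (Subgroup.subgroupOf_eq_top.1 h)) rfl
  exact col_compose hUK.le F hF hFi q hq hqi

/-- Five colourings in two colours with stabilisers of derived length three. -/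
theorem colour2 : ∀ (n : ℕ) (G : Type u) [Group G] [Finite G], Group.IsSolvable G →
    ∀ U : Subgroup G, 4 ≤ U.index → U.index = n → GoodCol G (G ⧸ U) 2 3 := by
  intro n
  induction n using Nat.strong_induction_on with
  | _ n ih =>
  intro G _ _ hsol U h4 hn
  classical
  haveI := hsol
  by_cases h7 : U.index ≤ 7
  · exact good_two_all h4 fun f => col_small hsol f (m := 7) (fun k a c => perm_le_seven a c) fun a =>
      (Set.ncard_le_card _).trans h7
  have hU : U ≠ ⊤ := fun h => by rw [h, Subgroup.index_top] at h4; omega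
  by_cases hmax : IsCoatom U
  · exact good_of_coatom hsol hmax fun Q _ _ V p _ D hQ hV => D.colour2 hQ (by omega)
  obtain ⟨K, hUK, hK, hs, -, hs2, -⟩ := exists_between hU hmax
  by_cases hs4 : 4 ≤ U.relIndex K
  · obtain ⟨F, hF, hFi⟩ := five_rigid hsol hK
    obtain ⟨q, hq, hqi⟩ := ih (U.relIndex K) (hn ▸ hs) K inferInstance (U.subgroupOf K) hs4 rfl
    exact col_compose hUK.le F hF hFi q hq hqi
  obtain ⟨F, hF, hFi⟩ := colour3 _ G hsol K hK rfl
  have hcard : Nat.card (K ⧸ U.subgroupOf K) = U.relIndex K := rfl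
  haveI := Fintype.ofFinite (K ⧸ U.subgroupOf K)
  obtain ⟨x⟩ : Nonempty (K ⧸ U.subgroupOf K) := inferInstance
  let q : Fin 3 → K ⧸ U.subgroupOf K → Fin 2 := ![col2 ∅, col2 {x}, col2 Finset.univ]
  have hq : ∀ a, ColDL K (q a) 2 := fun a => col_small inferInstance _ (m := 3) (fun k h h' => perm_le_three h h')
    fun c => (Set.ncard_le_card _).trans (by omega)
  have hsz : ∀ a, sizes (q a) 0 = (![0, 1, U.relIndex K] : Fin 3 → ℕ) a := fun a => by
    have hu : (Finset.univ : Finset (K ⧸ U.subgroupOf K)).card = U.relIndex K := by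
      rw [Finset.card_univ, ← Nat.card_eq_fintype_card, hcard]
    fin_cases a <;> simp [q, sizes_col2, hu, -Finset.card_univ]
  have hqi : ColInequiv K q := colInequiv_of_sizes fun i j h => by
    have h' : (![0, 1, U.relIndex K] : Fin 3 → ℕ) i = (![0, 1, U.relIndex K] : Fin 3 → ℕ) j :=
      (hsz i).symm.trans ((congrFun h 0).trans (hsz j))
    fin_cases i <;> fin_cases j <;> first | rfl | (exfalso; simp at h'; omega) |
      (exfalso; simp [-Subgroup.relIndex_eq_one, -eq_comm] at h' <;> omega)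
  exact col_compose hUK.le F hF hFi q hq hqi

end Main

end Cfsg.Agent.StabDL
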