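/-
Vector stabilisers in soluble linear groups, 5: stabilisers and inequivalent vectors.
-/
import Cfsg.Agent.Lib.StabDL.Basic
import Cfsg.Agent.Lib.PrimSol.Fixed

set_option autoImplicit false
set_option linter.style.haveILetI false
set_option linter.unusedSectionVars false

namespace Cfsg.Agent.StabDL

open Cfsg.Agent.PrimSol

universe u v w

variable {F : Type w} [Field F] {V : Type v} [AddCommGroup V] [Module F V]
  {G : Type u} [Group G] (ρ : G →* Module.End F V)

/-- The stabiliser of a vector. -/
def stab (v : V) : Subgroup G where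
  carrier := {g | ρ g v = v}
  one_mem' := by simp
  mul_mem' {g h} hg hh := by
    show ρ (g * h) v = v
    rw [map_mul, Module.End.mul_apply, show ρ h v = v from hh, show ρ g v = v from hg]
  inv_mem' {g} hg := by
    show ρ g⁻¹ v = v
    conv_lhs => rw [← show ρ g v = v from hg]
    rw [inv_apply_cancel]

theorem mem_stab {v : V} {g : G} : g ∈ stab ρ v ↔ ρ g v = v := Iff.rfl

/-- No two of the vectors lie in one orbit. -/
def Inequiv {ι : Type*} (f : ι → V) : Prop := ∀ i j g, ρ g (f i) = f j → i = j

/-- Five orbits with stabilisers of derived length at most nine. -/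
def StA : Prop := ∃ f : Fin 5 → V, (∀ i, DL (stab ρ (f i)) 9) ∧ Inequiv ρ f

/-- Derived length at most eight and three orbits. -/
def StB : Prop := DL G 8 ∧ ∃ f : Fin 3 → V, Inequiv ρ f

/-- The three possibilities. -/
def Tri : Prop := StA ρ ∨ StB ρ ∨ DL G 6

theorem Inequiv.symm_apply {v w : V} {g : G} (h : ρ g v = w) : ρ g⁻¹ w = v := by
  rw [← h, inv_apply_cancel]

/-- A large set meets many orbits. -/
theorem exists_inequiv [Finite G] [Finite V] (S : Set V) :
    ∀ k : ℕ, k * Nat.card G < S.ncard + Nat.card G → ∃ f : Fin k → V, (∀ i, f i ∈ S) ∧ Inequiv ρ f := by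
  intro k
  induction k with
  | zero => exact fun _ => ⟨Fin.elim0, fun i => i.elim0, fun i => i.elim0⟩
  | succ k ih =>
    intro h
    rw [Nat.succ_mul] at h
    obtain ⟨f, hf, hi⟩ := ih (by omega)
    let O : Set V := Set.range fun x : Fin k × G => ρ x.2 (f x.1)
    have hO : O.ncard ≤ k * Nat.card G := by
      rw [← Nat.card_coe_set_eq]
      refine (Finite.card_range_le _).trans ?_
      rw [Nat.card_prod, Nat.card_fin]
    obtain ⟨v, hvS, hvO⟩ := Set.exists_mem_notMem_of_ncard_lt_ncard (show O.ncard < S.ncard by omega) (Set.toFinite _)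
    refine ⟨Fin.snoc f v, fun i => ?_, fun i j g hg => ?_⟩
    · induction i using Fin.lastCases with
      | last => rw [Fin.snoc_last]; exact hvS
      | cast i => rw [Fin.snoc_castSucc]; exact hf i
    · induction i using Fin.lastCases with
      | last =>
        induction j using Fin.lastCases with
        | last => rfl
        | cast j =>
          rw [Fin.snoc_last, Fin.snoc_castSucc] at hg
          exact absurd ⟨(j, g⁻¹), Inequiv.symm_apply ρ hg⟩ hvO
      | cast i =>
        induction j using Fin.lastCases with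
        | last =>
          rw [Fin.snoc_last, Fin.snoc_castSucc] at hg
          exact absurd ⟨(i, g), hg⟩ hvO
        | cast j =>
          rw [Fin.snoc_castSucc, Fin.snoc_castSucc] at hg
          rw [hi i j g hg]

/-- Three orbits or transitivity. -/
theorem three_or_trans :
    (∃ f : Fin 3 → V, Inequiv ρ f) ∨ ∀ v w : V, v ≠ 0 → w ≠ 0 → ∃ g, ρ g v = w := by
  by_cases h : ∀ v w : V, v ≠ 0 → w ≠ 0 → ∃ g, ρ g v = w
  · exact Or.inr h
  · push Not at h
    obtain ⟨v, w, hv, hw, hne⟩ := h
    refine Or.inl ⟨![0, v, w], fun i j g hg => ?_⟩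
    have hne' : ∀ g, ρ g w ≠ v := fun g e => hne g⁻¹ (Inequiv.symm_apply ρ e)
    have h0 : ∀ x : V, x ≠ 0 → ρ g x ≠ 0 := fun x hx e => hx (apply_injective ρ g (e.trans (map_zero _).symm))
    fin_cases i <;> fin_cases j <;> first
      | rfl
      | exact absurd ((map_zero (ρ g)).symm.trans hg) hv.symm
      | exact absurd ((map_zero (ρ g)).symm.trans hg) hw.symm
      | exact absurd hg (h0 v hv)
      | exact absurd hg (h0 w hw)
      | exact absurd hg (hne g)
      | exact absurd hg (hne' g)

/-- The nonzero vectors of a transitive group divide its order. -/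
theorem sub_one_dvd_card [Finite G] [Finite V] [Nontrivial V]
    (h : ∀ v w : V, v ≠ 0 → w ≠ 0 → ∃ g, ρ g v = w) : Nat.card V - 1 ∣ Nat.card G := by
  classical
  obtain ⟨v, hv⟩ := exists_ne (0 : V)
  letI : MulAction G V :=
    { smul := fun g x => ρ g x
      one_smul := fun x => by show ρ 1 x = x; rw [map_one, Module.End.one_apply]
      mul_smul := fun g k x => by show ρ (g * k) x = ρ g (ρ k x); rw [map_mul, Module.End.mul_apply] }
  have ho : MulAction.orbit G v = {0}ᶜ := by
    ext w
    rw [Set.mem_compl_singleton_iff]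
    refine ⟨?_, fun hw => ?_⟩
    · rintro ⟨g, rfl⟩ e
      exact hv (apply_injective ρ g ((show ρ g v = 0 from e).trans (map_zero _).symm))
    · obtain ⟨g, hg⟩ := h v w hv hw
      exact ⟨g, hg⟩
  have h1 := Subgroup.index_dvd_card (MulAction.stabilizer G v)
  rw [MulAction.index_stabilizer, ho, Set.ncard_compl] at h1
  simpa using h1

end Cfsg.Agent.StabDL
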