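/-
Vector stabilisers in soluble linear groups, 6: primitive groups.
-/
import Cfsg.Agent.Lib.StabDL.Tables
import Cfsg.Agent.Lib.StabDL.Stab

set_option autoImplicit false
set_option linter.style.haveILetI false
set_option linter.unusedSectionVars false
set_option maxHeartbeats 1000000

namespace Cfsg.Agent.StabDL

open Cfsg.Agent.PrimSol Cfsg.Agent.SolClasses Cfsg.Agent.SolBase
open scoped commutatorElement

universe u v

/-- The order in terms of the layer. -/
theorem card_eq {G : Type u} [Group G] [Finite G] {q r : ℕ} (P : PrimData G q r) :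
    Nat.card G = P.S.Y1.index * (Nat.card P.A * Nat.card P.M * Nat.card P.S.img) := by
  rw [← P.S.Y1.index_mul_card]
  congr 1
  let f : P.S.Y1 →* MulAut P.M := P.S.act.comp P.S.Y1.subtype
  have hk : f.ker = P.E.subgroupOf P.S.Y1 := by
    ext x
    rw [Subgroup.mem_subgroupOf, ← P.act_ker]
    exact ⟨fun h => ⟨h, x.2⟩, fun h => h.1⟩
  have hr : f.range = P.S.img := by rw [MonoidHom.range_comp, Subgroup.range_subtype]; rfl
  rw [← f.ker.index_mul_card, Subgroup.index_ker, hr, hk,
    Nat.card_congr (Subgroup.subgroupOfEquivOfLe P.E_le_cent).toEquiv, mul_comm (Nat.card P.S.img)]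
  congr 1
  rw [P.card_M, Subgroup.relIndex, mul_comm,
    ← Nat.card_congr (Subgroup.subgroupOfEquivOfLe P.A_le).toEquiv, Subgroup.index_mul_card]

/-- A large prime does not divide the order. -/
theorem not_dvd_card {G : Type u} [Group G] [Finite G] {q r : ℕ} (P : PrimData G q r) {s k l : ℕ}
    (hs : s.Prime) (hM : Nat.card P.M = s ^ k) (hl : l.Prime) (hla : P.a < l) (hq : ¬ l ∣ q ^ P.a - 1)
    (hls : l ≠ s) (hGL : ¬ l ∣ ∏ i : Fin k, (s ^ k - s ^ (i : ℕ))) : ¬ l ∣ Nat.card G := by
  haveI := Fact.mk hs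
  rw [card_eq P, hl.dvd_mul, hl.dvd_mul, hl.dvd_mul]
  rintro (h | (h | h) | h)
  · exact (Nat.le_of_dvd (Nat.pos_of_ne_zero Subgroup.index_ne_zero_of_finite) h).not_gt (P.Y1_index.trans_lt hla)
  · exact hq (h.trans P.card_A_dvd)
  · rw [hM] at h
    exact hls ((Nat.prime_dvd_prime_iff_eq hl hs).1 (hl.dvd_of_dvd_pow h))
  · have hexp : ∀ x : P.M, x ^ s = 1 := fun x => by
      obtain ⟨n, hn, hx⟩ := P.M_sqfree x
      obtain ⟨j, -, hj⟩ := (Nat.dvd_prime_pow hs).1 (hM ▸ orderOf_dvd_natCard x)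
      have h2 : Squarefree (orderOf x) := hn.squarefree_of_dvd (orderOf_dvd_of_pow_eq_one hx)
      rw [hj] at h2
      rcases (show j ≤ 1 ∨ 2 ≤ j by omega) with h1 | h1
      · exact orderOf_dvd_iff_pow_eq_one.1 (hj ▸ (pow_dvd_pow s h1).trans (pow_one s).dvd)
      · exact absurd (h2 s ((pow_two s) ▸ pow_dvd_pow s h1)) (by rw [Nat.isUnit_iff]; exact hs.ne_one)
    haveI : Module (ZMod s) (Additive P.M) := AddCommGroup.zmodModule fun x => hexp (Additive.toMul x)
    haveI : Module.Finite (ZMod s) (Additive P.M) := Module.Finite.of_finite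
    haveI : Finite (Module.End (ZMod s) (Additive P.M)) := Finite.of_injective _ DFunLike.coe_injective
    have hd : Nat.card P.S.img ∣ Nat.card (Module.End (ZMod s) (Additive P.M))ˣ :=
      Subgroup.card_dvd_of_injective ((linHom s).comp P.S.img.subtype).toHomUnits fun a b e =>
        Subtype.ext (linHom_injective s (congrArg Units.val e))
    rw [card_units_eq (finrank_additive (k := k) hM), Nat.card_zmod] at hd
    exact hGL (h.trans hd)

theorem two_mul_pow_eight {e : ℕ} (he : 27 ≤ e) : 2 * e ^ 8 ≤ 3 ^ (e - 2) := by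
  induction e, he using Nat.le_induction with
  | base => norm_num
  | succ e he ih =>
    have h1 : (27 * (e + 1)) ^ 8 ≤ (28 * e) ^ 8 := Nat.pow_le_pow_left (by omega) 8
    rw [mul_pow, mul_pow] at h1
    have h2 : (e + 1) ^ 8 * 27 ^ 8 ≤ 3 * e ^ 8 * 27 ^ 8 := by
      calc (e + 1) ^ 8 * 27 ^ 8 ≤ 28 ^ 8 * e ^ 8 := by rw [mul_comm]; exact h1
        _ ≤ (3 * 27 ^ 8) * e ^ 8 := Nat.mul_le_mul_right _ (by norm_num)
        _ = _ := by ring
    have h3 := Nat.le_of_mul_le_mul_right h2 (by norm_num)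
    calc 2 * (e + 1) ^ 8 ≤ 2 * (3 * e ^ 8) := Nat.mul_le_mul_left _ h3
      _ = 3 * (2 * e ^ 8) := by ring
      _ ≤ 3 * 3 ^ (e - 2) := Nat.mul_le_mul_left _ ih
      _ = 3 ^ (e + 1 - 2) := by rw [← pow_succ', show e - 2 + 1 = e + 1 - 2 by omega]

theorem pow_thirtytwo {e : ℕ} (he : 162 ≤ e) : 81 * e ^ 32 ≤ 3 ^ (e - 8) := by
  induction e, he using Nat.le_induction with
  | base => norm_num
  | succ e he ih =>
    have h1 : (162 * (e + 1)) ^ 32 ≤ (163 * e) ^ 32 := Nat.pow_le_pow_left (by omega) 32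
    rw [mul_pow, mul_pow] at h1
    have h2 : (e + 1) ^ 32 * 162 ^ 32 ≤ 3 * e ^ 32 * 162 ^ 32 := by
      calc (e + 1) ^ 32 * 162 ^ 32 ≤ 163 ^ 32 * e ^ 32 := by rw [mul_comm]; exact h1
        _ ≤ (3 * 162 ^ 32) * e ^ 32 := Nat.mul_le_mul_right _ (by norm_num)
        _ = _ := by ring
    have h3 := Nat.le_of_mul_le_mul_right h2 (by norm_num)
    calc 81 * (e + 1) ^ 32 ≤ 81 * (3 * e ^ 32) := Nat.mul_le_mul_left _ h3
      _ = 3 * (81 * e ^ 32) := by ring
      _ ≤ 3 * 3 ^ (e - 8) := Nat.mul_le_mul_left _ ih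
      _ = 3 ^ (e + 1 - 8) := by rw [← pow_succ', show e - 8 + 1 = e + 1 - 8 by omega]

theorem tableJ_le : ∀ {e : ℕ}, 0 < e → SolKBound.tableJ e ≤ e ^ 6
  | 1, _ | 2, _ | 3, _ | 4, _ | 5, _ | 6, _ | 7, _ | 8, _ => by norm_num [SolKBound.tableJ]
  | e + 9, _ => le_of_eq (by unfold SolKBound.tableJ; split <;> omega)

theorem sq_mul_tableJ {e : ℕ} (he : 0 < e) : e * e * SolKBound.tableJ e ≤ e ^ 8 :=
  calc e * e * SolKBound.tableJ e ≤ e * e * e ^ 6 := Nat.mul_le_mul_left _ (tableJ_le he)
    _ = e ^ 8 := by ring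

theorem img_lt_27_five (e : ℕ) : e < 27 → ¬ 8 ∣ e → ImgDL.{u} e 5 := by
  induction e using Nat.strong_induction_on with
  | _ e ih =>
  intro h27 h8
  refine imgDL_of (fun e1 e2 h1 h2 h => ?_) fun r m hr hm h => ?_
  · have : e1 < e := h ▸ lt_mul_right (by omega) (by omega)
    exact ih e1 this (by omega) fun hd => h8 (h ▸ hd.mul_right e2)
  · have hm2 : m ≤ 2 := by
      by_contra hc
      rcases hr.eq_two_or_odd with rfl | hodd
      · exact h8 (h ▸ pow_dvd_pow 2 (show 3 ≤ m by omega))
      · have : 3 ^ 3 ≤ r ^ m := (Nat.pow_le_pow_right (by norm_num) (show 3 ≤ m by omega)).trans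
          (Nat.pow_le_pow_left (by have := hr.two_le; omega) m)
        omega
    interval_cases m
    · exact (lin_two r).mono (by norm_num)
    · exact lin_four r

/-- The primes dividing `Q ^ d - 1` used for transitive groups. -/
theorem size_or_prime (Q e d : ℕ) (hQ2 : 2 ≤ Q) (hed : e ≤ d) (he : 8 ≤ e)
    (hl : ∀ l : ℕ, l.Prime → l ∣ e → l ∣ Q - 1) :
    e * e * SolKBound.tableJ e < 2 * Q ^ (d - 2) ∨ ∃ s k l : ℕ, s.Prime ∧ e * e = s ^ k ∧ l.Prime ∧ (Q < 16 ∧ 3 < l) ∧ l ≠ s ∧
      ¬ l ∣ Q - 1 ∧ l ∣ Q ^ d - 1 ∧ ¬ l ∣ ∏ i : Fin k, (s ^ k - s ^ (i : ℕ)) := by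
  have mk : ∀ {e0 : ℕ}, e0 ≤ d → e * e * SolKBound.tableJ e < 2 * Q ^ (e0 - 2) →
      e * e * SolKBound.tableJ e < 2 * Q ^ (d - 2) := fun h h' =>
    h'.trans_le (Nat.mul_le_mul_left 2 (Nat.pow_le_pow_right (by omega) (by omega)))
  have big : e ^ 8 < 2 * Q ^ (e - 2) → e * e * SolKBound.tableJ e < 2 * Q ^ (d - 2) := fun h =>
    mk hed ((sq_mul_tableJ (by omega)).trans_lt h)
  have low : ∀ B, B ≤ Q → e ^ 8 < 2 * B ^ (e - 2) → e ^ 8 < 2 * Q ^ (e - 2) := fun B hB h =>
    h.trans_le (Nat.mul_le_mul_left 2 (Nat.pow_le_pow_left hB _))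
  have p5 : Nat.Prime 5 := by norm_num
  rcases (show 27 ≤ e ∨ e ≤ 26 by omega) with h27 | h26
  · refine Or.inl (big ?_)
    have h3 : 3 ≤ Q := by
      obtain ⟨l, hl1, hl2⟩ := Nat.exists_prime_and_dvd (show e ≠ 1 by omega)
      have := Nat.le_of_dvd (by omega) (hl l hl1 hl2)
      have := hl1.two_le
      omega
    refine low 3 h3 ?_
    have := two_mul_pow_eight h27
    have : 0 < e ^ 8 := by positivity
    omega
  interval_cases e
  · -- 8
    have h2 := hl 2 Nat.prime_two (by norm_num)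
    rcases (show 7 ≤ Q ∨ Q = 3 ∨ Q = 5 by omega) with h | rfl | rfl
    · left
      refine mk hed ?_
      calc 8 * 8 * SolKBound.tableJ 8 < 2 * 7 ^ (8 - 2) := by norm_num [SolKBound.tableJ]
        _ ≤ _ := Nat.mul_le_mul_left 2 (Nat.pow_le_pow_left h _)
    · rcases (show 13 ≤ d ∨ d ≤ 12 by omega) with hd | hd
      · exact Or.inl (mk hd (by norm_num [SolKBound.tableJ]))
      · interval_cases d
        · exact Or.inr ⟨2, 6, 41, Nat.prime_two, by norm_num, by norm_num, by norm_num, by norm_num, by norm_num,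
            by norm_num, by norm_num [Fin.prod_univ_succ]⟩
        · exact Or.inr ⟨2, 6, 13, Nat.prime_two, by norm_num, by norm_num, by norm_num, by norm_num, by norm_num,
            by norm_num, by norm_num [Fin.prod_univ_succ]⟩
        · exact Or.inr ⟨2, 6, 11, Nat.prime_two, by norm_num, by norm_num, by norm_num, by norm_num, by norm_num,
            by norm_num, by norm_num [Fin.prod_univ_succ]⟩
        · exact Or.inr ⟨2, 6, 23, Nat.prime_two, by norm_num, by norm_num, by norm_num, by norm_num, by norm_num,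
            by norm_num, by norm_num [Fin.prod_univ_succ]⟩
        · exact Or.inr ⟨2, 6, 13, Nat.prime_two, by norm_num, by norm_num, by norm_num, by norm_num, by norm_num,
            by norm_num, by norm_num [Fin.prod_univ_succ]⟩
    · rcases (show 9 ≤ d ∨ d = 8 by omega) with hd | rfl
      · exact Or.inl (mk hd (by norm_num [SolKBound.tableJ]))
      · exact Or.inr ⟨2, 6, 13, Nat.prime_two, by norm_num, by norm_num, by norm_num, by norm_num, by norm_num,
            by norm_num, by norm_num [Fin.prod_univ_succ]⟩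
  · -- 9
    have h3 := hl 3 Nat.prime_three (by norm_num)
    rcases (show 13 ≤ Q ∨ Q = 4 ∨ Q = 7 ∨ Q = 10 by omega) with h | rfl | rfl | rfl
    · left
      refine mk hed ?_
      calc 9 * 9 * SolKBound.tableJ 9 ≤ 9 ^ 8 := sq_mul_tableJ (by norm_num)
        _ < 2 * 13 ^ (9 - 2) := by norm_num
        _ ≤ _ := Nat.mul_le_mul_left 2 (Nat.pow_le_pow_left h _)
    · rcases (show 15 ≤ d ∨ d ≤ 14 by omega) with hd | hd
      · exact Or.inl (mk hd ((sq_mul_tableJ (by norm_num)).trans_lt (by norm_num)))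
      · interval_cases d
        · exact Or.inr ⟨3, 4, 73, Nat.prime_three, by norm_num, by norm_num, by norm_num, by norm_num, by norm_num,
            by norm_num, by norm_num [Fin.prod_univ_succ]⟩
        · exact Or.inr ⟨3, 4, 11, Nat.prime_three, by norm_num, by norm_num, by norm_num, by norm_num, by norm_num,
            by norm_num, by norm_num [Fin.prod_univ_succ]⟩
        · exact Or.inr ⟨3, 4, 23, Nat.prime_three, by norm_num, by norm_num, by norm_num, by norm_num, by norm_num,
            by norm_num, by norm_num [Fin.prod_univ_succ]⟩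
        · exact Or.inr ⟨3, 4, 7, Nat.prime_three, by norm_num, by norm_num, by norm_num, by norm_num, by norm_num,
            by norm_num, by norm_num [Fin.prod_univ_succ]⟩
        · exact Or.inr ⟨3, 4, 2731, Nat.prime_three, by norm_num, by norm_num, by norm_num, by norm_num, by norm_num,
            by norm_num, by norm_num [Fin.prod_univ_succ]⟩
        · exact Or.inr ⟨3, 4, 127, Nat.prime_three, by norm_num, by norm_num, by norm_num, by norm_num, by norm_num,
            by norm_num, by norm_num [Fin.prod_univ_succ]⟩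
    · rcases (show 11 ≤ d ∨ d = 9 ∨ d = 10 by omega) with hd | rfl | rfl
      · exact Or.inl (mk hd ((sq_mul_tableJ (by norm_num)).trans_lt (by norm_num)))
      · exact Or.inr ⟨3, 4, 19, Nat.prime_three, by norm_num, by norm_num, by norm_num, by norm_num, by norm_num,
            by norm_num, by norm_num [Fin.prod_univ_succ]⟩
      · exact Or.inr ⟨3, 4, 11, Nat.prime_three, by norm_num, by norm_num, by norm_num, by norm_num, by norm_num,
            by norm_num, by norm_num [Fin.prod_univ_succ]⟩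
    · rcases (show 10 ≤ d ∨ d = 9 by omega) with hd | rfl
      · exact Or.inl (mk hd ((sq_mul_tableJ (by norm_num)).trans_lt (by norm_num)))
      · exact Or.inr ⟨3, 4, 37, Nat.prime_three, by norm_num, by norm_num, by norm_num, by norm_num, by norm_num,
            by norm_num, by norm_num [Fin.prod_univ_succ]⟩
  · have := hl 2 Nat.prime_two (by norm_num); have := hl 5 p5 (by norm_num)
    exact Or.inl (big (low 11 (by omega) (by norm_num)))
  · have := hl 11 (by norm_num) (by norm_num)
    exact Or.inl (big (low 12 (by omega) (by norm_num)))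
  · have := hl 2 Nat.prime_two (by norm_num); have := hl 3 Nat.prime_three (by norm_num)
    exact Or.inl (big (low 7 (by omega) (by norm_num)))
  · have := hl 13 (by norm_num) (by norm_num)
    exact Or.inl (big (low 14 (by omega) (by norm_num)))
  · have := hl 2 Nat.prime_two (by norm_num); have := hl 7 (by norm_num) (by norm_num)
    exact Or.inl (big (low 15 (by omega) (by norm_num)))
  · have := hl 3 Nat.prime_three (by norm_num); have := hl 5 p5 (by norm_num)
    exact Or.inl (big (low 16 (by omega) (by norm_num)))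
  · -- 16
    have := hl 2 Nat.prime_two (by norm_num)
    rcases (show 5 ≤ Q ∨ Q = 3 by omega) with h | rfl
    · exact Or.inl (big (low 5 h (by norm_num)))
    · rcases (show 22 ≤ d ∨ d ≤ 21 by omega) with hd | hd
      · exact Or.inl (mk hd ((sq_mul_tableJ (by norm_num)).trans_lt (by norm_num)))
      · interval_cases d
        · exact Or.inr ⟨2, 8, 193, Nat.prime_two, by norm_num, by norm_num, by norm_num, by norm_num, by norm_num,
            by norm_num, by norm_num [Fin.prod_univ_succ]⟩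
        · exact Or.inr ⟨2, 8, 1871, Nat.prime_two, by norm_num, by norm_num, by norm_num, by norm_num, by norm_num,
            by norm_num, by norm_num [Fin.prod_univ_succ]⟩
        · exact Or.inr ⟨2, 8, 13, Nat.prime_two, by norm_num, by norm_num, by norm_num, by norm_num, by norm_num,
            by norm_num, by norm_num [Fin.prod_univ_succ]⟩
        · exact Or.inr ⟨2, 8, 1597, Nat.prime_two, by norm_num, by norm_num, by norm_num, by norm_num, by norm_num,
            by norm_num, by norm_num [Fin.prod_univ_succ]⟩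
        · exact Or.inr ⟨2, 8, 11, Nat.prime_two, by norm_num, by norm_num, by norm_num, by norm_num, by norm_num,
            by norm_num, by norm_num [Fin.prod_univ_succ]⟩
        · exact Or.inr ⟨2, 8, 13, Nat.prime_two, by norm_num, by norm_num, by norm_num, by norm_num, by norm_num,
            by norm_num, by norm_num [Fin.prod_univ_succ]⟩
  · have := hl 17 (by norm_num) (by norm_num)
    exact Or.inl (big (low 18 (by omega) (by norm_num)))
  · have := hl 2 Nat.prime_two (by norm_num); have := hl 3 Nat.prime_three (by norm_num)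
    exact Or.inl (big (low 7 (by omega) (by norm_num)))
  · have := hl 19 (by norm_num) (by norm_num)
    exact Or.inl (big (low 20 (by omega) (by norm_num)))
  · have := hl 2 Nat.prime_two (by norm_num); have := hl 5 p5 (by norm_num)
    exact Or.inl (big (low 11 (by omega) (by norm_num)))
  · have := hl 7 (by norm_num) (by norm_num); have := hl 3 Nat.prime_three (by norm_num)
    exact Or.inl (big (low 22 (by omega) (by norm_num)))
  · have := hl 2 Nat.prime_two (by norm_num); have := hl 11 (by norm_num) (by norm_num)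
    exact Or.inl (big (low 23 (by omega) (by norm_num)))
  · have := hl 23 (by norm_num) (by norm_num)
    exact Or.inl (big (low 24 (by omega) (by norm_num)))
  · have := hl 2 Nat.prime_two (by norm_num); have := hl 3 Nat.prime_three (by norm_num)
    exact Or.inl (big (low 7 (by omega) (by norm_num)))
  · have := hl 5 p5 (by norm_num)
    exact Or.inl (big (low 6 (by omega) (by norm_num)))
  · have := hl 2 Nat.prime_two (by norm_num); have := hl 13 (by norm_num) (by norm_num)
    exact Or.inl (big (low 27 (by omega) (by norm_num)))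

section Main

variable {p : ℕ} [Fact p.Prime] {V : Type u} [AddCommGroup V] [Module (ZMod p) V] [Finite V] [Nontrivial V]
  {G : Type u} [Group G] [Finite G] {ρ : G →* Module.End (ZMod p) V}

/-- The stabiliser of a nonzero vector. -/
theorem stab_dl (hρ : Function.Injective ρ) (hirr : Irred ρ) (hprim : NoDecomp ρ) (hsol : Group.IsSolvable G)
    {q r : ℕ} (P : PrimData G q r) {e b : ℕ} (he : e * e = Nat.card P.M) (hb : DL P.S.img b) {v : V} (hv : v ≠ 0) :
    DL (stab ρ v) (b + 2) := by
  haveI := P.A_normal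
  haveI := P.Y1_normal
  set K := stab ρ v
  have hY1 : derivedSeries G 1 ≤ P.S.Y1 := commutator_le_of_comm _ fun x y => by
    have h := comm_mod_cent hρ hirr hprim (A := P.A) P.A_comm
    obtain ⟨g, rfl⟩ := QuotientGroup.mk_surjective x
    obtain ⟨k, rfl⟩ := QuotientGroup.mk_surjective y
    have h' := h g k
    rw [← QuotientGroup.mk_mul, ← QuotientGroup.mk_mul, QuotientGroup.eq] at h' ⊢
    rwa [P.cent_eq]
  let L := P.S.Y1.subgroupOf K
  let f : L →* P.S.img := (P.S.act.comp ((K.subtype).comp L.subtype)).codRestrict _ fun x => ⟨_, x.2, rfl⟩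
  have hker : DL f.ker 1 := dl_one fun x y => by
    refine Subtype.ext (Subtype.ext (Subtype.ext ?_))
    have hmem : ∀ z : f.ker, (((z : L) : K) : G) ∈ P.E := fun z => by
      rw [← P.act_ker]
      exact ⟨congrArg Subtype.val (MonoidHom.mem_ker.1 z.2), (z : L).2⟩
    set g := (((x : L) : K) : G)
    set k := (((y : L) : K) : G)
    have hA : ⁅g, k⁆ ∈ P.A := P.E_der g (hmem x) k (hmem y)
    have hfix : v ∈ fix ρ ⁅g, k⁆ := (mem_fix ρ).2 (by
      have h : ⁅g, k⁆ ∈ K := by
        rw [commutatorElement_def]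
        exact K.mul_mem (K.mul_mem (K.mul_mem ((x : L) : K).2 ((y : L) : K).2) (K.inv_mem ((x : L) : K).2))
          (K.inv_mem ((y : L) : K).2)
      exact h)
    by_contra hne
    rw [fix_abelian ρ hirr hprim ⟨⟨fun a b => Subtype.ext (P.A_comm a a.2 b b.2)⟩⟩ hρ hA
      (fun h => hne (commutatorElement_eq_one_iff_mul_comm.1 h)), Submodule.mem_bot] at hfix
    exact hv hfix
  have hL : DL L (b + 1) := DL.ext f hb hker
  have h := hL.ext_le L (a := 1) fun x hx => hY1 (map_derivedSeries_le_derivedSeries K.subtype 1 ⟨x, hx, rfl⟩)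
  exact h.mono (by omega)

/-- Five regular orbits. -/
theorem five_regular (hρ : Function.Injective ρ) (hirr : Irred ρ) (hprim : NoDecomp ρ) (hsol : Group.IsSolvable G)
    (h : (6 * Nat.card G) ^ 4 < Nat.card V) : StA ρ := by
  classical
  haveI := Fintype.ofFinite G
  set D := Module.finrank (ZMod p) V with hD
  have hp : 1 < p := (Fact.out : p.Prime).one_lt
  have hV : Nat.card V = p ^ D := by rw [Module.natCard_eq_pow_finrank (K := ZMod p), Nat.card_zmod]
  set X := p ^ (3 * D / 4) with hX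
  let U : Set V := {v | ∃ g : G, g ≠ 1 ∧ ρ g v = v}
  have hU : U.ncard ≤ Nat.card G * X := by
    let T := (g : {g : G // g ≠ 1}) × fix ρ (g : G)
    haveI : Finite T := inferInstance
    rw [← Nat.card_coe_set_eq]
    refine (Nat.card_le_card_of_surjective (fun x : T => (⟨(x.2 : V), (x.1 : G), x.1.2, (mem_fix ρ).1 x.2.2⟩ : U))
      fun ⟨v, g, hg, hgv⟩ => ⟨⟨⟨g, hg⟩, ⟨v, (mem_fix ρ).2 hgv⟩⟩, rfl⟩).trans ?_
    rw [Nat.card_sigma]
    refine (Finset.sum_le_card_nsmul _ _ X fun g _ => ?_).trans ?_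
    · rw [Module.natCard_eq_pow_finrank (K := ZMod p), Nat.card_zmod]
      have := four_mul_fix_le ρ hρ hirr hprim hsol g.2
      exact Nat.pow_le_pow_right (by omega) (by omega)
    · rw [smul_eq_mul, Finset.card_univ, ← Nat.card_eq_fintype_card]
      exact Nat.mul_le_mul_right _ (Nat.card_le_card_of_injective _ Subtype.val_injective)
  have hlt : 6 * Nat.card G * X < Nat.card V := by
    refine (Nat.pow_lt_pow_iff_left (n := 4) (by norm_num)).1 ?_
    calc (6 * Nat.card G * X) ^ 4 = (6 * Nat.card G) ^ 4 * X ^ 4 := by ring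
      _ < Nat.card V * X ^ 4 := Nat.mul_lt_mul_of_pos_right h (by positivity)
      _ ≤ p ^ D * p ^ (3 * D) := by
          rw [hV, hX, ← pow_mul]
          exact Nat.mul_le_mul_left _ (Nat.pow_le_pow_right (by omega) (by omega))
      _ = Nat.card V ^ 4 := by rw [hV, ← pow_add, ← pow_mul]; congr 1; ring
  have hG : Nat.card G ≤ Nat.card G * X := Nat.le_mul_of_pos_right _ (by positivity)
  have hc := Set.ncard_add_ncard_compl U
  have h6 : 6 * Nat.card G * X = 6 * (Nat.card G * X) := by ring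
  obtain ⟨f, hf, hi⟩ := exists_inequiv ρ Uᶜ 5 (by omega)
  refine ⟨f, fun i => ?_, hi⟩
  haveI : Subsingleton (stab ρ (f i)) := ⟨fun a b => by
    have h1 : ∀ c : stab ρ (f i), (c : G) = 1 := fun c => by
      by_contra hne
      exact hf i ⟨c, hne, c.2⟩
    exact Subtype.ext ((h1 a).trans (h1 b).symm)⟩
  exact dl_zero

/-- Five orbits by size. -/
theorem five_size (hst : ∀ v : V, v ≠ 0 → DL (stab ρ v) 9) (h : 4 * Nat.card G < Nat.card V - 1) : StA ρ := by
  have hc : ({0}ᶜ : Set V).ncard = Nat.card V - 1 := by rw [Set.ncard_compl, Set.ncard_singleton]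
  obtain ⟨f, hf, hi⟩ := exists_inequiv ρ ({0}ᶜ : Set V) 5 (by omega)
  exact ⟨f, fun i => hst _ (hf i), hi⟩

/-- The trichotomy for primitive groups. -/
theorem tri_primitive (hρ : Function.Injective ρ) (hirr : Irred ρ) (hprim : NoDecomp ρ)
    (hsol : Group.IsSolvable G) : Tri ρ := by
  obtain ⟨P, -, -, -⟩ := exists_primData_ext ρ hρ hirr hprim hsol
  obtain ⟨e, he, he0⟩ := SolKBound.card_M_eq_square P.S hsol P.M_sqfree
  have hed : e ≤ P.d := Nat.mul_self_le_mul_self_iff.1 (he ▸ P.M_le)
  have hpd := prim_dl_data hρ hirr hprim hsol P he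
  have hp : p.Prime := Fact.out
  set Q := p ^ P.a with hQdef
  have hQ2 : 2 ≤ Q := hp.two_le.trans (Nat.le_self_pow P.a_pos.ne' p)
  have h2a : 2 * P.a ≤ Q := by
    refine le_trans ?_ (Nat.pow_le_pow_left hp.two_le P.a)
    obtain ⟨i, hi⟩ : ∃ i, P.a = i + 1 := ⟨P.a - 1, by have := P.a_pos; omega⟩
    have := Nat.lt_two_pow_self (n := i)
    rw [hi, pow_succ]; omega
  have hV : Nat.card V = Q ^ P.d := by
    rw [hQdef, ← pow_mul, P.dim]
    exact Module.natCard_eq_pow_finrank.trans (congrArg (· ^ _) (Nat.card_zmod p))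
  have hqc : Nat.card (ZMod p) ^ P.a - 1 = Q - 1 := congrArg (fun z => z ^ P.a - 1) (Nat.card_zmod p)
  have hl : ∀ l : ℕ, l.Prime → l ∣ e → l ∣ Q - 1 := fun l hl hle =>
    hqc ▸ P.M_prime l hl (he ▸ hle.mul_right e)
  have hJ : Nat.card P.S.img ≤ SolKBound.tableJ e := SolKBound.card_img_le_tableJ P.S hsol he.symm P.M_sqfree
  have hG : ∀ I, Nat.card P.S.img ≤ I → Nat.card G ≤ P.a * ((Q - 1) * (e * e * I)) := fun I hI => by
    refine P.card_le.trans (Nat.mul_le_mul_left _ ?_)
    rw [← he, mul_assoc]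
    exact Nat.mul_le_mul (hqc ▸ P.card_A) (Nat.mul_le_mul_left _ hI)
  rcases three_or_trans ρ with hthree | htr
  · -- three orbits
    have hcount : ∀ I, Nat.card P.S.img ≤ I → 81 * (e * e * I) ^ 4 ≤ Q ^ (e - 8) → 8 ≤ e → StA ρ := by
      intro I hI hN h8
      refine five_regular hρ hirr hprim hsol (lt_of_lt_of_le (b := (3 * (Q * Q) * (e * e * I)) ^ 4) ?_ ?_)
      · refine Nat.pow_lt_pow_left ?_ (by norm_num)
        calc 6 * Nat.card G ≤ 6 * (P.a * ((Q - 1) * (e * e * I))) := Nat.mul_le_mul_left _ (hG I hI)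
          _ = 3 * ((2 * P.a) * (Q - 1)) * (e * e * I) := by ring
          _ < 3 * (Q * Q) * (e * e * I) := by
              refine Nat.mul_lt_mul_of_pos_right (Nat.mul_lt_mul_of_pos_left ?_ (by norm_num)) ?_
              · exact (Nat.mul_le_mul_right _ h2a).trans_lt (Nat.mul_lt_mul_of_pos_left (by omega) (by omega))
              · have : 0 < I := Nat.card_pos.trans_le hI
                positivity
      · calc (3 * (Q * Q) * (e * e * I)) ^ 4 = 81 * (e * e * I) ^ 4 * Q ^ 8 := by ring
          _ ≤ Q ^ (e - 8) * Q ^ 8 := Nat.mul_le_mul_right _ hN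
          _ ≤ Nat.card V := by
              rw [hV, ← pow_add]
              exact Nat.pow_le_pow_right (by omega) (by omega)
    rcases (show 162 ≤ e ∨ e < 162 by omega) with h162 | h162
    · refine Or.inl (hcount _ hJ ?_ (by omega))
      have h3 : 3 ≤ Q := by
        obtain ⟨l, hl1, hl2⟩ := Nat.exists_prime_and_dvd (show e ≠ 1 by omega)
        have := Nat.le_of_dvd (by omega) (hl l hl1 hl2)
        have := hl1.two_le
        omega
      calc 81 * (e * e * SolKBound.tableJ e) ^ 4 ≤ 81 * (e ^ 8) ^ 4 :=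
            Nat.mul_le_mul_left _ (Nat.pow_le_pow_left (sq_mul_tableJ he0) 4)
        _ = 81 * e ^ 32 := by ring
        _ ≤ 3 ^ (e - 8) := pow_thirtytwo h162
        _ ≤ Q ^ (e - 8) := Nat.pow_le_pow_left h3 _
    have himg : DL P.S.img 7 ∨ StA ρ := by
      by_cases h81 : 81 ∣ e
      · obtain rfl : e = 81 := by
          obtain ⟨c, rfl⟩ := h81
          omega
        refine (img_81 G P.M P.C P.S he.symm hsol P.M_sqfree).imp_right fun hI => hcount _ hI ?_ (by norm_num)
        have := hl 3 Nat.prime_three (by norm_num)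
        refine le_trans ?_ (Nat.pow_le_pow_left (show 4 ≤ Q by omega) _)
        norm_num
      · exact Or.inl (img_lt e (by omega) h81 G P.M P.C P.S he.symm hsol P.M_sqfree)
    rcases himg with hi7 | hA
    swap
    · exact Or.inl hA
    have hst : ∀ v : V, v ≠ 0 → DL (stab ρ v) 9 := fun v hv => stab_dl hρ hirr hprim hsol P he hi7 hv
    have hfive : ∀ I, Nat.card P.S.img ≤ I → 2 * (e * e * I) ≤ Q ^ (e - 2) → 3 ≤ e → StA ρ := by
      intro I hI hN h3e
      refine five_size hst ?_
      have h1 : 4 * Nat.card G ≤ (Q - 1) * Q ^ (e - 1) := by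
        calc 4 * Nat.card G ≤ 4 * (P.a * ((Q - 1) * (e * e * I))) := Nat.mul_le_mul_left _ (hG I hI)
          _ = (Q - 1) * ((2 * P.a) * (2 * (e * e * I))) := by ring
          _ ≤ (Q - 1) * (Q * Q ^ (e - 2)) := Nat.mul_le_mul_left _ (Nat.mul_le_mul h2a hN)
          _ = _ := by rw [← pow_succ', show e - 2 + 1 = e - 1 by omega]
      have h2 : Q ^ e ≤ Q ^ P.d := Nat.pow_le_pow_right (by omega) hed
      have h3 : 1 < Q ^ (e - 1) := Nat.one_lt_pow (by omega) (by omega)
      have h4 : (Q - 1) * Q ^ (e - 1) + Q ^ (e - 1) = Q ^ e := by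
        rw [Nat.sub_one_mul, Nat.sub_add_cancel (Nat.le_mul_of_pos_left _ (by omega)), ← pow_succ',
          show e - 1 + 1 = e by omega]
      omega
    rcases (show 27 ≤ e ∨ e < 27 by omega) with h27 | h27
    · refine Or.inl (hfive _ hJ ?_ (by omega))
      have h3 : 3 ≤ Q := by
        obtain ⟨l, hl1, hl2⟩ := Nat.exists_prime_and_dvd (show e ≠ 1 by omega)
        have := Nat.le_of_dvd (by omega) (hl l hl1 hl2)
        have := hl1.two_le
        omega
      exact ((Nat.mul_le_mul_left 2 (sq_mul_tableJ he0)).trans (two_mul_pow_eight h27)).trans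
        (Nat.pow_le_pow_left h3 _)
    by_cases ha : P.a = 1
    · exact Or.inr (Or.inl ⟨((hpd.2 6 (img_lt_27 e h27)).2 ha), hthree⟩)
    by_cases h8 : 8 ∣ e
    · have h9 : 9 ≤ Q := by
        have h2 := hl 2 Nat.prime_two ((dvd_trans (by norm_num) h8))
        have hp3 : 3 ≤ p := by
          by_contra hc
          have h := hp.two_le
          obtain rfl : p = 2 := by omega
          have : 2 ∣ Q := dvd_pow_self 2 P.a_pos.ne'
          omega
        calc 9 = 3 ^ 2 := by norm_num
          _ ≤ 3 ^ P.a := Nat.pow_le_pow_right (by norm_num) (by have := P.a_pos; omega)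
          _ ≤ Q := Nat.pow_le_pow_left hp3 _
      refine Or.inl (hfive _ hJ (le_trans ?_ (Nat.pow_le_pow_left h9 _)) ?_)
      · obtain ⟨c, rfl⟩ := h8
        have hc : c ≤ 3 := by omega
        interval_cases c <;> (revert he0; norm_num [SolKBound.tableJ])
      · have := Nat.le_of_dvd he0 h8
        omega
    · exact Or.inr (Or.inl ⟨(hpd.2 5 (img_lt_27_five e h27 h8)).1, hthree⟩)
  · -- transitive
    refine Or.inr (Or.inr ?_)
    rcases (show e = 1 ∨ (2 ≤ e ∧ e ≤ 4) ∨ 5 ≤ e by omega) with h1 | ⟨h2, h4⟩ | h5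
    · exact (hpd.1 h1).mono (by norm_num)
    · exact (hpd.2 3 (img_le_four h2 h4)).1
    by_cases ha : P.a = 1 ∧ e ≤ 7
    · exact (hpd.2 4 (img_le_seven (by omega) ha.2)).2 ha.1
    exfalso
    have hdvd : Q ^ P.d - 1 ∣ Nat.card G := hV ▸ sub_one_dvd_card ρ htr
    have hsize : ∀ d', e ≤ d' → d' ≤ P.d → e * e * SolKBound.tableJ e < 2 * Q ^ (d' - 2) → False := by
      intro d' h1 h2 h
      have h3 : Q ^ d' - 1 ≤ P.a * ((Q - 1) * (e * e * SolKBound.tableJ e)) :=
        ((Nat.sub_le_sub_right (Nat.pow_le_pow_right (by omega) h2) 1).trans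
          (Nat.le_of_dvd Nat.card_pos hdvd)).trans (hG _ hJ)
      have h4 : P.a * (e * e * SolKBound.tableJ e) < Q ^ (d' - 1) := by
        refine Nat.lt_of_mul_lt_mul_left (a := 2) ?_
        calc 2 * (P.a * (e * e * SolKBound.tableJ e)) = 2 * P.a * (e * e * SolKBound.tableJ e) := by ring
          _ ≤ Q * (e * e * SolKBound.tableJ e) := Nat.mul_le_mul_right _ h2a
          _ < Q * (2 * Q ^ (d' - 2)) := Nat.mul_lt_mul_of_pos_left h (by omega)
          _ = 2 * Q ^ (d' - 1) := by rw [show d' - 1 = d' - 2 + 1 by omega, pow_succ]; ring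
      have h5 : (Q - 1) * (P.a * (e * e * SolKBound.tableJ e) + 1) ≤ (Q - 1) * Q ^ (d' - 1) :=
        Nat.mul_le_mul_left _ h4
      have h6 : (Q - 1) * Q ^ (d' - 1) + Q ^ (d' - 1) = Q ^ d' := by
        rw [Nat.sub_one_mul, Nat.sub_add_cancel (Nat.le_mul_of_pos_left _ (by omega)), ← pow_succ',
          show d' - 1 + 1 = d' by omega]
      have h7 : 1 ≤ Q ^ (d' - 1) := Nat.one_le_pow _ _ (by omega)
      have h8 : P.a * ((Q - 1) * (e * e * SolKBound.tableJ e)) + (Q - 1) =
          (Q - 1) * (P.a * (e * e * SolKBound.tableJ e) + 1) := by ring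
      omega
    rcases (show e = 5 ∨ e = 6 ∨ e = 7 ∨ 8 ≤ e by omega) with rfl | rfl | rfl | h8
    · have ha2 : 2 ≤ P.a := by have := P.a_pos; omega
      have h16 : 16 ≤ Q := by
        have := hl 5 (by norm_num) (dvd_refl 5)
        by_contra hc
        have hp2 : p ^ 2 ≤ Q := Nat.pow_le_pow_right hp.pos ha2
        have hp3 : p ≤ 3 := by nlinarith
        have hp2' := hp.two_le
        have ha3 : P.a ≤ 3 := by
          by_contra hc'
          have : 2 ^ 4 ≤ Q := (Nat.pow_le_pow_right (by norm_num) (show 4 ≤ P.a by omega)).trans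
            (Nat.pow_le_pow_left hp2' _)
          omega
        obtain ⟨p0, a0, h1, h1', h2, h2', hQ0⟩ : ∃ p0 a0, 2 ≤ p0 ∧ p0 ≤ 3 ∧ 2 ≤ a0 ∧ a0 ≤ 3 ∧ Q = p0 ^ a0 :=
          ⟨p, P.a, hp2', hp3, ha2, ha3, hQdef⟩
        interval_cases p0 <;> interval_cases a0 <;> norm_num at hQ0 <;> omega
      refine hsize 5 le_rfl hed ?_
      calc 5 * 5 * SolKBound.tableJ 5 < 2 * 16 ^ (5 - 2) := by norm_num [SolKBound.tableJ]
        _ ≤ _ := Nat.mul_le_mul_left 2 (Nat.pow_le_pow_left h16 _)
    · have ha2 : 2 ≤ P.a := by have := P.a_pos; omega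
      have h9 : 8 ≤ Q := by
        have := hl 2 Nat.prime_two (by norm_num)
        have := hl 3 Nat.prime_three (by norm_num)
        have hp2 : p ^ 2 ≤ Q := Nat.pow_le_pow_right hp.pos ha2
        by_contra hc
        obtain rfl : p = 2 := by
          have := hp.two_le
          nlinarith
        have : 2 ∣ Q := dvd_pow_self 2 P.a_pos.ne'
        omega
      refine hsize 6 le_rfl hed ?_
      calc 6 * 6 * SolKBound.tableJ 6 < 2 * 8 ^ (6 - 2) := by norm_num [SolKBound.tableJ]
        _ ≤ _ := Nat.mul_le_mul_left 2 (Nat.pow_le_pow_left h9 _)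
    · have := hl 7 (by norm_num) (dvd_refl 7)
      refine hsize 7 le_rfl hed ?_
      calc 7 * 7 * SolKBound.tableJ 7 < 2 * 8 ^ (7 - 2) := by norm_num [SolKBound.tableJ]
        _ ≤ _ := Nat.mul_le_mul_left 2 (Nat.pow_le_pow_left (by omega) _)
    rcases size_or_prime Q e P.d hQ2 hed h8 hl with h | ⟨s, k, l, hs, hek, hlp, hl2, hls, hlQ, hld, hGL⟩
    · exact hsize P.d hed le_rfl h
    · have hla : P.a < l := by
        by_contra hc
        have : 2 ^ 4 ≤ Q := (Nat.pow_le_pow_right (by norm_num) (show 4 ≤ P.a by omega)).trans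
          (Nat.pow_le_pow_left hp.two_le _)
        omega
      exact not_dvd_card P hs (he ▸ hek) hlp hla (hqc.symm ▸ hlQ) hls hGL (hld.trans hdvd)

end Main

end Cfsg.Agent.StabDL
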