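/-
Vector stabilisers in soluble linear groups, 11: imprimitive groups and completely reducible modules.
-/
import Cfsg.Agent.Lib.StabDL.Prim
import Cfsg.Agent.Lib.StabDL.ColourMain
import Cfsg.Agent.Lib.SolClasses.Good

set_option autoImplicit false
set_option linter.style.haveILetI false
set_option linter.unusedSectionVars false
set_option maxHeartbeats 1000000

namespace Cfsg.Agent.StabDL

open Cfsg.Agent.PrimSol Cfsg.Agent.SolClasses

universe u

theorem DL.two {G : Type*} [Group G] {H K : Type*} [Group H] [Group K] {n : ℕ} (f : G →* H) (g : G →* K)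
    (hinj : ∀ x, f x = 1 → g x = 1 → x = 1) (hH : DL H n) (hK : DL K n) : DL G n :=
  (Subgroup.eq_bot_iff_forall _).2 fun x hx => by
    have h1 : f x ∈ derivedSeries H n := map_derivedSeries_le_derivedSeries f n ⟨x, hx, rfl⟩
    have h2 : g x ∈ derivedSeries K n := map_derivedSeries_le_derivedSeries g n ⟨x, hx, rfl⟩
    rw [hH, Subgroup.mem_bot] at h1
    rw [hK, Subgroup.mem_bot] at h2
    exact hinj x h1 h2

section Blocks

variable {p : ℕ} [Fact p.Prime] {V : Type u} [AddCommGroup V] [Module (ZMod p) V] [Finite V] [Nontrivial V]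
  {G : Type u} [Group G] [Finite G] {ρ : G →* Module.End (ZMod p) V}

/-- The block of a coset. -/
noncomputable def blockOf (B : Blocks ρ) (i0 : Fin B.t) (q : G ⧸ B.stab i0) : Fin B.t := B.π q.out i0

theorem blockOf_bijective (B : Blocks ρ) (hirr : Irred ρ) (i0 : Fin B.t) : Function.Bijective (blockOf B i0) := by
  refine ⟨fun q r h => ?_, fun i => ?_⟩
  · rw [← QuotientGroup.out_eq' q, ← QuotientGroup.out_eq' r, QuotientGroup.eq]
    show B.π (q.out⁻¹ * r.out) i0 = i0
    rw [map_mul, map_inv, Equiv.Perm.mul_apply, Equiv.Perm.inv_eq_iff_eq]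
    exact h.symm
  · obtain ⟨g, hg⟩ := B.orbit hirr i0 i
    refine ⟨(g : G ⧸ B.stab i0), ?_⟩
    obtain ⟨⟨u, hu⟩, hx⟩ := QuotientGroup.mk_out_eq_mul (B.stab i0) g
    show B.π _ i0 = i
    rw [hx, map_mul, Equiv.Perm.mul_apply]
    rw [show B.π u i0 = i0 from hu, hg]

/-- Vectors made from a colouring of the blocks. -/
theorem exists_vec (B : Blocks ρ) (hρ : Function.Injective ρ) (hirr : Irred ρ) (i0 : Fin B.t) {c bs : ℕ}
    (w : Fin c → B.D i0) (hw : ∀ a, DL (stab (B.blockHom i0) (w a) ⧸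
      (B.blockHom i0).ker.subgroupOf (stab (B.blockHom i0) (w a))) bs) (hwi : Inequiv (B.blockHom i0) w) :
    ∃ vec : (G ⧸ B.stab i0 → Fin c) → V,
      (∀ F, (∀ q, w (F q) = 0) → vec F = 0) ∧
      (∀ F g F', ρ g (vec F) = vec F' → ∀ q, F' (g • q) = F q) ∧
      ∀ F bF, ColDL G F bF → DL (stab ρ (vec F)) (bF + bs) := by
  classical
  set U := B.stab i0
  haveI := Fintype.ofFinite (G ⧸ U)
  let E := blockOf B i0
  have hE := blockOf_bijective B hirr i0
  let x : (G ⧸ U → Fin c) → G ⧸ U → V := fun F q => ρ q.out (w (F q) : V)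
  have hx : ∀ F q, x F q ∈ B.D (E q) := fun F q => B.mem _ _ _ (w (F q)).2
  let vec : (G ⧸ U → Fin c) → V := fun F => ∑ q, x F q
  have hk : ∀ (g : G) (q : G ⧸ U), (g • q).out⁻¹ * (g * q.out) ∈ U := fun g q => by
    rw [← QuotientGroup.eq, QuotientGroup.out_eq']
    conv_lhs => rw [← QuotientGroup.out_eq' q]
    rfl
  have hmove : ∀ F g q, ρ g (x F q) =
      ρ (g • q).out ((B.blockHom i0 ⟨_, hk g q⟩ (w (F q)) : B.D i0) : V) := by
    intro F g q
    show ρ g (ρ q.out (w (F q) : V)) = ρ (g • q).out (ρ ((g • q).out⁻¹ * (g * q.out)) (w (F q) : V))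
    simp only [← Module.End.mul_apply, ← map_mul, mul_inv_cancel_left]
  have huniq : ∀ y z : G ⧸ U → V, (∀ q, y q ∈ B.D (E q)) → (∀ q, z q ∈ B.D (E q)) → ∑ q, y q = ∑ q, z q →
      y = z := by
    intro y z hy hz h
    funext q
    have hind := B.ind.comp hE.1
    have h0 : y q - z q + ∑ r ∈ Finset.univ.erase q, (y r - z r) = 0 := by
      rw [Finset.add_sum_erase _ (fun r => y r - z r) (Finset.mem_univ q), Finset.sum_sub_distrib, h, sub_self]
    have h1 : y q - z q ∈ ⨆ (r) (_ : r ≠ q), (B.D ∘ E) r := by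
      rw [eq_neg_of_add_eq_zero_left h0]
      exact neg_mem (Submodule.sum_mem _ fun r hr => Submodule.mem_iSup_of_mem r
        (Submodule.mem_iSup_of_mem (Finset.ne_of_mem_erase hr) (sub_mem (hy r) (hz r))))
    exact sub_eq_zero.1 (Submodule.disjoint_def.1 (hind q) _ (sub_mem (hy q) (hz q)) h1)
  have hkey : ∀ F g F', ρ g (vec F) = vec F' → ∀ q, B.blockHom i0 ⟨_, hk g q⟩ (w (F q)) = w (F' (g • q)) := by
    intro F g F' h q
    have h' : ∑ r, ρ g (x F (g⁻¹ • r)) = ∑ r, x F' r := by
      refine Eq.trans ?_ h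
      rw [map_sum]
      exact Fintype.sum_equiv (MulAction.toPerm g⁻¹) _ _ fun r => rfl
    have hmem : ∀ r, ρ g (x F (g⁻¹ • r)) ∈ B.D (E r) := fun r => by
      rw [hmove]
      have h1 : ∀ z : B.D i0, ρ (g • g⁻¹ • r).out (z : V) ∈ B.D (E (g • g⁻¹ • r)) := fun z => B.mem _ _ _ z.2
      have h2 := h1 (B.blockHom i0 ⟨_, hk g (g⁻¹ • r)⟩ (w (F (g⁻¹ • r))))
      rwa [show E (g • g⁻¹ • r) = E r from congrArg E (smul_inv_smul g r)] at h2
    have h3 := congrFun (huniq _ _ hmem (hx F') h') (g • q)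
    rw [inv_smul_smul, hmove] at h3
    exact Subtype.ext (apply_injective ρ _ h3)
  refine ⟨vec, fun F hF => Finset.sum_eq_zero fun q _ => ?_, fun F g F' h q => (hwi _ _ _ (hkey F g F' h q)).symm, fun F bF hF => ?_⟩
  · show ρ q.out (w (F q) : V) = 0
    rw [hF q, ZeroMemClass.coe_zero, map_zero]
  set S := stab ρ (vec F)
  have hsF : S ≤ colStab G F := fun g hg q => (hwi _ _ _ (hkey F g F hg q)).symm
  have htop : ∀ y ∈ derivedSeries S bF, ∀ q : G ⧸ U, (y : G) • q = q := fun y hy q =>
    hF _ (map_derivedSeries_le_derivedSeries (Subgroup.inclusion hsF) bF ⟨y, hy, rfl⟩) q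
  set N := derivedSeries S bF
  refine DL.ext_le N le_rfl ?_
  have hmemU : ∀ (n : N) (q : G ⧸ U), q.out⁻¹ * ((n : S) : G) * q.out ∈ U := fun n q => by
    have h := hk ((n : S) : G) q
    rw [htop _ n.2 q] at h
    rw [mul_assoc]
    exact h
  let φ : ∀ q : G ⧸ U, N →* U := fun q =>
    { toFun := fun n => ⟨q.out⁻¹ * ((n : S) : G) * q.out, hmemU n q⟩
      map_one' := Subtype.ext (by simp)
      map_mul' := fun a b => Subtype.ext (by simp [mul_assoc]) }
  have hφ : ∀ q n, φ q n ∈ stab (B.blockHom i0) (w (F q)) := fun q n => by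
    have h := hkey F ((n : S) : G) F (n : S).2 q
    have e : (⟨_, hk ((n : S) : G) q⟩ : U) = φ q n := Subtype.ext (by
      show (((n : S) : G) • q).out⁻¹ * (((n : S) : G) * q.out) = q.out⁻¹ * ((n : S) : G) * q.out
      rw [htop _ n.2 q, mul_assoc])
    rw [e, htop _ n.2 q] at h
    exact h
  refine DL.pi (fun q => (QuotientGroup.mk' _).comp ((φ q).codRestrict _ (hφ q))) (fun n hn => ?_) fun q => hw (F q)
  have hid : ρ ((n : S) : G) = 1 := by
    have hker : LinearMap.ker (ρ ((n : S) : G) - 1) = ⊤ := by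
      refine eq_top_iff.2 (B.top ▸ iSup_le fun i => ?_)
      obtain ⟨q, hq⟩ := hE.2 i
      intro z hz
      have h1 : B.blockHom i0 (φ q n) = 1 := MonoidHom.mem_ker.1 ((QuotientGroup.eq_one_iff _).1 (hn q) :
        ((φ q).codRestrict _ (hφ q) n) ∈ (B.blockHom i0).ker.subgroupOf _)
      have hz' : ρ q.out⁻¹ z ∈ B.D i0 := by
        have h2 := B.mem q.out⁻¹ i z hz
        rwa [map_inv, show (B.π q.out)⁻¹ i = i0 from Equiv.Perm.inv_eq_iff_eq.2 hq.symm] at h2
      have h3 : ρ (q.out⁻¹ * ((n : S) : G) * q.out) (ρ q.out⁻¹ z) = ρ q.out⁻¹ z :=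
        congrArg Subtype.val (LinearMap.congr_fun h1 ⟨_, hz'⟩)
      rw [← Module.End.mul_apply, ← map_mul, mul_assoc, mul_assoc, mul_inv_cancel, mul_one, map_mul,
        Module.End.mul_apply] at h3
      rw [LinearMap.mem_ker, LinearMap.sub_apply, Module.End.one_apply, sub_eq_zero]
      exact apply_injective ρ _ h3
    exact sub_eq_zero.1 (LinearMap.ker_eq_top.1 hker)
  exact Subtype.ext (Subtype.ext (hρ (hid.trans (map_one ρ).symm)))

end Blocks

/-- The trichotomy for irreducible groups. -/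
theorem tri_irred {p : ℕ} [Fact p.Prime] : ∀ (n : ℕ) (V : Type u) [AddCommGroup V] [Module (ZMod p) V] [Finite V]
    [Nontrivial V] (G : Type u) [Group G] [Finite G] (ρ : G →* Module.End (ZMod p) V),
    Module.finrank (ZMod p) V = n → Function.Injective ρ → Irred ρ → Group.IsSolvable G → Tri ρ := by
  intro n
  induction n using Nat.strong_induction_on with
  | _ n ih =>
  intro V _ _ _ _ G _ _ ρ hn hρ hirr hsol
  classical
  haveI := hsol
  by_cases hprim : NoDecomp ρ
  · exact tri_primitive hρ hirr hprim hsol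
  obtain ⟨B⟩ := exists_blocks hprim
  let i0 : Fin B.t := ⟨0, by have := B.two_le; omega⟩
  set U := B.stab i0
  haveI := Fintype.ofFinite (G ⧸ U)
  have hU : U.index = B.t := by
    have h := Nat.card_eq_of_bijective _ (blockOf_bijective B hirr i0)
    rwa [Nat.card_fin] at h
  have hcardU : Nat.card (G ⧸ U) = B.t := hU
  have hUtop : U ≠ ⊤ := fun h => by
    have := B.two_le
    rw [h, Subgroup.index_top] at hU
    omega
  haveI : Nontrivial (B.D i0) := Submodule.nontrivial_iff_ne_bot.2 (B.D_ne i0)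
  haveI : Finite (Module.End (ZMod p) (B.D i0)) := Finite.of_injective _ DFunLike.coe_injective
  haveI : Finite (Module.End (ZMod p) (B.D i0))ˣ := Finite.of_injective _ Units.val_injective
  set f := (B.blockHom i0).toHomUnits with hf
  let τ : f.range →* Module.End (ZMod p) (B.D i0) := (Units.coeHom _).comp f.range.subtype
  have hlt : Module.finrank (ZMod p) (B.D i0) < n := by
    rw [B.rank, ← hn, ← B.dim]
    exact lt_mul_of_one_lt_left B.s_pos B.two_le
  have hT : Tri τ := ih _ hlt (B.D i0) f.range τ rfl (Units.val_injective.comp Subtype.val_injective)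
    (fun X hX => B.blockHom_irred hirr i0 X fun k w hw => hX ⟨f k, k, rfl⟩ w hw)
    (Group.isSolvable_of_surjective f.rangeRestrict_surjective)
  have hinv : ∀ {ι : Type} (w : ι → B.D i0), Inequiv τ w → Inequiv (B.blockHom i0) w :=
    fun w h i j k hk => h i j ⟨f k, k, rfl⟩ hk
  have hquot : ∀ (w : B.D i0) (b : ℕ), DL (stab τ w) b → DL (stab (B.blockHom i0) w ⧸
      (B.blockHom i0).ker.subgroupOf (stab (B.blockHom i0) w)) b := by
    intro w b h
    let ψ : stab (B.blockHom i0) w →* stab τ w :=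
      (f.rangeRestrict.comp (Subgroup.subtype _)).codRestrict _ fun k => k.2
    have hψ : ψ.ker = (B.blockHom i0).ker.subgroupOf (stab (B.blockHom i0) w) := by
      ext k
      rw [MonoidHom.mem_ker, Subgroup.mem_subgroupOf, MonoidHom.mem_ker]
      exact ⟨fun e => congrArg (fun z : stab τ w => (((z : f.range) : (Module.End (ZMod p) (B.D i0))ˣ) :
        Module.End (ZMod p) (B.D i0))) e, fun e => Subtype.ext (Subtype.ext (Units.ext e))⟩
    refine h.of_injective (QuotientGroup.lift _ ψ hψ.ge) ?_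
    rw [injective_iff_map_eq_one]
    intro z hz
    obtain ⟨k, rfl⟩ := QuotientGroup.mk_surjective z
    exact (QuotientGroup.eq_one_iff k).2 (hψ.le hz)
  rcases hT with ⟨w, hw, hwi⟩ | ⟨hd8, w, hwi⟩ | hd6
  · obtain ⟨vec, -, hvi, hvd⟩ := exists_vec B hρ hirr i0 w (fun a => hquot _ _ (hw a)) (hinv w hwi)
    obtain ⟨F, hF, hFi⟩ := five_rigid hsol hUtop
    exact Or.inl ⟨fun i => vec (F i), fun i => (hvd _ _ (hF i)).mono (by norm_num),
      fun i j g hg => (hFi j i g fun q => hvi _ _ _ hg q).symm⟩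
  · obtain ⟨vec, -, hvi, hvd⟩ := exists_vec B hρ hirr i0 w (fun a => hquot _ _ (hd8.subgroup _)) (hinv w hwi)
    obtain ⟨F, hF, hFi⟩ := colour3 _ G hsol U hUtop rfl
    exact Or.inl ⟨fun i => vec (F i), fun i => (hvd _ _ (hF i)).mono (by norm_num),
      fun i j g hg => (hFi j i g fun q => hvi _ _ _ hg q).symm⟩
  obtain ⟨v, hv⟩ := exists_ne (0 : B.D i0)
  let w : Fin 2 → B.D i0 := ![0, v]
  have hwi : Inequiv τ w := by
    intro i j k hk
    fin_cases i <;> fin_cases j <;> first
      | rfl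
      | exact absurd ((map_zero (τ k)).symm.trans hk) hv.symm
      | exact absurd hk (fun e => hv (apply_injective τ k (e.trans (map_zero _).symm)))
  obtain ⟨vec, -, hvi, hvd⟩ := exists_vec B hρ hirr i0 w (fun a => hquot _ _ (hd6.subgroup _)) (hinv w hwi)
  by_cases h4 : 4 ≤ U.index
  · obtain ⟨F, hF, hFi⟩ := colour2 _ G hsol U h4 rfl
    exact Or.inl ⟨fun i => vec (F i), fun i => (hvd _ _ (hF i)).mono (by norm_num),
      fun i j g hg => (hFi j i g fun q => hvi _ _ _ hg q).symm⟩
  refine Or.inr (Or.inl ⟨?_, ?_⟩)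
  · obtain ⟨vec', hv0, -, hvd'⟩ := exists_vec B hρ hirr i0 (fun _ : Fin 1 => (0 : B.D i0))
      (fun a => hquot _ _ (hd6.subgroup _)) (fun i j k _ => Subsingleton.elim i j)
    let F0 : G ⧸ U → Fin 1 := fun _ => 0
    have hcol : ColDL G F0 2 := col_small hsol F0 (m := 3) (fun k a c => perm_le_three a c) fun a =>
      (Set.ncard_le_card _).trans (by omega)
    have hall : ∀ g : G, g ∈ stab ρ (0 : V) := fun g => map_zero _
    have hz : DL (stab ρ (0 : V)) 8 := by
      have h := hvd' F0 2 hcol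
      rw [hv0 F0 fun q => rfl] at h
      exact h.mono (by norm_num)
    exact hz.of_injective ((MonoidHom.id G).codRestrict (stab ρ (0 : V)) hall)
      fun a b e => congrArg Subtype.val e
  · let A : Fin 3 → Finset (G ⧸ U) := ![∅, {((1 : G) : G ⧸ U)}, Finset.univ]
    have hA : ∀ a, (A a).card = (![0, 1, B.t] : Fin 3 → ℕ) a := fun a => by
      have hu : (Finset.univ : Finset (G ⧸ U)).card = B.t := by
        rw [Finset.card_univ, ← Nat.card_eq_fintype_card, hcardU]
      fin_cases a <;> simp [A, hu, -Finset.card_univ]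
    have hi : ColInequiv G fun a => col2 (A a) := colInequiv_of_sizes fun i j h => by
      have h' := congrFun h 0
      change sizes (col2 (A i)) 0 = sizes (col2 (A j)) 0 at h'
      rw [sizes_col2, sizes_col2] at h'
      simp only [Matrix.cons_val_zero, hA] at h'
      have := B.two_le
      fin_cases i <;> fin_cases j <;> first | rfl | (exfalso; simp at h'; omega) | (exfalso; simp at h' <;> omega)
    exact ⟨fun a => vec (col2 (A a)), fun i j g hg => (hi j i g fun q => hvi _ _ _ hg q).symm⟩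

/-- A vector with stabiliser of derived length at most nine. -/
theorem irred_nine {p : ℕ} [Fact p.Prime] {V : Type u} [AddCommGroup V] [Module (ZMod p) V] [Finite V]
    [Nontrivial V] {G : Type u} [Group G] [Finite G] (ρ : G →* Module.End (ZMod p) V) (hρ : Function.Injective ρ)
    (hirr : Irred ρ) (hsol : Group.IsSolvable G) : ∃ v, DL (stab ρ v) 9 := by
  rcases tri_irred _ V G ρ rfl hρ hirr hsol with ⟨f, hf, -⟩ | ⟨h, -⟩ | h
  · exact ⟨f 0, hf 0⟩
  · exact ⟨0, (h.subgroup _).mono (by norm_num)⟩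
  · exact ⟨0, (h.subgroup _).mono (by norm_num)⟩

/-- From irreducible to completely reducible modules. -/
theorem cr_reduce {p : ℕ} [Fact p.Prime] (N b : ℕ)
    (hirr : ∀ (W : Type u) [AddCommGroup W] [Module (ZMod p) W] [Finite W] [Nontrivial W] (H : Type u) [Group H]
      [Finite H] (τ : H →* Module.End (ZMod p) W), Function.Injective τ → Irred τ → Group.IsSolvable H →
      Nat.card H ∣ N → ∃ v, DL (stab τ v) b) :
    ∀ (n : ℕ) (V : Type u) [AddCommGroup V] [Module (ZMod p) V] [Finite V] (G : Type u) [Group G] [Finite G]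
      (ρ : G →* Module.End (ZMod p) V), Module.finrank (ZMod p) V ≤ n → Function.Injective ρ →
      Group.IsSolvable G → Nat.card G ∣ N →
      (∀ W : Submodule (ZMod p) V, (∀ g, ∀ w ∈ W, ρ g w ∈ W) →
        ∃ W' : Submodule (ZMod p) V, (∀ g, ∀ w ∈ W', ρ g w ∈ W') ∧ IsCompl W W') →
      ∃ v, DL (stab ρ v) b := by
  intro n
  induction n with
  | zero =>
    intro V _ _ _ G _ _ ρ hn hρ hsol hN hcr
    haveI : Subsingleton V := Module.finrank_zero_iff.1 (Nat.le_zero.1 hn)
    haveI : Subsingleton G := ⟨fun a c => hρ (LinearMap.ext fun v => Subsingleton.elim _ _)⟩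
    exact ⟨0, dl_zero⟩
  | succ n ih =>
    intro V _ _ _ G _ _ ρ hn hρ hsol hN hcr
    classical
    haveI := hsol
    rcases subsingleton_or_nontrivial V with hV | hV
    · haveI : Subsingleton G := ⟨fun a c => hρ (LinearMap.ext fun v => Subsingleton.elim _ _)⟩
      exact ⟨0, dl_zero⟩
    obtain ⟨W, ⟨hW, hW0⟩, hmin⟩ := Set.Finite.exists_minimal
      (s := {W : Submodule (ZMod p) V | (∀ g, ∀ w ∈ W, ρ g w ∈ W) ∧ W ≠ ⊥}) (Set.toFinite _)
      ⟨⊤, fun _ _ _ => Submodule.mem_top, top_ne_bot⟩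
    obtain ⟨W', hW', hWW'⟩ := hcr W hW
    haveI : Nontrivial W := Submodule.nontrivial_iff_ne_bot.2 hW0
    haveI : Finite (Module.End (ZMod p) W) := Finite.of_injective _ DFunLike.coe_injective
    haveI : Finite (Module.End (ZMod p) W)ˣ := Finite.of_injective _ Units.val_injective
    haveI : Finite (Module.End (ZMod p) W') := Finite.of_injective _ DFunLike.coe_injective
    haveI : Finite (Module.End (ZMod p) W')ˣ := Finite.of_injective _ Units.val_injective
    let r1 : G →* (Module.End (ZMod p) W)ˣ := SolClasses.restrictUnits ρ W hW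
    let r2 : G →* (Module.End (ZMod p) W')ˣ := SolClasses.restrictUnits ρ W' hW'
    have e1 : ∀ g (x : W), (((r1 g : Module.End (ZMod p) W) x : W) : V) = ρ g (x : V) := fun g x => rfl
    have e2 : ∀ g (x : W'), (((r2 g : Module.End (ZMod p) W') x : W') : V) = ρ g (x : V) := fun g x => rfl
    let t1 : r1.range →* Module.End (ZMod p) W := (Units.coeHom _).comp r1.range.subtype
    let t2 : r2.range →* Module.End (ZMod p) W' := (Units.coeHom _).comp r2.range.subtype
    have hirr1 : Irred t1 := by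
      intro X hX
      by_cases hX0 : X = ⊥
      · exact Or.inl hX0
      refine Or.inr ?_
      have hle : W ≤ X.map W.subtype := by
        refine hmin ⟨?_, fun e => hX0 ?_⟩ (Submodule.map_subtype_le W X)
        · rintro g _ ⟨y, hy, rfl⟩
          exact ⟨_, hX ⟨r1 g, g, rfl⟩ y hy, rfl⟩
        · exact (Submodule.eq_bot_iff X).2 fun y hy => Subtype.ext ((Submodule.mem_bot _).1 (e ▸ ⟨y, hy, rfl⟩ :
            (y : V) ∈ (⊥ : Submodule (ZMod p) V)))
      rw [eq_top_iff]
      intro y _
      obtain ⟨z, hz, e⟩ := hle y.2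
      exact Subtype.ext e ▸ hz
    obtain ⟨v1, h1⟩ := hirr W r1.range t1 (Units.val_injective.comp Subtype.val_injective) hirr1
      (Group.isSolvable_of_surjective r1.rangeRestrict_surjective)
      ((Subgroup.card_range_dvd r1).trans hN)
    have hlt : Module.finrank (ZMod p) W' ≤ n := by
      haveI : Module.Finite (ZMod p) V := Module.Finite.of_finite
      have h := Submodule.finrank_add_eq_of_isCompl hWW'
      have h0 : 0 < Module.finrank (ZMod p) W := Module.finrank_pos
      omega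
    obtain ⟨v2, h2⟩ := ih W' r2.range t2 hlt (Units.val_injective.comp Subtype.val_injective)
      (Group.isSolvable_of_surjective r2.rangeRestrict_surjective) ((Subgroup.card_range_dvd r2).trans hN)
      fun X hX => by
        have hXinv : ∀ g, ∀ w ∈ X.map W'.subtype, ρ g w ∈ X.map W'.subtype := by
          rintro g _ ⟨y, hy, rfl⟩
          exact ⟨_, hX ⟨r2 g, g, rfl⟩ y hy, rfl⟩
        obtain ⟨Y, hY, hXY⟩ := hcr _ hXinv
        refine ⟨Y.comap W'.subtype, ?_, ?_⟩
        · rintro ⟨_, g, rfl⟩ w hw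
          exact hY g (w : V) hw
        · rw [isCompl_iff, disjoint_iff, codisjoint_iff]
          constructor
          · rw [Submodule.eq_bot_iff]
            intro y hy
            exact Subtype.ext (Submodule.disjoint_def.1 hXY.disjoint (y : V) ⟨y, hy.1, rfl⟩ hy.2)
          · rw [eq_top_iff]
            intro y _
            obtain ⟨a, ha, c, hc, e⟩ := Submodule.mem_sup.1
              (hXY.sup_eq_top.ge (Submodule.mem_top (x := (y : V))))
            obtain ⟨a', ha', rfl⟩ := ha
            refine Submodule.mem_sup.2 ⟨a', ha', y - a', ?_, add_sub_cancel _ _⟩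
            show ((y : V) - (a' : V)) ∈ Y
            rw [← e, Submodule.subtype_apply, add_sub_cancel_left]
            exact hc
    refine ⟨(v1 : V) + v2, ?_⟩
    have hsplit : ∀ g, ρ g ((v1 : V) + v2) = (v1 : V) + v2 → ρ g v1 = (v1 : V) ∧ ρ g v2 = (v2 : V) := by
      intro g h
      rw [map_add] at h
      have e : ρ g v1 - (v1 : V) = (v2 : V) - ρ g v2 := by
        rw [sub_eq_sub_iff_add_eq_add, h, add_comm]
      have h0 := Submodule.disjoint_def.1 hWW'.disjoint _ (sub_mem (hW g _ v1.2) v1.2)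
        (e ▸ sub_mem v2.2 (hW' g _ v2.2))
      exact ⟨sub_eq_zero.1 h0, (sub_eq_zero.1 (e.symm.trans h0)).symm⟩
    set S := stab ρ ((v1 : V) + v2)
    let F1 : S →* stab t1 v1 := (r1.rangeRestrict.comp S.subtype).codRestrict _ fun g => Subtype.ext (hsplit g g.2).1
    let F2 : S →* stab t2 v2 := (r2.rangeRestrict.comp S.subtype).codRestrict _ fun g => Subtype.ext (hsplit g g.2).2
    refine DL.two F1 F2 (fun g hg1 hg2 => Subtype.ext (hρ (LinearMap.ext fun v => ?_))) h1 h2
    obtain ⟨a, ha, c, hc, rfl⟩ := Submodule.mem_sup.1 (hWW'.sup_eq_top.ge (Submodule.mem_top (x := v)))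
    have g1 : r1 (g : G) = 1 := congrArg (fun z : stab t1 v1 => ((z : r1.range) : (Module.End (ZMod p) W)ˣ)) hg1
    have g2 : r2 (g : G) = 1 := congrArg (fun z : stab t2 v2 => ((z : r2.range) : (Module.End (ZMod p) W')ˣ)) hg2
    have k1 := e1 (g : G) ⟨a, ha⟩
    have k2 := e2 (g : G) ⟨c, hc⟩
    rw [g1] at k1
    rw [g2] at k2
    rw [map_add, OneMemClass.coe_one, map_one, ← k1, ← k2]
    rfl

end Cfsg.Agent.StabDL
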