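/-
Vector stabilisers in soluble linear groups, 12: groups of odd order, small facts.
-/
import Cfsg.Agent.Lib.StabDL.Rho

set_option autoImplicit false
set_option linter.style.haveILetI false
set_option linter.unusedSectionVars false

namespace Cfsg.Agent.StabDL

open Cfsg.Agent.PrimSol Cfsg.Agent.SolClasses

universe u v

theorem odd_dvd_two_pow {d k : ℕ} (hd : Odd d) (h : d ∣ 2 ^ k) : d = 1 := by
  obtain ⟨i, -, rfl⟩ := (Nat.dvd_prime_pow Nat.prime_two).1 h
  rcases Nat.eq_zero_or_pos i with rfl | hi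
  · rfl
  · exact absurd hd (Nat.not_odd_iff_even.2 ((Nat.even_pow).2 ⟨even_two, hi.ne'⟩))

theorem odd_four_three {a : ℕ} (ha : a ∣ 4) {c : ℕ} (hc : Odd c) (h : c ∣ 3 ^ a - 1) : c = 1 ∨ c = 5 := by
  have h80 : c ∣ 80 := by
    refine h.trans ?_
    have := Nat.le_of_dvd (by norm_num) ha
    interval_cases a <;> first | (norm_num; done) | (norm_num at ha)
  have h5 : c ∣ 5 := (Nat.Coprime.dvd_of_dvd_mul_left
    (Nat.Coprime.pow_right 4 (Nat.coprime_two_right.2 hc)) (show c ∣ 2 ^ 4 * 5 from h80))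
  exact (Nat.dvd_prime (by norm_num)).1 h5

/-- An irreducible group of odd order in dimension two, or four over three elements, is abelian. -/
theorem odd_comm {q : ℕ} [Fact q.Prime] {W : Type u} [AddCommGroup W] [Module (ZMod q) W] [Finite W]
    [Nontrivial W] {H : Type u} [Group H] [Finite H] (τ : H →* Module.End (ZMod q) W)
    (hτ : Function.Injective τ) (hirr : Irred τ) (hodd : Odd (Nat.card H)) (hsol : Group.IsSolvable H) {n : ℕ}
    (hn : Module.finrank (ZMod q) W = n) (hcase : n = 2 ∨ (q = 3 ∧ n = 4)) : ∀ x y : H, x * y = y * x := by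
  classical
  haveI := hsol
  have hn4 : n ∣ 4 := by rcases hcase with rfl | ⟨-, rfl⟩ <;> norm_num
  by_cases hprim : NoDecomp τ
  · obtain ⟨P, -, -, -⟩ := exists_primData_ext τ hτ hirr hprim hsol
    haveI := P.A_normal
    obtain ⟨e, he, he0⟩ := SolKBound.card_M_eq_square P.S hsol P.M_sqfree
    have hdim := P.dim.trans hn
    have hed : e ≤ P.d := Nat.mul_self_le_mul_self_iff.1 (he ▸ P.M_le)
    have hMdvd : Nat.card P.M ∣ Nat.card H := by
      rw [P.card_M]
      exact (Dvd.intro _ (Subgroup.relIndex_mul_index P.A_le)).trans (Subgroup.index_dvd_card P.A)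
    have heodd : Odd e := Odd.of_dvd_nat hodd ((he ▸ dvd_mul_right e e : e ∣ Nat.card P.M).trans hMdvd)
    have hd4 : P.d ≤ n := Nat.le_of_dvd (by rcases hcase with rfl | ⟨-, rfl⟩ <;> norm_num) ⟨P.a, by rw [mul_comm, hdim]⟩
    have he1 : e = 1 := by
      obtain ⟨i, hi⟩ := heodd
      rcases hcase with rfl | ⟨rfl, rfl⟩
      · omega
      · by_contra hne
        obtain rfl : e = 3 := by omega
        have h3 : (3 : ℕ) ∣ Nat.card (ZMod 3) ^ P.a - 1 := P.M_prime 3 Nat.prime_three (he ▸ dvd_mul_right 3 3)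
        have h4 : (3 : ℕ) ∣ 3 ^ P.a - 1 := (congrArg (fun z => 3 ∣ z ^ P.a - 1) (Nat.card_zmod 3)).mp h3
        have h5 : (3 : ℕ) ∣ 3 ^ P.a := dvd_pow_self 3 P.a_pos.ne'
        have h6 : 1 ≤ 3 ^ P.a := Nat.one_le_pow _ _ (by norm_num)
        omega
    subst he1
    have hEA : P.E ≤ P.A := Subgroup.relIndex_eq_one.1 (by rw [← P.card_M, ← he])
    have hY : P.S.Y1 ≤ P.A := by
      haveI : Subsingleton P.M := (Nat.card_eq_one_iff_unique.1 (by rw [← he])).1
      haveI : Subsingleton (MulAut P.M) := ⟨fun a b => MulEquiv.ext fun _ => Subsingleton.elim _ _⟩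
      refine le_trans (fun x hx => ?_) hEA
      rw [← P.act_ker]
      exact ⟨Subsingleton.elim _ _, hx⟩
    suffices htop : P.S.Y1 = ⊤ by
      intro x y
      exact P.A_comm x (hY (htop ▸ Subgroup.mem_top x)) y (hY (htop ▸ Subgroup.mem_top y))
    have hiodd : Odd P.S.Y1.index := Odd.of_dvd_nat hodd (Subgroup.index_dvd_card _)
    have hA4 : P.a ∣ n := ⟨P.d, hdim.symm⟩
    have hale : P.a ≤ n := Nat.le_of_dvd (by rcases hcase with rfl | ⟨-, rfl⟩ <;> norm_num) hA4
    rcases (show P.a ≤ 2 ∨ 2 < P.a by omega) with ha | ha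
    · refine Subgroup.index_eq_one.1 ?_
      obtain ⟨i, hi⟩ := hiodd
      have := P.Y1_index
      omega
    obtain ⟨rfl, rfl⟩ : q = 3 ∧ n = 4 := hcase.resolve_left (by omega)
    have hAodd : Odd (Nat.card P.A) := Odd.of_dvd_nat hodd (Subgroup.card_subgroup_dvd_card _)
    have hA : Nat.card P.A = 1 ∨ Nat.card P.A = 5 := odd_four_three hA4 hAodd
      ((congrArg (fun z => Nat.card P.A ∣ z ^ P.a - 1) (Nat.card_zmod 3)).mp P.card_A_dvd)
    rw [P.cent_eq, eq_top_iff]
    intro g _
    rw [Subgroup.mem_centralizer_iff]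
    intro c hc
    haveI : IsCyclic P.A := by
      rcases hA with h | h
      · haveI : Subsingleton P.A := (Nat.card_eq_one_iff_unique.1 h).1
        infer_instance
      · haveI : Fact (Nat.Prime 5) := ⟨by norm_num⟩
        exact isCyclic_of_prime_card h
    let f : H →* MulAut P.A := MulAut.conjNormal (H := P.A)
    have hf : Nat.card f.range = 1 := by
      refine odd_dvd_two_pow (Odd.of_dvd_nat hodd (Subgroup.card_range_dvd f)) (k := 2) ?_
      refine (Subgroup.card_subgroup_dvd_card f.range).trans ?_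
      rw [IsCyclic.card_mulAut]
      rcases hA with h | h <;> rw [h]
      · simp
      · rw [Nat.totient_prime (by norm_num)]
        norm_num
    have hg : f g = 1 := by
      have h1 : f g ∈ f.range := ⟨g, rfl⟩
      rw [Subgroup.card_eq_one.1 hf, Subgroup.mem_bot] at h1
      exact h1
    have h2 : g * c * g⁻¹ = c := by
      have h := congrArg Subtype.val (DFunLike.congr_fun hg (⟨c, hc⟩ : P.A))
      simpa [f, MulAut.conjNormal_apply] using h
    exact (mul_inv_eq_iff_eq_mul.1 h2).symm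
  · obtain ⟨B⟩ := exists_blocks hprim
    exfalso
    let i0 : Fin B.t := ⟨0, by have := B.two_le; omega⟩
    letI : MulAction H (Fin B.t) := MulAction.compHom _ B.π
    haveI htr : MulAction.IsPretransitive H (Fin B.t) := ⟨fun i j => B.orbit hirr i j⟩
    have hidx := MulAction.index_stabilizer_of_transitive H i0
    rw [Nat.card_fin] at hidx
    have ht : Odd B.t := Odd.of_dvd_nat hodd (hidx ▸ Subgroup.index_dvd_card _)
    have h1 : B.t = 1 := odd_dvd_two_pow ht (k := 2) ((Dvd.intro _ (B.dim.trans hn)).trans hn4)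
    have := B.two_le
    omega

/-- The derived subgroup of a group of odd order is small. -/
theorem six_mul_commutator {H : Type u} [Group H] [Finite H] (hsol : Group.IsSolvable H)
    (hodd : Odd (Nat.card H)) {b : ℕ} (h : 2 * Nat.card H ≤ b) (hb : 6 ≤ b) : 6 * Nat.card (commutator H) ≤ b := by
  haveI := hsol
  rcases subsingleton_or_nontrivial H with hH | hH
  · rw [Nat.card_unique (α := commutator H)]
    omega
  have hi : Odd (commutator H).index := Odd.of_dvd_nat hodd (Subgroup.index_dvd_card _)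
  have hne : (commutator H).index ≠ 1 := fun e => by
    have hlt : commutator H < ⊤ := Group.IsSolvable.commutator_lt_top_of_nontrivial H
    exact hlt.ne (Subgroup.index_eq_one.1 e)
  have h3 : 3 ≤ (commutator H).index := by
    obtain ⟨i, hi⟩ := hi
    omega
  have := Subgroup.card_mul_index (commutator H)
  nlinarith

theorem pow_eighteen {e : ℕ} (he : 27 ≤ e) : e ^ 18 ≤ 1080 * 7 ^ e := by
  induction e, he using Nat.le_induction with
  | base => norm_num
  | succ e he ih =>
    have h1 : (27 * (e + 1)) ^ 18 ≤ (28 * e) ^ 18 := Nat.pow_le_pow_left (by omega) 18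
    rw [mul_pow, mul_pow] at h1
    have h2 : (e + 1) ^ 18 * 27 ^ 18 ≤ 7 * e ^ 18 * 27 ^ 18 := by
      calc (e + 1) ^ 18 * 27 ^ 18 ≤ 28 ^ 18 * e ^ 18 := by rw [mul_comm]; exact h1
        _ ≤ (7 * 27 ^ 18) * e ^ 18 := Nat.mul_le_mul_right _ (by norm_num)
        _ = _ := by ring
    calc (e + 1) ^ 18 ≤ 7 * e ^ 18 := Nat.le_of_mul_le_mul_right h2 (by norm_num)
      _ ≤ 7 * (1080 * 7 ^ e) := Nat.mul_le_mul_left _ ih
      _ = 1080 * 7 ^ (e + 1) := by ring

end Cfsg.Agent.StabDL
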