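/-
Vector stabilisers in soluble linear groups, 13: chief factors seen by the derived subgroup, odd order.
-/
import Cfsg.Agent.Lib.StabDL.OddSmall
import Cfsg.Agent.Lib.OddBase.Prim

set_option autoImplicit false
set_option linter.style.haveILetI false
set_option linter.unusedSectionVars false
set_option maxHeartbeats 1000000

open scoped commutatorElement

namespace Cfsg.Agent.StabDL

open Cfsg.Agent.PrimSol Cfsg.Agent.OddBase

universe u v

section

variable {p : ℕ} [Fact p.Prime] {V : Type v} [AddCommGroup V] [Module (ZMod p) V] [Finite V] [Nontrivial V]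
variable {G : Type u} [Group G] [Finite G] {ρ : G →* Module.End (ZMod p) V} {A : Subgroup G}

/-- A chief factor above the abelian part, and how much of it the derived subgroup moves. -/
theorem odd_factor (h : Frame ρ A) (hp2 : p ≠ 2) (hodd : Odd (Nat.card G)) (hsol : Group.IsSolvable G)
    (hW : OrderBound.{u} (Nat.card V)) {S : Subgroup G} (hS : Lay ρ A S) (hSA : ¬ S ≤ A)
    (hmin : ∀ T : Subgroup G, T.Normal → A ≤ T → T ≤ S → T = A ∨ T = S) :
    ∃ (e y : ℕ) (K : Subgroup G), 5 ≤ e ∧ A.relIndex S = e ^ 2 ∧ K.Normal ∧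
      K.relIndex (A ⊔ commutator G) ≤ y ∧ (∀ g ∈ K, ∀ s ∈ S, ⁅g, s⁆ ∈ A) ∧
      (e ^ 2 * y) ^ 3 ≤ 5 * Nat.card ↥(alg ρ A) ^ e ∧
      (e ≤ 12 → y = 1 ∧ (e ^ 2) ^ 3 ≤ Nat.card ↥(alg ρ A) ^ e) ∧ 7 ≤ Nat.card ↥(alg ρ A) := by
  classical
  haveI := h.normal
  haveI := hS.normal
  set A' := A.subgroupOf S with hA'
  -- a prime exponent
  have h1 : A.relIndex S ≠ 1 := fun e => hSA (Subgroup.relIndex_eq_one.1 e)
  obtain ⟨q, hq, hqd⟩ := Nat.exists_prime_and_dvd h1
  haveI := Fact.mk hq
  have hQcomm : ∀ x y : ↥S ⧸ A', x * y = y * x := by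
    intro x y
    induction x using QuotientGroup.induction_on with
    | H a =>
      induction y using QuotientGroup.induction_on with
      | H b =>
        rw [← QuotientGroup.mk_mul, ← QuotientGroup.mk_mul, QuotientGroup.eq, Subgroup.mem_subgroupOf]
        have := hS.comm _ (b : ↥S)⁻¹.2 _ (a : ↥S)⁻¹.2
        simpa [commutatorElement_def, mul_inv_rev, mul_assoc] using this
  letI : CommGroup (↥S ⧸ A') := { (inferInstance : Group (↥S ⧸ A')) with mul_comm := hQcomm }
  have hexp : ∀ s ∈ S, s ^ q ∈ A := by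
    let T : Subgroup G :=
      { carrier := {x | x ∈ S ∧ x ^ q ∈ A}
        one_mem' := ⟨one_mem S, by rw [one_pow]; exact one_mem A⟩
        mul_mem' := fun {x y} hx hy => ⟨mul_mem hx.1 hy.1, by
          have e1 : ∀ z : ↥S, ((z : G) ^ q ∈ A ↔ (QuotientGroup.mk z : ↥S ⧸ A') ^ q = 1) := fun z => by
            rw [← QuotientGroup.mk_pow, QuotientGroup.eq_one_iff, Subgroup.mem_subgroupOf, SubgroupClass.coe_pow]
          have hx' := (e1 ⟨x, hx.1⟩).1 hx.2
          have hy' := (e1 ⟨y, hy.1⟩).1 hy.2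
          refine (e1 (⟨x, hx.1⟩ * ⟨y, hy.1⟩)).2 ?_
          rw [QuotientGroup.mk_mul, mul_pow, hx', hy', one_mul]⟩
        inv_mem' := fun {x} hx => ⟨inv_mem hx.1, by rw [inv_pow]; exact inv_mem hx.2⟩ }
    have hTn : T.Normal := ⟨fun x hx g => ⟨hS.normal.conj_mem x hx.1 g, by
      rw [conj_pow]; exact h.normal.conj_mem _ hx.2 g⟩⟩
    rcases hmin T hTn (fun a ha => ⟨hS.le ha, A.pow_mem ha q⟩) (fun x hx => hx.1) with hT | hT
    · exfalso
      obtain ⟨z, hz⟩ := exists_prime_orderOf_dvd_card' (G := ↥S ⧸ A') q hqd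
      obtain ⟨z, rfl⟩ := QuotientGroup.mk_surjective z
      have hzT : (z : G) ∈ T := ⟨z.2, by
        have := pow_orderOf_eq_one (QuotientGroup.mk z : ↥S ⧸ A')
        rwa [hz, ← QuotientGroup.mk_pow, QuotientGroup.eq_one_iff, Subgroup.mem_subgroupOf,
          SubgroupClass.coe_pow] at this⟩
      rw [hT] at hzT
      rw [(QuotientGroup.eq_one_iff z).2 hzT, orderOf_one] at hz
      exact hq.ne_one hz.symm
    · exact fun s hs => (hT.ge hs).2
  -- an element of order q in the field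
  obtain ⟨s, hs, hsA⟩ := SetLike.not_le_iff_exists.1 hSA
  obtain ⟨b, hb, hsb⟩ : ∃ b ∈ S, ⁅s, b⁆ ≠ 1 := by
    by_contra hcon
    push Not at hcon
    exact hsA (hS.cent ⟨hs, Subgroup.mem_centralizer_iff.2 fun b hb =>
      (commutatorElement_eq_one_iff_mul_comm.1 (hcon b hb)).symm⟩)
  have hlA := hS.comm s hs b hb
  have hl : orderOf ⁅s, b⁆ = q := by
    refine orderOf_eq_prime ?_ hsb
    rw [← comm_pow_of_central (Subgroup.mem_centralizer_iff.1 (hS.leC hs) _ hlA).symm]
    exact commutatorElement_eq_one_iff_mul_comm.2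
      (Subgroup.mem_centralizer_iff.1 (hS.leC hb) _ (hexp s hs))
  have hq2 : q ≠ 2 := by
    rintro rfl
    exact Nat.not_even_iff_odd.2 hodd (even_iff_two_dvd.2 (hl ▸ orderOf_dvd_natCard _))
  have hqP : q ∣ Nat.card ↥(alg ρ A) - 1 := by
    refine dvd_trans ?_ h.card_dvd
    rw [← hl, show orderOf ⁅s, b⁆ = orderOf (⟨_, hlA⟩ : A) from Subgroup.orderOf_coe ⟨_, hlA⟩]
    exact orderOf_dvd_natCard _
  obtain ⟨c, hc0, hP, -⟩ := h.card_alg
  have hP2 : 2 ≤ Nat.card ↥(alg ρ A) := by
    rw [hP]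
    exact (Fact.out : p.Prime).two_le.trans (Nat.le_self_pow hc0.ne' p)
  have hqle : q + 1 ≤ Nat.card ↥(alg ρ A) := by
    have := Nat.le_of_dvd (by omega) hqP
    omega
  -- the index is a square
  haveI := Fintype.ofFinite (Subgroup G)
  obtain ⟨L, hL, hLmax⟩ := Finset.exists_max_image
    (Finset.univ.filter fun L : Subgroup G => A ≤ L ∧ L ≤ S ∧ L ≤ Subgroup.centralizer (L : Set G))
    (fun L => Nat.card L) ⟨A, Finset.mem_filter.2 ⟨Finset.mem_univ _, le_rfl, hS.le, h.le_cent⟩⟩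
  obtain ⟨hAL, hLS, hLc⟩ := (Finset.mem_filter.1 hL).2
  have hCL : Subgroup.centralizer (L : Set G) ⊓ S = L := by
    refine le_antisymm (fun x hx => ?_) (le_inf hLc hLS)
    have h2 : L ⊔ Subgroup.zpowers x ≤ Subgroup.centralizer (L : Set G) :=
      sup_le hLc ((Subgroup.zpowers_le).2 hx.1)
    have h3 : L ⊔ Subgroup.zpowers x ≤ Subgroup.centralizer ((L ⊔ Subgroup.zpowers x : Subgroup G) : Set G) := by
      refine sup_le (Subgroup.le_centralizer_iff.1 h2) (Subgroup.le_centralizer_iff.1 (sup_le ?_ ?_))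
      · exact Subgroup.le_centralizer_iff.1 ((Subgroup.zpowers_le).2 hx.1)
      · exact Subgroup.zpowers_le.2 (Subgroup.mem_centralizer_iff.2 fun y hy => by
          obtain ⟨i, rfl⟩ := hy
          exact ((Commute.refl x).zpow_left i).eq)
    have h4 := Subgroup.eq_of_le_of_card_ge le_sup_left (hLmax (L ⊔ Subgroup.zpowers x)
      (Finset.mem_filter.2 ⟨Finset.mem_univ _, hAL.trans le_sup_left,
        sup_le hLS (Subgroup.zpowers_le.2 hx.2), h3⟩))
    exact h4 ▸ Subgroup.mem_sup_right (Subgroup.mem_zpowers x)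
  have hLn : (L.subgroupOf S).Normal := ⟨fun x hx g => by
    rw [Subgroup.mem_subgroupOf] at hx ⊢
    have := mul_mem (hAL (hS.comm _ g.2 _ (hLS hx))) hx
    simpa [commutatorElement_def] using this⟩
  have e1 : L.relIndex S ≤ A.relIndex L := by
    haveI : (A.subgroupOf L).Normal := inferInstance
    have := h.relIndex_le (X := S) (Y := L) (Y₀ := A) (hLS.trans hS.leC)
      (fun x hx y hy => hS.comm x hx y (hLS hy)) hS.leC
    rwa [← Subgroup.inf_relIndex_right, hCL] at this
  have e2 : A.relIndex L ≤ L.relIndex S := by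
    have h5 := h.relIndex_le (X := L) (Y := S) (Y₀ := L) hS.leC
      (fun x hx y hy => hS.comm x (hLS hx) y hy) hLc
    rwa [← Subgroup.inf_relIndex_right, show Subgroup.centralizer (S : Set G) ⊓ L = A from
      le_antisymm (fun x hx => hS.cent ⟨hLS hx.2, hx.1⟩)
        (fun a ha => ⟨((hS.inf_cent h).ge ha).2, hAL ha⟩)] at h5
  set e := A.relIndex L with he
  have hsq : A.relIndex S = e ^ 2 := by
    rw [← Subgroup.relIndex_mul_relIndex A L S hAL hLS, le_antisymm e1 e2, pow_two]
  -- the action on the factor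
  have hconj : ∀ g : G, A'.map (MulAut.conjNormal g : MulAut ↥S).toMonoidHom = A' := by
    intro g
    refine le_antisymm ?_ fun a ha => ?_
    · rintro _ ⟨a, ha, rfl⟩
      exact Subgroup.mem_subgroupOf.2 (by simpa using h.normal.conj_mem _ ha g)
    · refine ⟨(MulAut.conjNormal g : MulAut ↥S).symm a, ?_, (MulAut.conjNormal g : MulAut ↥S).apply_symm_apply a⟩
      exact Subgroup.mem_subgroupOf.2 (by simpa using h.normal.conj_mem _ ha g⁻¹)
  let φ : G →* MulAut (↥S ⧸ A') :=
    { toFun := fun g => QuotientGroup.congr A' A' (MulAut.conjNormal g : MulAut ↥S) (hconj g)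
      map_one' := MulEquiv.ext fun x => by
        induction x using QuotientGroup.induction_on with
        | H z =>
          show QuotientGroup.mk ((MulAut.conjNormal 1 : MulAut ↥S) z) = QuotientGroup.mk z
          rw [map_one]; rfl
      map_mul' := fun g k => MulEquiv.ext fun x => by
        induction x using QuotientGroup.induction_on with
        | H z =>
          show QuotientGroup.mk ((MulAut.conjNormal (g * k) : MulAut ↥S) z) =
            QuotientGroup.mk ((MulAut.conjNormal g : MulAut ↥S) ((MulAut.conjNormal k : MulAut ↥S) z))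
          rw [map_mul]; rfl }
  obtain ⟨k, ev, σ, hk0, hσ0⟩ := exists_linear q (fun x : ↥S ⧸ A' => by
    obtain ⟨z, rfl⟩ := QuotientGroup.mk_surjective x
    rw [← QuotientGroup.mk_pow, QuotientGroup.eq_one_iff, Subgroup.mem_subgroupOf, SubgroupClass.coe_pow]
    exact hexp z z.2) φ
  let mk : ↥S → (Fin k → ZMod q) := fun z => ev (Additive.ofMul (QuotientGroup.mk z : ↥S ⧸ A'))
  have hmk : ∀ v, ∃ z, mk z = v := fun v => by
    obtain ⟨z, hz⟩ := QuotientGroup.mk_surjective (ev.symm v).toMul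
    exact ⟨z, show ev (Additive.ofMul (QuotientGroup.mk z : ↥S ⧸ A')) = v by
      rw [hz, ofMul_toMul, AddEquiv.apply_symm_apply]⟩
  have hmk0 : ∀ z, mk z = 0 ↔ (z : G) ∈ A := fun z => by
    show ev _ = 0 ↔ _
    rw [map_eq_zero_iff _ ev.injective]
    exact (Iff.trans ⟨fun e0 => congrArg Additive.toMul e0, fun e0 => congrArg Additive.ofMul e0⟩
      (QuotientGroup.eq_one_iff z)).trans Subgroup.mem_subgroupOf
  have hmk1 : ∀ z z', mk (z * z') = mk z + mk z' := fun z z' => by
    show ev _ = ev _ + ev _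
    rw [← map_add, QuotientGroup.mk_mul, ofMul_mul]
  have hσ : ∀ (g : G) (z : ↥S), σ g (mk z) = mk ((MulAut.conjNormal g : MulAut ↥S) z) := fun g z =>
    hσ0 g (QuotientGroup.mk z)
  haveI : Nontrivial (Fin k → ZMod q) :=
    ⟨⟨mk ⟨s, hs⟩, 0, fun e0 => hsA ((hmk0 _).1 e0)⟩⟩
  have hirr : Irred σ := by
    intro W hW
    let T : Subgroup G :=
      { carrier := {x | ∃ hx : x ∈ S, mk ⟨x, hx⟩ ∈ W}
        one_mem' := ⟨one_mem S, by rw [(hmk0 _).2 (one_mem A)]; exact W.zero_mem⟩
        mul_mem' := fun {x y} ⟨hx, hx'⟩ ⟨hy, hy'⟩ => ⟨mul_mem hx hy, by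
          have := hmk1 ⟨x, hx⟩ ⟨y, hy⟩
          exact this ▸ W.add_mem hx' hy'⟩
        inv_mem' := fun {x} ⟨hx, hx'⟩ => ⟨inv_mem hx, by
          have h2 := hmk1 ⟨x, hx⟩ ⟨x⁻¹, inv_mem hx⟩
          have h3 : mk (⟨x, hx⟩ * ⟨x⁻¹, inv_mem hx⟩) = 0 := (hmk0 _).2 (by simp)
          rw [h3] at h2
          rw [eq_neg_of_add_eq_zero_right h2.symm]
          exact W.neg_mem hx'⟩ }
    have hTn : T.Normal := ⟨fun x hx g => by
      obtain ⟨hxS, hxW⟩ := hx
      refine ⟨hS.normal.conj_mem x hxS g, ?_⟩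
      have := hW g _ hxW
      rw [hσ] at this
      convert this using 3
      simp⟩
    have hAT : A ≤ T := fun a ha => ⟨hS.le ha, by rw [(hmk0 _).2 ha]; exact W.zero_mem⟩
    rcases hmin T hTn hAT (fun x hx => hx.1) with hT | hT
    · left
      refine (Submodule.eq_bot_iff W).2 fun x hx => ?_
      obtain ⟨z, rfl⟩ := hmk x
      have hzT : (z : G) ∈ T := ⟨z.2, hx⟩
      rw [hT] at hzT
      exact (hmk0 z).2 hzT
    · right
      refine Submodule.eq_top_iff'.2 fun x => ?_
      obtain ⟨z, rfl⟩ := hmk x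
      obtain ⟨_, hzW⟩ := hT.ge z.2
      exact hzW
  let σ' : G ⧸ σ.ker →* Module.End (ZMod q) (Fin k → ZMod q) := QuotientGroup.lift σ.ker σ le_rfl
  have hσ'i : Function.Injective σ' := by
    intro x y hxy
    obtain ⟨x, rfl⟩ := QuotientGroup.mk_surjective x
    obtain ⟨y, rfl⟩ := QuotientGroup.mk_surjective y
    refine QuotientGroup.eq.2 (MonoidHom.mem_ker.2 ?_)
    have hxy' : σ x = σ y := hxy
    rw [map_mul, ← hxy', ← map_mul, inv_mul_cancel, map_one]
  have hirr' : Irred σ' := fun W hW => hirr W fun g w hw => hW (QuotientGroup.mk g) w hw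
  haveI : Group.IsSolvable (G ⧸ σ.ker) := by haveI := hsol; infer_instance
  have hodd' : Odd (Nat.card (G ⧸ σ.ker)) := Odd.of_dvd_nat hodd (Subgroup.card_quotient_dvd_card _)
  set y := Nat.card (G ⧸ σ.ker) with hy
  have hcardM : Nat.card (Fin k → ZMod q) = e ^ 2 := by
    rw [← Nat.card_congr ev.toEquiv, Nat.card_congr Additive.toMul]
    exact hsq
  have hqk : q ^ k = e ^ 2 := by
    rw [← hk0]
    exact hsq
  obtain ⟨j, -, hj⟩ := (Nat.dvd_prime_pow hq).1 (hqk ▸ dvd_pow_self e two_ne_zero : e ∣ q ^ k)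
  have hkj : k = 2 * j := Nat.pow_right_injective hq.two_le (by
    show q ^ k = q ^ (2 * j)
    rw [hqk, hj, ← pow_mul, mul_comm])
  have hj1 : 1 ≤ j := by
    have : 0 < k := Nat.pos_of_ne_zero fun hk => by
      subst hk
      exact (not_nontrivial_iff_subsingleton.2 (inferInstance : Subsingleton (Fin 0 → ZMod q))) inferInstance
    omega
  obtain ⟨m, -, hT, hm⟩ := h.relIndex_le_sq hS
  have hem : e ≤ m := (Nat.pow_le_pow_iff_left two_ne_zero).1 (hsq ▸ hm)
  obtain ⟨hs3, hs5, hs7, hs39⟩ := small_bound σ' hσ'i hirr' hodd' inferInstance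
  rw [Module.finrank_fin_fun] at hs3 hs5 hs7 hs39
  have hP4 : 4 ≤ Nat.card ↥(alg ρ A) := by
    have := hq.two_le
    omega
  have hybound : 2 * y ≤ (e ^ 2) ^ 2 := by
    rw [← hcardM]
    refine hW.apply σ' hodd' hσ'i hirr' ?_
    rw [hcardM, hT]
    calc e ^ 2 < 4 ^ e := by
          have h6 : e < 2 ^ e := Nat.lt_two_pow_self
          rw [show (4 : ℕ) = 2 ^ 2 from rfl, ← pow_mul, mul_comm, pow_mul]
          exact Nat.pow_lt_pow_left h6 two_ne_zero
      _ ≤ Nat.card ↥(alg ρ A) ^ e := Nat.pow_le_pow_left hP4 e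
      _ ≤ Nat.card ↥(alg ρ A) ^ m := Nat.pow_le_pow_right (by omega) hem
  -- the field has odd order
  have hPodd : Odd (Nat.card ↥(alg ρ A)) := hP ▸ ((Fact.out : p.Prime).odd_of_ne_two hp2).pow
  have h2q : 2 * q + 1 ≤ Nat.card ↥(alg ρ A) := by
    have h2 : 2 ∣ Nat.card ↥(alg ρ A) - 1 := by
      obtain ⟨i, hi⟩ := hPodd
      omega
    have h3 := Nat.Coprime.mul_dvd_of_dvd_of_dvd
      ((Nat.coprime_primes Nat.prime_two hq).2 (Ne.symm hq2)) h2 hqP
    have := Nat.le_of_dvd (by omega) h3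
    omega
  have hq3 : 3 ≤ q := by have := hq.two_le; omega
  set π := QuotientGroup.mk' σ.ker with hπ
  set y' := Nat.card (commutator (G ⧸ σ.ker)) with hy'
  have hAK : A ≤ σ.ker := fun a ha => MonoidHom.mem_ker.2 (LinearMap.ext fun v => by
    obtain ⟨z, rfl⟩ := hmk v
    rw [hσ, Module.End.one_apply]
    congr 1
    refine Subtype.ext ?_
    rw [MulAut.conjNormal_apply, Subgroup.mem_centralizer_iff.1 (hS.leC z.2) a ha, mul_inv_cancel_right])
  have hrel : σ.ker.relIndex (A ⊔ commutator G) = y' := by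
    have h1 : (A ⊔ commutator G).map π = commutator (G ⧸ σ.ker) := by
      rw [Subgroup.map_sup, (Subgroup.map_eq_bot_iff A).2 (by rw [hπ, QuotientGroup.ker_mk']; exact hAK), bot_sup_eq,
        commutator_def, commutator_def, Subgroup.map_commutator,
        Subgroup.map_top_of_surjective _ (QuotientGroup.mk'_surjective _)]
    rw [hy', ← h1, ← Subgroup.relIndex_ker, hπ, QuotientGroup.ker_mk']
  have hKS : ∀ g ∈ σ.ker, ∀ t ∈ S, ⁅g, t⁆ ∈ A := fun g hg t ht => by
    have h7 := LinearMap.congr_fun (MonoidHom.mem_ker.1 hg) (mk ⟨t, ht⟩)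
    rw [hσ, Module.End.one_apply] at h7
    have h8 : (QuotientGroup.mk ((MulAut.conjNormal g : MulAut ↥S) ⟨t, ht⟩) : ↥S ⧸ A') =
        QuotientGroup.mk ⟨t, ht⟩ := Additive.ofMul.injective (ev.injective h7)
    rw [QuotientGroup.eq, Subgroup.mem_subgroupOf] at h8
    have h9 := h.normal.conj_mem _ (inv_mem h8) t
    simpa [commutatorElement_def, mul_assoc] using h9
  by_cases hsmall : j = 1 ∨ (q = 3 ∧ j = 2)
  · -- an abelian action
    haveI : Module.Finite (ZMod q) (Fin k → ZMod q) := inferInstance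
    have hab := odd_comm (H := ULift.{u} (G ⧸ σ.ker)) (W := ULift.{u} (Fin k → ZMod q))
      ({ toFun := fun x => (ULift.moduleEquiv (R := ZMod q) (M := Fin k → ZMod q)).symm.toLinearMap ∘ₗ σ' x.down ∘ₗ
          (ULift.moduleEquiv (R := ZMod q) (M := Fin k → ZMod q)).toLinearMap
         map_one' := LinearMap.ext fun z => by simp
         map_mul' := fun a b => LinearMap.ext fun z => by simp } :
        ULift.{u} (G ⧸ σ.ker) →* Module.End (ZMod q) (ULift.{u} (Fin k → ZMod q)))
      (fun a b e => ULift.down_injective (hσ'i (LinearMap.ext fun z => by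
        simpa using congrArg ULift.down (LinearMap.congr_fun e (ULift.up z)))))
      (fun W hW' => by
        rcases hirr' (W.comap (ULift.moduleEquiv (R := ZMod q) (M := Fin k → ZMod q)).symm.toLinearMap)
          (fun g w hw => hW' (ULift.up g) (ULift.up w) hw) with h0 | h0
        · left
          refine (Submodule.eq_bot_iff W).2 fun z hz => ?_
          have h1 : z.down ∈ (⊥ : Submodule (ZMod q) (Fin k → ZMod q)) := h0 ▸ (show z ∈ W from hz)
          exact ULift.down_injective ((Submodule.mem_bot _).1 h1)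
        · right
          refine Submodule.eq_top_iff'.2 fun z => ?_
          have h1 : z.down ∈ W.comap (ULift.moduleEquiv (R := ZMod q) (M := Fin k → ZMod q)).symm.toLinearMap :=
            h0 ▸ Submodule.mem_top
          exact h1)
      (by rw [Nat.card_congr Equiv.ulift]; exact hodd')
      (Group.isSolvable_of_surjective (f := (MulEquiv.ulift.{u} (α := G ⧸ σ.ker)).symm.toMonoidHom)
        (MulEquiv.surjective _))
      (n := k) (by rw [LinearEquiv.finrank_eq ULift.moduleEquiv, Module.finrank_fin_fun])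
      (by rcases hsmall with rfl | ⟨rfl, rfl⟩ <;> [left; right] <;> omega)
    have hy1 : y' = 1 := by
      rw [hy', commutator_def, Subgroup.card_eq_one, Subgroup.commutator_eq_bot_iff_le_centralizer]
      exact fun a _ b _ => congrArg ULift.down (hab (ULift.up b) (ULift.up a))
    have h7 : 7 ≤ Nat.card ↥(alg ρ A) := by omega
    have hb : (e ^ 2) ^ 3 ≤ Nat.card ↥(alg ρ A) ^ e := by
      rcases hsmall with rfl | ⟨rfl, rfl⟩
      · rw [pow_one] at hj
        have hq3' : q ≠ 3 := fun h' => hs3 h' (by omega)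
        have hq4 : q ≠ 4 := fun h' => absurd (h' ▸ hq) (by norm_num)
        rcases (show e = 5 ∨ 6 ≤ e by omega) with he5 | he6
        · calc (e ^ 2) ^ 3 ≤ 11 ^ 5 := by rw [he5]; norm_num
            _ ≤ _ := he5 ▸ Nat.pow_le_pow_left (by omega) _
        · calc (e ^ 2) ^ 3 = e ^ 6 := by ring
            _ ≤ Nat.card ↥(alg ρ A) ^ 6 := Nat.pow_le_pow_left (by omega) 6
            _ ≤ _ := Nat.pow_le_pow_right (by omega) he6
      · rw [hj]
        calc ((3 ^ 2) ^ 2) ^ 3 ≤ 7 ^ (3 ^ 2) := by norm_num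
          _ ≤ _ := Nat.pow_le_pow_left h7 _
    have he5 : 5 ≤ e := by
      rcases hsmall with rfl | ⟨rfl, rfl⟩
      · rw [pow_one] at hj
        have hq3' : q ≠ 3 := fun h' => hs3 h' (by omega)
        have hq4 : q ≠ 4 := fun h' => absurd (h' ▸ hq) (by norm_num)
        omega
      · rw [hj]; norm_num
    refine ⟨e, 1, σ.ker, he5, hsq, inferInstance, by rw [hrel, hy1], hKS, ?_, fun _ => ⟨rfl, hb⟩, h7⟩
    rw [mul_one]
    omega
  · -- a large factor
    have he25 : 25 ≤ e ∧ (e < 27 → 5 ≤ q) := by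
      rcases (show q = 3 ∨ 5 ≤ q by
        have : q ≠ 4 := fun h' => absurd (h' ▸ hq) (by norm_num)
        omega) with h3 | h5
      · have : 27 ≤ e := by
          rw [hj, h3]
          exact (show 27 = 3 ^ 3 by norm_num).le.trans (Nat.pow_le_pow_right (by norm_num) (by omega))
        omega
      · refine ⟨?_, fun _ => h5⟩
        rw [hj]
        calc 25 = 5 ^ 2 := by norm_num
          _ ≤ q ^ 2 := Nat.pow_le_pow_left h5 2
          _ ≤ q ^ j := Nat.pow_le_pow_right hq.pos (by omega)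
    have he4 : 6 ≤ e ^ 4 := le_trans (by omega) (Nat.le_self_pow (by norm_num) e)
    have hy6 : 6 * y' ≤ e ^ 4 :=
      six_mul_commutator inferInstance hodd' (by rw [show e ^ 4 = (e ^ 2) ^ 2 by ring]; exact hybound) he4
    refine ⟨e, y', σ.ker, by omega, hsq, inferInstance, hrel.le, hKS, ?_, fun h' => absurd h' (by omega), by omega⟩
    have h1 : 216 * (e ^ 2 * y') ^ 3 ≤ e ^ 18 := by
      calc 216 * (e ^ 2 * y') ^ 3 = e ^ 6 * (6 * y') ^ 3 := by ring
        _ ≤ e ^ 6 * (e ^ 4) ^ 3 := Nat.mul_le_mul_left _ (Nat.pow_le_pow_left hy6 3)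
        _ = e ^ 18 := by ring
    have h2 : e ^ 18 ≤ 1080 * Nat.card ↥(alg ρ A) ^ e := by
      rcases (show 27 ≤ e ∨ e < 27 by omega) with h27 | h27
      · exact (pow_eighteen h27).trans (Nat.mul_le_mul_left _ (Nat.pow_le_pow_left (by omega) e))
      · calc e ^ 18 ≤ 26 ^ 18 := Nat.pow_le_pow_left (by omega) 18
          _ ≤ 1080 * 11 ^ 25 := by norm_num
          _ ≤ 1080 * Nat.card ↥(alg ρ A) ^ 25 :=
            Nat.mul_le_mul_left _ (Nat.pow_le_pow_left (by have := he25.2 h27; omega) _)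
          _ ≤ _ := Nat.mul_le_mul_left _ (Nat.pow_le_pow_right (by omega) he25.1)
    omega

end

end Cfsg.Agent.StabDL
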