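/-
Vector stabilisers in soluble linear groups, 14: the layers of the derived subgroup, odd order.
-/
import Cfsg.Agent.Lib.StabDL.OddFactor

set_option autoImplicit false
set_option linter.style.haveILetI false
set_option linter.unusedSectionVars false
set_option maxHeartbeats 1000000

open scoped commutatorElement

namespace Cfsg.Agent.StabDL

open Cfsg.Agent.PrimSol Cfsg.Agent.OddBase

universe u v

section

variable {p : ℕ} [Fact p.Prime] {V : Type v} [AddCommGroup V] [Module (ZMod p) V] [Finite V] [Nontrivial V]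
variable {G : Type u} [Group G] [Finite G] {ρ : G →* Module.End (ZMod p) V} {A : Subgroup G}

/-- The layer of a normal subgroup inside the derived subgroup and the abelian part. -/
theorem odd_layers (h : Frame ρ A) (hp2 : p ≠ 2) (hodd : Odd (Nat.card G)) (hsol : Group.IsSolvable G)
    (hW : OrderBound.{u} (Nat.card V)) (D : Subgroup G) (hDn : D.Normal)
    (hAD : A ≤ D) (hDA : ¬ D ≤ A) (hDG : D ≤ A ⊔ commutator G) (hDC : D ≤ Subgroup.centralizer (A : Set G)) :
    ∃ B e, Lay ρ A B ∧ B ≤ D ∧ D ⊓ Subgroup.centralizer (B : Set G) ≤ A ∧ 5 ≤ e ∧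
      A.relIndex B = e ^ 2 ∧ (A.relIndex D) ^ 3 ≤ 5 * Nat.card ↥(alg ρ A) ^ e ∧
      (e ≤ 12 → A.relIndex D ≤ e ^ 2 ∧ (A.relIndex D) ^ 3 ≤ Nat.card ↥(alg ρ A) ^ e) ∧
      7 ≤ Nat.card ↥(alg ρ A) := by
  classical
  induction hn : Nat.card D using Nat.strong_induction_on generalizing D with
  | _ n ih =>
  haveI := h.normal
  haveI := hDn
  obtain ⟨S, hS, hSD, hSA, hmin⟩ := h.exists_min_lay hsol hDn hAD hDA hDC
  haveI := hS.normal
  obtain ⟨e, y, K, he5, he, hKn, hKy, hK, hb, hsm, hP7⟩ := odd_factor h hp2 hodd hsol hW hS hSA hmin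
  set D₀ := D ⊓ Subgroup.centralizer (S : Set G) with hD₀
  haveI : D₀.Normal := inferInstance
  have hAD0 : A ≤ D₀ := le_inf hAD fun a ha => ((hS.inf_cent h).ge ha).2
  have hSD0 : S ⊓ D₀ = A :=
    le_antisymm (fun x hx => hS.cent ⟨hx.1, hx.2.2⟩) (le_inf hS.le hAD0)
  -- the kernel
  have hKD : K ⊓ D ≤ S ⊔ D₀ := by
    intro g hg
    have h1 := h.inner hS (hDC hg.2) (hK g hg.1)
    obtain ⟨s, hs, z, hz, rfl⟩ := Subgroup.mem_sup_of_normal_left.1 h1
    refine Subgroup.mul_mem_sup hs ⟨?_, hz.2⟩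
    have := mul_mem (inv_mem (hSD hs)) hg.2
    rwa [inv_mul_cancel_left] at this
  have hN : A.relIndex D ≤ (e ^ 2 * y) * A.relIndex D₀ := by
    rw [← Subgroup.relIndex_mul_relIndex A (S ⊔ D₀) D (hS.le.trans le_sup_left) (sup_le hSD inf_le_left)]
    have h1 : A.relIndex (S ⊔ D₀) = A.relIndex D₀ * e ^ 2 := by
      rw [← Subgroup.relIndex_mul_relIndex A D₀ (S ⊔ D₀) hAD0 le_sup_right, Subgroup.relIndex_sup_right,
        ← Subgroup.inf_relIndex_right D₀ S, inf_comm, hSD0, he]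
    have h2 : (S ⊔ D₀).relIndex D ≤ y := by
      haveI := hKn
      refine le_trans ?_ hKy
      refine le_trans (Nat.le_of_dvd (relIndex_pos _ _) (Subgroup.relIndex_dvd_of_le_left D hKD)) ?_
      rw [Subgroup.inf_relIndex_right]
      exact Subgroup.relIndex_le_of_le_right hDG Subgroup.index_ne_zero_of_finite
    rw [h1]
    calc A.relIndex D₀ * e ^ 2 * (S ⊔ D₀).relIndex D ≤ A.relIndex D₀ * e ^ 2 * y :=
          Nat.mul_le_mul_left _ h2
      _ = _ := by ring
  by_cases h0 : D₀ ≤ A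
  · rw [Subgroup.relIndex_eq_one.2 h0, mul_one] at hN
    refine ⟨S, e, hS, hSD, h0, he5, he, (Nat.pow_le_pow_left hN 3).trans hb, fun he12 => ?_, hP7⟩
    obtain ⟨rfl, hb'⟩ := hsm he12
    rw [mul_one] at hN
    exact ⟨hN, (Nat.pow_le_pow_left hN 3).trans hb'⟩
  have hlt : Nat.card D₀ < n := by
    subst hn
    refine lt_of_le_of_ne (Subgroup.card_le_of_le inf_le_left) fun heq => hSA fun s hs => ?_
    have h1 := Subgroup.eq_of_le_of_card_ge (inf_le_left : D₀ ≤ D) heq.ge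
    exact hS.cent ⟨hs, (h1.ge (hSD hs)).2⟩
  obtain ⟨B', e', hB', hB'D, hB'c, he5', he', hb', -, -⟩ :=
    ih _ hlt D₀ inferInstance hAD0 h0 (inf_le_left.trans hDG) (inf_le_left.trans hDC) rfl
  haveI := hB'.normal
  have hcross : ∀ s ∈ S, ∀ z ∈ B', s * z = z * s := fun s hs z hz =>
    Subgroup.mem_centralizer_iff.1 (hB'D hz).2 s hs
  refine ⟨S ⊔ B', e * e', ⟨inferInstance, hS.le.trans le_sup_left, sup_le hS.leC hB'.leC, ?_, ?_⟩,
    sup_le hSD (hB'D.trans inf_le_left), ?_, by nlinarith, ?_, ?_, fun h12 => absurd h12 (by nlinarith), hP7⟩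
  · intro x hx x' hx'
    obtain ⟨a, ha, z, hz, rfl⟩ := Subgroup.mem_sup_of_normal_left.1 hx
    obtain ⟨a', ha', z', hz', rfl⟩ := Subgroup.mem_sup_of_normal_left.1 hx'
    rw [← QuotientGroup.eq_one_iff (N := A)]
    have c1 : ∀ u ∈ S, ∀ w ∈ S, (QuotientGroup.mk u : G ⧸ A) * QuotientGroup.mk w = QuotientGroup.mk w * QuotientGroup.mk u := by
      intro u hu w hw
      have := (QuotientGroup.eq_one_iff (N := A) _).2 (hS.comm u hu w hw)
      rwa [← QuotientGroup.mk'_apply, map_commutatorElement, commutatorElement_eq_one_iff_mul_comm] at this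
    have c2 : ∀ u ∈ B', ∀ w ∈ B', (QuotientGroup.mk u : G ⧸ A) * QuotientGroup.mk w = QuotientGroup.mk w * QuotientGroup.mk u := by
      intro u hu w hw
      have := (QuotientGroup.eq_one_iff (N := A) _).2 (hB'.comm u hu w hw)
      rwa [← QuotientGroup.mk'_apply, map_commutatorElement, commutatorElement_eq_one_iff_mul_comm] at this
    have c3 : ∀ u ∈ S, ∀ w ∈ B', (QuotientGroup.mk u : G ⧸ A) * QuotientGroup.mk w = QuotientGroup.mk w * QuotientGroup.mk u :=
      fun u hu w hw => by rw [← QuotientGroup.mk_mul, ← QuotientGroup.mk_mul, hcross u hu w hw]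
    rw [← QuotientGroup.mk'_apply, map_commutatorElement, commutatorElement_eq_one_iff_mul_comm, map_mul, map_mul]
    have C : ∀ {u w : G}, (QuotientGroup.mk u : G ⧸ A) * QuotientGroup.mk w = QuotientGroup.mk w * QuotientGroup.mk u →
        Commute (QuotientGroup.mk' A u) (QuotientGroup.mk' A w) := fun e => e
    exact Commute.mul_left ((C (c1 a ha a' ha')).mul_right (C (c3 a ha z' hz')))
      ((C (c3 a' ha' z hz).symm).mul_right (C (c2 z hz z' hz')))
  · rintro x ⟨hx, hxc⟩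
    obtain ⟨a, ha, z, hz, rfl⟩ := Subgroup.mem_sup_of_normal_left.1 hx
    have hzS : z ∈ Subgroup.centralizer (S : Set G) := (hB'D hz).2
    have hxS : a * z ∈ Subgroup.centralizer (S : Set G) :=
      Subgroup.centralizer_le (SetLike.coe_subset_coe.2 le_sup_left) hxc
    have haA : a ∈ A := hS.cent ⟨ha, by simpa using mul_mem hxS (inv_mem hzS)⟩
    refine hB'.cent ⟨mul_mem (hB'.le haA) hz, ?_⟩
    exact Subgroup.centralizer_le (SetLike.coe_subset_coe.2 le_sup_right) hxc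
  · rintro x ⟨hxD, hxc⟩
    exact hB'c ⟨⟨hxD, Subgroup.centralizer_le (SetLike.coe_subset_coe.2 le_sup_left) hxc⟩,
      Subgroup.centralizer_le (SetLike.coe_subset_coe.2 le_sup_right) hxc⟩
  · rw [← Subgroup.relIndex_mul_relIndex A B' (S ⊔ B') hB'.le le_sup_right, Subgroup.relIndex_sup_right,
      ← Subgroup.inf_relIndex_right B' S, show B' ⊓ S = A from le_antisymm
        (fun x hx => hSD0.le ⟨hx.2, hB'D hx.1⟩) (le_inf hB'.le hS.le), he, he']
    ring
  · calc A.relIndex D ^ 3 ≤ (e ^ 2 * y * A.relIndex D₀) ^ 3 := Nat.pow_le_pow_left hN 3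
      _ = (e ^ 2 * y) ^ 3 * A.relIndex D₀ ^ 3 := by ring
      _ ≤ 5 * Nat.card ↥(alg ρ A) ^ e * (5 * Nat.card ↥(alg ρ A) ^ e') := Nat.mul_le_mul hb hb'
      _ = 5 * (5 * Nat.card ↥(alg ρ A) ^ (e + e')) := by rw [pow_add]; ring
      _ ≤ 5 * Nat.card ↥(alg ρ A) ^ (e + e' + 1) := by
          rw [pow_succ' _ (e + e')]
          exact Nat.mul_le_mul_left _ (Nat.mul_le_mul_right _ (by omega))
      _ ≤ 5 * Nat.card ↥(alg ρ A) ^ (e * e') :=
          Nat.mul_le_mul_left _ (Nat.pow_le_pow_right (by omega) (by nlinarith))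

end

end Cfsg.Agent.StabDL
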