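/-
Vector stabilisers in soluble linear groups, 15: primitive groups of odd order.
-/
import Cfsg.Agent.Lib.StabDL.OddLayers
import Cfsg.Agent.Lib.StabDL.Stab
import Cfsg.Agent.Lib.OddBase.Main

set_option autoImplicit false
set_option linter.style.haveILetI false
set_option linter.unusedSectionVars false
set_option maxHeartbeats 1000000

open scoped commutatorElement

namespace Cfsg.Agent.StabDL

open Cfsg.Agent.PrimSol Cfsg.Agent.OddBase

universe u v

theorem count_odd {N A P T X Q m e : ℕ} (hP : 7 ≤ P) (hA : 2 * A ≤ P) (hT : T = P ^ m) (he5 : 5 ≤ e) (hem : e ≤ m)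
    (hX : X ^ 2 ≤ T) (hQ : Q ^ 3 ≤ T ^ 2) (hN : N ^ 3 ≤ 5 * P ^ e)
    (hsm : e ≤ 12 → N ≤ e ^ 2 ∧ N ^ 3 ≤ P ^ e) : N * (A * X + Q) + 2 < 2 * T := by
  have hPe : P ^ e ≤ T := hT ▸ Nat.pow_le_pow_right (by omega) hem
  have hbig : 16807 ≤ T := le_trans (le_trans (by norm_num) (Nat.pow_le_pow_left hP 5))
    (hT ▸ Nat.pow_le_pow_right (by omega) (he5.trans hem))
  rw [Nat.mul_add]
  rcases Nat.lt_or_ge 12 e with h12 | h12
  · have h1 : 4 * (N * Q) ≤ 7 * T := (Nat.pow_le_pow_iff_left (n := 3) (by norm_num)).1 (by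
      calc (4 * (N * Q)) ^ 3 = 64 * (N ^ 3 * Q ^ 3) := by ring
        _ ≤ 64 * (5 * T * T ^ 2) := Nat.mul_le_mul_left _ (Nat.mul_le_mul (hN.trans (Nat.mul_le_mul_left _ hPe)) hQ)
        _ = 320 * T ^ 3 := by ring
        _ ≤ 343 * T ^ 3 := Nat.mul_le_mul_right _ (by norm_num)
        _ = (7 * T) ^ 3 := by ring)
    have h2 : 8 * (N * (A * X)) ≤ T := (Nat.pow_le_pow_iff_left (n := 6) (by norm_num)).1 (by
      calc (8 * (N * (A * X))) ^ 6 = 4096 * ((N ^ 3) ^ 2 * ((2 * A) ^ 6 * (X ^ 2) ^ 3)) := by ring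
        _ ≤ 4096 * ((5 * T) ^ 2 * (P ^ 6 * T ^ 3)) := Nat.mul_le_mul_left _ (Nat.mul_le_mul
            (Nat.pow_le_pow_left (hN.trans (Nat.mul_le_mul_left _ hPe)) 2)
            (Nat.mul_le_mul (Nat.pow_le_pow_left hA 6) (Nat.pow_le_pow_left hX 3)))
        _ = (102400 * P ^ 6) * T ^ 5 := by ring
        _ ≤ (P ^ 7 * P ^ 6) * T ^ 5 := Nat.mul_le_mul_right _ (Nat.mul_le_mul_right _
            (le_trans (by norm_num) (Nat.pow_le_pow_left hP 7)))
        _ ≤ T * T ^ 5 := Nat.mul_le_mul_right _ (by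
            rw [hT, ← pow_add]; exact Nat.pow_le_pow_right (by omega) (by omega))
        _ = T ^ 6 := by ring)
    omega
  · obtain ⟨hNe, hN3⟩ := hsm h12
    have h1 : N * Q ≤ T := (Nat.pow_le_pow_iff_left (n := 3) (by norm_num)).1 (by
      calc (N * Q) ^ 3 = N ^ 3 * Q ^ 3 := by ring
        _ ≤ T * T ^ 2 := Nat.mul_le_mul (hN3.trans hPe) hQ
        _ = T ^ 3 := by ring)
    have hk : e ^ 4 ≤ 3 * P ^ (e - 2) :=
      le_trans (by interval_cases e <;> norm_num) (Nat.mul_le_mul_left 3 (Nat.pow_le_pow_left hP _))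
    have h2 : 8 * (N * (A * X)) ≤ 7 * T := (Nat.pow_le_pow_iff_left (n := 2) (by norm_num)).1 (by
      calc (8 * (N * (A * X))) ^ 2 = 16 * (N ^ 2 * (2 * A) ^ 2 * X ^ 2) := by ring
        _ ≤ 16 * ((e ^ 2) ^ 2 * P ^ 2 * T) := Nat.mul_le_mul_left _ (Nat.mul_le_mul
            (Nat.mul_le_mul (Nat.pow_le_pow_left hNe 2) (Nat.pow_le_pow_left hA 2)) hX)
        _ = 16 * (e ^ 4 * P ^ 2 * T) := by ring
        _ ≤ 16 * (3 * P ^ (e - 2) * P ^ 2 * T) :=
            Nat.mul_le_mul_left _ (Nat.mul_le_mul_right _ (Nat.mul_le_mul_right _ hk))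
        _ = 48 * (P ^ (e - 2 + 2) * T) := by rw [pow_add]; ring
        _ ≤ 49 * (T * T) := Nat.mul_le_mul (by norm_num) (Nat.mul_le_mul_right _ (by
            rwa [Nat.sub_add_cancel (by omega)]))
        _ = (7 * T) ^ 2 := by ring)
    omega

section

variable {p : ℕ} [Fact p.Prime] {V : Type v} [AddCommGroup V] [Module (ZMod p) V] [Finite V] [Nontrivial V]
  {G : Type u} [Group G] [Finite G] {ρ : G →* Module.End (ZMod p) V} {A : Subgroup G}

/-- Fixed spaces above a layer. -/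
theorem fix_above (h : Frame ρ A) (hodd : Odd (Nat.card G)) {B D : Subgroup G} (hB : Lay ρ A B) (hBD : B ≤ D)
    (hDC : D ≤ Subgroup.centralizer (A : Set G)) (hDB : D ⊓ Subgroup.centralizer (B : Set G) ≤ A) {g : G}
    (hg : g ∈ D) (hgA : g ∉ A) :
    3 * Module.finrank (ZMod p) (fix ρ g) ≤ 2 * Module.finrank (ZMod p) V := by
  haveI := hB.normal
  by_cases hgB : g ∈ B
  · have := h.fix_layer hodd hB hgB hgA
    omega
  obtain ⟨b, hb, hne⟩ : ∃ b ∈ B, ⁅g, b⁆ ∉ A := by
    by_contra hcon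
    push Not at hcon
    obtain ⟨s, hs, z, hz, rfl⟩ := Subgroup.mem_sup_of_normal_left.1 (h.inner hB (hDC hg) hcon)
    have hzD : z ∈ D := by
      have := mul_mem (inv_mem (hBD hs)) hg
      rwa [inv_mul_cancel_left] at this
    exact hgB (mul_mem hs (hB.le (hDB ⟨hzD, hz.2⟩)))
  have hyB : ⁅g, b⁆ ∈ B := by
    rw [commutatorElement_def]
    exact mul_mem (hB.normal.conj_mem b hb g) (inv_mem hb)
  have h1 := h.fix_layer hodd hB hyB hne
  have h2 := finrank_fix_commutator ρ g b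
  omega

end

variable {p : ℕ} [Fact p.Prime] {V : Type u} [AddCommGroup V] [Module (ZMod p) V] [Finite V] [Nontrivial V]
  {G : Type u} [Group G] [Finite G] {ρ : G →* Module.End (ZMod p) V}

/-- A nonzero vector with abelian stabiliser, primitive odd case. -/
theorem odd_primitive (hρ : Function.Injective ρ) (hirr : Irred ρ) (hprim : NoDecomp ρ)
    (hsol : Group.IsSolvable G) (hodd : Odd (Nat.card G)) (hp2 : p ≠ 2) :
    ∃ v : V, v ≠ 0 ∧ DL (stab ρ v) 1 := by
  classical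
  haveI : Fintype V := Fintype.ofFinite V
  haveI : Fintype G := Fintype.ofFinite G
  haveI : Finite (Module.End (ZMod p) V) := Finite.of_injective _ DFunLike.coe_injective
  obtain ⟨A, h⟩ := exists_frame ρ hρ hirr hprim
  haveI := h.normal
  set D := A ⊔ commutator G with hD
  haveI : D.Normal := inferInstance
  have hGC : derivedSeries G 1 ≤ Subgroup.centralizer (A : Set G) :=
    commutator_le_of_comm _ (comm_mod_cent hρ hirr hprim (A := A) h.comm)
  have hDC : D ≤ Subgroup.centralizer (A : Set G) := sup_le h.le_cent (derivedSeries_one G ▸ hGC)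
  suffices key : ∃ v : V, v ≠ 0 ∧ ∀ g ∈ D, ρ g v = v → g = 1 by
    obtain ⟨v, hv, hreg⟩ := key
    refine ⟨v, hv, (Subgroup.eq_bot_iff_forall _).2 fun x hx => Subtype.ext (hreg x ?_ x.2)⟩
    have h1 : (x : G) ∈ derivedSeries G 1 :=
      map_derivedSeries_le_derivedSeries (stab ρ v).subtype 1 ⟨x, hx, rfl⟩
    exact (le_sup_right : commutator G ≤ D) (derivedSeries_one G ▸ h1)
  have hfpf : ∀ g ∈ A, g ≠ 1 → ∀ v : V, ρ g v = v → v = 0 := fun g hg hg1 v hv => by
    have h1 : v ∈ fix ρ g := (mem_fix ρ).2 hv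
    rwa [h.fpf hg hg1, Submodule.mem_bot] at h1
  by_cases hDA : D ≤ A
  · obtain ⟨v, hv⟩ := exists_ne (0 : V)
    exact ⟨v, hv, fun g hg hgv => by_contra fun hg1 => hv (hfpf g (hDA hg) hg1 v hgv)⟩
  obtain ⟨B, e, hB, hBD, hDB, he5, hAB, hN, hsm, hP7⟩ := odd_layers h hp2 hodd hsol
    (pairsBound (Nat.card V)).orderBound D inferInstance le_sup_left hDA le_rfl hDC
  obtain ⟨m, -, hTm, hm⟩ := h.relIndex_le_sq hB
  have hem : e ≤ m := (Nat.pow_le_pow_iff_left two_ne_zero).1 (hAB ▸ hm)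
  obtain ⟨c, hc0, hPc, -⟩ := h.card_alg
  set P := Nat.card ↥(alg ρ A) with hPdef
  have hPodd : Odd P := hPc ▸ ((Fact.out : p.Prime).odd_of_ne_two hp2).pow
  have hA2 : 2 * Nat.card A ≤ P := by
    have h2 : 2 ∣ P - 1 := by obtain ⟨i, hi⟩ := hPodd; omega
    have hAodd : Odd (Nat.card A) := Odd.of_dvd_nat hodd (Subgroup.card_subgroup_dvd_card A)
    have h3 : Nat.card A * 2 ∣ P - 1 :=
      Nat.Coprime.mul_dvd_of_dvd_of_dvd (Nat.coprime_two_right.2 hAodd) h.card_dvd h2
    have := Nat.le_of_dvd (by omega) h3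
    omega
  set d := Module.finrank (ZMod p) V with hd
  have hp : 1 < p := (Fact.out : p.Prime).one_lt
  have hT : Nat.card V = p ^ d := by rw [Module.natCard_eq_pow_finrank (K := ZMod p), Nat.card_zmod]
  set X := p ^ (d / 2) with hX
  set Q := p ^ (2 * d / 3) with hQ
  have hX2 : X ^ 2 ≤ Nat.card V := by
    rw [hT, hX, ← pow_mul]; exact Nat.pow_le_pow_right (by omega) (by omega)
  have hQ3 : Q ^ 3 ≤ Nat.card V ^ 2 := by
    rw [hT, hQ, ← pow_mul, ← pow_mul]; exact Nat.pow_le_pow_right (by omega) (by omega)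
  let fx : G → Finset V := fun g => Finset.univ.filter fun x => x ≠ 0 ∧ ρ g x = x
  let w : G → ℕ := fun g => p ^ Module.finrank (ZMod p) (fix ρ g)
  have hfx : ∀ g, (fx g).card ≤ w g := fun g => by
    rw [← Nat.card_eq_finsetCard]
    show _ ≤ p ^ Module.finrank (ZMod p) (fix ρ g)
    rw [← card_fix ρ g]
    exact Nat.card_le_card_of_injective
      (fun x => (⟨x.1, (mem_fix ρ).2 (Finset.mem_filter.1 x.2).2.2⟩ : fix ρ g))
      fun a b e => Subtype.ext (congrArg Subtype.val e :)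
  let S : Finset G := Finset.univ.filter fun g => g ∈ D ∧ g ∉ A
  let U : Finset V := Finset.univ.filter fun x => x ≠ 0 ∧ ∃ g ∈ S, ρ g x = x
  have hU : 2 * U.card ≤ ∑ g ∈ S, w g := by
    have htwo : ∀ x ∈ U, 2 ≤ (S.filter fun g => x ∈ fx g).card := by
      intro x hx
      obtain ⟨hx0, g, hg, hgx⟩ := (Finset.mem_filter.1 hx).2
      obtain ⟨-, hgD, hgA⟩ := Finset.mem_filter.1 hg
      have e1 : ρ g⁻¹ x = x := by conv_lhs => rw [← hgx]; rw [inv_apply_cancel]
      refine Finset.one_lt_card.2 ⟨g, ?_, g⁻¹, ?_, ?_⟩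
      · simp [fx, hg, hx0, hgx]
      · simp [fx, S, hx0, e1, hgD, hgA]
      · intro he
        refine hgA ?_
        obtain ⟨i, hi⟩ := hodd
        have h1 := pow_card_eq_one' (x := g)
        have h2 : g ^ 2 = 1 := by rw [pow_two]; nth_rewrite 2 [he]; rw [mul_inv_cancel]
        rw [hi, pow_succ, pow_mul, h2, one_pow, one_mul] at h1
        rw [h1]; exact one_mem A
    calc 2 * U.card = ∑ _x ∈ U, 2 := by rw [Finset.sum_const, smul_eq_mul, mul_comm]
      _ ≤ ∑ x ∈ U, (S.filter fun g => x ∈ fx g).card := Finset.sum_le_sum htwo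
      _ = ∑ x ∈ U, ∑ g ∈ S, if x ∈ fx g then 1 else 0 := Finset.sum_congr rfl fun x _ => Finset.card_filter _ _
      _ = ∑ g ∈ S, ∑ x ∈ U, if x ∈ fx g then 1 else 0 := Finset.sum_comm
      _ ≤ ∑ g ∈ S, w g := Finset.sum_le_sum fun g _ => by
          rw [← Finset.card_filter]
          exact (Finset.card_le_card fun x hx => (Finset.mem_filter.1 hx).2).trans (hfx g)
  have hcoset : ∀ y : G ⧸ A, ∑ g ∈ S.filter (fun g => (QuotientGroup.mk g : G ⧸ A) = y), w g ≤
      Nat.card A * X + Q := by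
    intro y
    set F := S.filter (fun g => (QuotientGroup.mk g : G ⧸ A) = y) with hF
    have hFA : F.card ≤ Nat.card A := by
      rcases F.eq_empty_or_nonempty with h0 | ⟨g₀, hg₀⟩
      · simp [h0]
      rw [← Nat.card_eq_finsetCard]
      refine Nat.card_le_card_of_injective (fun g : F => (⟨g₀⁻¹ * g.1, QuotientGroup.eq.1
        ((Finset.mem_filter.1 hg₀).2.trans (Finset.mem_filter.1 g.2).2.symm)⟩ : A)) fun a b hab => ?_
      exact Subtype.ext (mul_left_cancel (congrArg Subtype.val hab))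
    have hsmall : ∀ g, 2 * Module.finrank (ZMod p) (fix ρ g) ≤ d → w g ≤ X := fun g hg =>
      Nat.pow_le_pow_right (by omega) (by omega)
    by_cases hbig : ∃ g ∈ F, d < 2 * Module.finrank (ZMod p) (fix ρ g)
    · obtain ⟨g₁, hg₁, hg₁'⟩ := hbig
      rw [← Finset.add_sum_erase F w hg₁, add_comm]
      refine Nat.add_le_add ?_ ?_
      · refine le_trans (Finset.sum_le_card_nsmul _ _ X fun g hg => hsmall g ?_) ?_
        · obtain ⟨hne, hgF⟩ := Finset.mem_erase.1 hg
          have := h.fix_coset (QuotientGroup.eq.1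
            ((Finset.mem_filter.1 hg₁).2.trans (Finset.mem_filter.1 hgF).2.symm)) (Ne.symm hne)
          omega
        · rw [smul_eq_mul]
          exact Nat.mul_le_mul_right _ ((Finset.card_erase_le).trans hFA)
      · obtain ⟨-, hgD, hgA⟩ := Finset.mem_filter.1 (Finset.mem_filter.1 hg₁).1
        have := fix_above h hodd hB hBD hDC hDB hgD hgA
        exact Nat.pow_le_pow_right (by omega) (by omega)
    · push Not at hbig
      refine le_trans (Finset.sum_le_card_nsmul _ _ X fun g hg => hsmall g (hbig g hg)) ?_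
      rw [smul_eq_mul]
      exact (Nat.mul_le_mul_right _ hFA).trans (Nat.le_add_right _ _)
  haveI : Fintype (G ⧸ A) := Fintype.ofFinite _
  have hI : (S.image (fun g => (QuotientGroup.mk g : G ⧸ A))).card ≤ A.relIndex D := by
    have hsub : S.image (fun g => (QuotientGroup.mk g : G ⧸ A)) ⊆
        (Set.range fun q : ↥D ⧸ A.subgroupOf D => (QuotientGroup.mk ((q.out : D) : G) : G ⧸ A)).toFinset := by
      intro x hx
      obtain ⟨g, hg, rfl⟩ := Finset.mem_image.1 hx
      refine Set.mem_toFinset.2 ⟨QuotientGroup.mk ⟨g, (Finset.mem_filter.1 hg).2.1⟩, QuotientGroup.eq.2 ?_⟩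
      have := QuotientGroup.eq.1 ((QuotientGroup.mk (⟨g, (Finset.mem_filter.1 hg).2.1⟩ : D) :
        ↥D ⧸ A.subgroupOf D)).out_eq'
      exact this
    refine (Finset.card_le_card hsub).trans ?_
    rw [Set.toFinset_card, ← Nat.card_eq_fintype_card]
    exact Finite.card_range_le _
  have hsum : ∑ g ∈ S, w g ≤ A.relIndex D * (Nat.card A * X + Q) := by
    rw [← Finset.sum_fiberwise_of_maps_to (g := fun g => (QuotientGroup.mk g : G ⧸ A))
      (fun g hg => Finset.mem_image_of_mem _ hg) w]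
    refine (Finset.sum_le_card_nsmul _ _ _ fun x _ => hcoset x).trans ?_
    rw [smul_eq_mul]
    exact Nat.mul_le_mul_right _ hI
  have hlt := count_odd hP7 hA2 hTm he5 hem hX2 hQ3 hN hsm
  obtain ⟨v, -, hv⟩ := Finset.exists_mem_notMem_of_card_lt_card
    (s := insert (0 : V) U) (t := (Finset.univ : Finset V)) (by
      refine (Finset.card_insert_le _ _).trans_lt ?_
      rw [Finset.card_univ, ← Nat.card_eq_fintype_card]
      omega)
  rw [Finset.mem_insert, not_or] at hv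
  refine ⟨v, hv.1, fun g hg hgv => by_contra fun hg1 => ?_⟩
  by_cases hgA : g ∈ A
  · exact hv.1 (hfpf g hgA hg1 v hgv)
  · exact hv.2 (Finset.mem_filter.2 ⟨Finset.mem_univ _, hv.1, g, Finset.mem_filter.2 ⟨Finset.mem_univ _, hg, hgA⟩, hgv⟩)

end Cfsg.Agent.StabDL
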