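/-
Vector stabilisers in soluble linear groups, 16: groups of odd order and completely reducible modules.
-/
import Cfsg.Agent.Lib.StabDL.OddPrim
import Cfsg.Agent.Lib.StabDL.Glue

set_option autoImplicit false
set_option linter.style.haveILetI false
set_option linter.unusedSectionVars false
set_option maxHeartbeats 1000000

namespace Cfsg.Agent.StabDL

open Cfsg.Agent.PrimSol Cfsg.Agent.SolClasses Cfsg.Agent.OddBase

universe u v

/-- Two rigid colourings of a transitive group of odd order. -/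
theorem colour_odd : ∀ (n : ℕ) (G : Type u) [Group G] [Finite G], Group.IsSolvable G → Odd (Nat.card G) →
    ∀ U : Subgroup G, U.index = n →
      ∃ f : Fin 2 → G ⧸ U → Fin 2, (∀ i, ColDL G (f i) 0) ∧ ColInequiv G f := by
  intro n
  induction n using Nat.strong_induction_on with
  | _ n ih =>
  intro G _ _ hsol hodd U hn
  classical
  haveI := hsol
  by_cases hU : U = ⊤
  · subst hU
    haveI : Subsingleton (G ⧸ (⊤ : Subgroup G)) := QuotientGroup.subsingleton_quotient_top
    exact ⟨fun i _ => i, fun i z _ ω => Subsingleton.elim _ _,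
      fun i j g h => h ((1 : G) : G ⧸ (⊤ : Subgroup G))⟩
  by_cases hmax : IsCoatom U
  · haveI := Fintype.ofFinite (G ⧸ U)
    haveI : Nontrivial (G ⧸ U) := Finite.one_lt_card_iff_nontrivial.1
      (Nat.one_lt_iff_ne_zero_and_ne_one.2
        ⟨Subgroup.index_ne_zero_of_finite, fun h => hU (Subgroup.index_eq_one.1 h)⟩)
    let Φ : G →* Equiv.Perm (G ⧸ U) := MulAction.toPermHom G (G ⧸ U)
    have hG : MulAction.IsPreprimitive G (G ⧸ U) :=
      (MulAction.isCoatom_stabilizer_iff_preprimitive G ((1 : G) : G ⧸ U)).1 (by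
        rwa [MulAction.stabilizer_quotient])
    have happ : ∀ (g : G) (ω : G ⧸ U), (Φ.rangeRestrict g) • ω = g • ω := fun g ω => rfl
    haveI : MulAction.IsPretransitive Φ.range (G ⧸ U) := ⟨fun a c => by
      obtain ⟨g, hg⟩ := MulAction.exists_smul_eq G a c
      exact ⟨Φ.rangeRestrict g, hg⟩⟩
    have hP : MulAction.IsPreprimitive Φ.range (G ⧸ U) :=
      { isTrivialBlock_of_isBlock := fun {B} hB => hG.isTrivialBlock_of_isBlock fun g₁ g₂ h =>
          hB (g₁ := Φ.rangeRestrict g₁) (g₂ := Φ.rangeRestrict g₂) h }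
    obtain ⟨Y, hY⟩ := exists_regular_subset (G := Φ.range) (Ω := G ⧸ U) hP
      (Odd.of_dvd_nat hodd (Subgroup.card_range_dvd Φ))
      (Group.isSolvable_of_surjective Φ.rangeRestrict_surjective)
      (pairsBound (Fintype.card (G ⧸ U) + 1)).orderBound (Nat.lt_succ_self _)
    have h0 : ColDL G (col2 Y) 0 := fun z _ ω => by
      have h1 : Φ.rangeRestrict (z : G) = 1 := hY _ fun x => by
        have h2 := z.2 x
        rw [happ]
        by_cases ha : (z : G) • x ∈ Y <;> by_cases hb : x ∈ Y <;> simp [col2, ha, hb] at h2 ⊢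
      rw [← happ, h1, one_smul]
    refine ⟨fun i => col2 (![Y, Yᶜ] i), fun i => ?_, colInequiv_of_sizes fun i j h => ?_⟩
    · fin_cases i
      exacts [h0, col2_compl h0]
    · have h' := congrFun h 0
      change sizes (col2 (![Y, Yᶜ] i)) 0 = sizes (col2 (![Y, Yᶜ] j)) 0 at h'
      rw [sizes_col2, sizes_col2] at h'
      have ht : Odd (Fintype.card (G ⧸ U)) := by
        rw [← Nat.card_eq_fintype_card]
        exact Odd.of_dvd_nat hodd U.index_dvd_card
      obtain ⟨k, hk⟩ := ht
      have := Finset.card_le_univ Y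
      fin_cases i <;> fin_cases j <;> first | rfl | (exfalso; simp [Finset.card_compl] at h'; omega)
  · obtain ⟨K, hUK, -, hs, hs', -, -⟩ := exists_between hU hmax
    obtain ⟨F, hF, hFi⟩ := ih K.index (hn ▸ hs') G hsol hodd K rfl
    obtain ⟨q, hq, hqi⟩ := ih (U.relIndex K) (hn ▸ hs) K inferInstance
      (Odd.of_dvd_nat hodd (Subgroup.card_subgroup_dvd_card K)) (U.subgroupOf K) rfl
    exact col_compose hUK.le F hF hFi q hq hqi

/-- A nonzero vector with abelian stabiliser, irreducible odd case. -/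
theorem odd_irred {p : ℕ} [Fact p.Prime] (hp2 : p ≠ 2) : ∀ (n : ℕ) (V : Type u) [AddCommGroup V]
    [Module (ZMod p) V] [Finite V] [Nontrivial V] (G : Type u) [Group G] [Finite G]
    (ρ : G →* Module.End (ZMod p) V), Module.finrank (ZMod p) V = n → Function.Injective ρ → Irred ρ →
    Group.IsSolvable G → Odd (Nat.card G) → ∃ v : V, v ≠ 0 ∧ DL (stab ρ v) 1 := by
  intro n
  induction n using Nat.strong_induction_on with
  | _ n ih =>
  intro V _ _ _ _ G _ _ ρ hn hρ hirr hsol hodd
  classical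
  haveI := hsol
  by_cases hprim : NoDecomp ρ
  · exact odd_primitive hρ hirr hprim hsol hodd hp2
  obtain ⟨B⟩ := exists_blocks hprim
  let i0 : Fin B.t := ⟨0, by have := B.two_le; omega⟩
  haveI : Nontrivial (B.D i0) := Submodule.nontrivial_iff_ne_bot.2 (B.D_ne i0)
  haveI : Finite (Module.End (ZMod p) (B.D i0)) := Finite.of_injective _ DFunLike.coe_injective
  haveI : Finite (Module.End (ZMod p) (B.D i0))ˣ := Finite.of_injective _ Units.val_injective
  set f := (B.blockHom i0).toHomUnits with hf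
  let τ : f.range →* Module.End (ZMod p) (B.D i0) := (Units.coeHom _).comp f.range.subtype
  have hlt : Module.finrank (ZMod p) (B.D i0) < n := by
    rw [B.rank, ← hn, ← B.dim]
    exact lt_mul_of_one_lt_left B.s_pos B.two_le
  have hoddf : Odd (Nat.card f.range) := Odd.of_dvd_nat
    (Odd.of_dvd_nat hodd (Subgroup.card_subgroup_dvd_card _)) (Subgroup.card_range_dvd f)
  obtain ⟨x, hx, hxd⟩ := ih _ hlt (B.D i0) f.range τ rfl (Units.val_injective.comp Subtype.val_injective)
    (fun X hX => B.blockHom_irred hirr i0 X fun k w hw => hX ⟨f k, k, rfl⟩ w hw)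
    (Group.isSolvable_of_surjective f.rangeRestrict_surjective) hoddf
  have hquot : ∀ (w : B.D i0) (b : ℕ), DL (stab τ w) b → DL (stab (B.blockHom i0) w ⧸
      (B.blockHom i0).ker.subgroupOf (stab (B.blockHom i0) w)) b := by
    intro w b h
    let ψ : stab (B.blockHom i0) w →* stab τ w :=
      (f.rangeRestrict.comp (Subgroup.subtype _)).codRestrict _ fun k => k.2
    have hψ : ψ.ker = (B.blockHom i0).ker.subgroupOf (stab (B.blockHom i0) w) := by
      ext k
      rw [MonoidHom.mem_ker, Subgroup.mem_subgroupOf, MonoidHom.mem_ker]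
      exact ⟨fun e => congrArg (fun z : stab τ w => (((z : f.range) : (Module.End (ZMod p) (B.D i0))ˣ) :
        Module.End (ZMod p) (B.D i0))) e, fun e => Subtype.ext (Subtype.ext (Units.ext e))⟩
    refine h.of_injective (QuotientGroup.lift _ ψ hψ.ge) ?_
    rw [injective_iff_map_eq_one]
    intro z hz
    obtain ⟨k, rfl⟩ := QuotientGroup.mk_surjective z
    exact (QuotientGroup.eq_one_iff k).2 (hψ.le hz)
  have hneg : stab τ (-x) ≤ stab τ x := fun g hg => neg_injective ((map_neg (τ g) x).symm.trans hg)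
  have hne : ∀ k, τ k x ≠ -x := by
    intro k hk
    have h2 : k ^ 2 ∈ stab τ x := by
      rw [mem_stab, pow_two, map_mul, Module.End.mul_apply, hk, map_neg, hk, neg_neg]
    obtain ⟨i, hi⟩ := hoddf
    have h1 : k = (k ^ 2) ^ (i + 1) := by
      rw [← pow_mul, show 2 * (i + 1) = Nat.card f.range + 1 by omega, pow_succ, pow_card_eq_one', one_mul]
    have h3 : k ∈ stab τ x := h1 ▸ Subgroup.pow_mem _ h2 _
    rw [mem_stab, hk, neg_eq_iff_add_eq_zero, ← two_smul (ZMod p) x] at h3
    refine hx ((smul_eq_zero.1 h3).resolve_left fun e => hp2 ?_)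
    exact (Nat.prime_dvd_prime_iff_eq Fact.out Nat.prime_two).1
      ((ZMod.natCast_eq_zero_iff 2 p).1 (by exact_mod_cast e))
  let w : Fin 2 → B.D i0 := ![x, -x]
  have hw : ∀ a, DL (stab τ (w a)) 1 := fun a => by
    fin_cases a
    exacts [hxd, DL.of_le hneg hxd]
  have hwi : Inequiv (B.blockHom i0) w := by
    intro i j k hk
    have hk' : τ ⟨f k, k, rfl⟩ (w i) = w j := hk
    fin_cases i <;> fin_cases j <;> first
      | rfl
      | exact absurd hk' (hne _)
      | exact absurd (Inequiv.symm_apply τ hk') (hne _)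
  obtain ⟨vec, -, -, hvd⟩ := exists_vec B hρ hirr i0 w (fun a => hquot _ _ (hw a)) hwi
  obtain ⟨F, hF, -⟩ := colour_odd _ G hsol hodd (B.stab i0) rfl
  have hd := hvd _ _ (hF 0)
  by_cases h0 : vec (F 0) = 0
  · obtain ⟨y, hy⟩ := exists_ne (0 : V)
    rw [h0] at hd
    have hall : ∀ g : G, g ∈ stab ρ (0 : V) := fun g => map_zero _
    exact ⟨y, hy, (hd.of_injective ((MonoidHom.id G).codRestrict (stab ρ (0 : V)) hall)
      fun a b e => congrArg Subtype.val e).subgroup _⟩
  · exact ⟨_, h0, hd⟩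

variable {p : ℕ} [Fact p.Prime] {V : Type u} [AddCommGroup V] [Module (ZMod p) V] [Finite V]
  {G : Type u} [Group G] [Finite G] (ρ : G →* Module.End (ZMod p) V)

/-- Stabilisers of derived length at most nine. -/
theorem cr_nine (hρ : Function.Injective ρ) (hsol : Group.IsSolvable G)
    (hcr : ∀ W : Submodule (ZMod p) V, (∀ g, ∀ w ∈ W, ρ g w ∈ W) →
      ∃ W' : Submodule (ZMod p) V, (∀ g, ∀ w ∈ W', ρ g w ∈ W') ∧ IsCompl W W') : ∃ v, DL (stab ρ v) 9 :=
  cr_reduce (Nat.card G) 9 (fun W _ _ _ _ H _ _ τ hτ hirr hs _ => irred_nine τ hτ hirr hs) _ V G ρ le_rfl hρ hsol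
    dvd_rfl hcr

/-- Abelian stabilisers in odd order. -/
theorem cr_odd (hρ : Function.Injective ρ) (hsol : Group.IsSolvable G) (hodd : Odd (Nat.card G)) (hp2 : p ≠ 2)
    (hcr : ∀ W : Submodule (ZMod p) V, (∀ g, ∀ w ∈ W, ρ g w ∈ W) →
      ∃ W' : Submodule (ZMod p) V, (∀ g, ∀ w ∈ W', ρ g w ∈ W') ∧ IsCompl W W') : ∃ v, DL (stab ρ v) 1 :=
  cr_reduce (Nat.card G) 1 (fun W _ _ _ _ H _ _ τ hτ hirr hs hN =>
    have ⟨v, _, h⟩ := odd_irred hp2 _ W H τ rfl hτ hirr hs (Odd.of_dvd_nat hodd hN)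
    ⟨v, h⟩) _ V G ρ le_rfl hρ hsol dvd_rfl hcr

end Cfsg.Agent.StabDL
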